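import Groth.Agent.EqInt.K957.Bundle

/-!
# Equivariant maps of principal bundles are cartesian
-/

set_option autoImplicit false
universe u
open CategoryTheory CategoryTheory.Limits MonoidalCategory CartesianMonoidalCategory MonObj GrpObj AlgebraicGeometry

namespace K957.Cart

/-- right cancellation of cartesian squares along an fpqc covering of the base -/
theorem isPullback_of_paste {A P P' B B' C : Scheme.{u}} {s : A ⟶ P} {F : P ⟶ P'} {t : A ⟶ C}
    {q : P ⟶ B} {q' : P' ⟶ B'} {c : C ⟶ B} {h : B ⟶ B'} (HL : IsPullback s t q c)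
    (HO : IsPullback (s ≫ F) t q' (c ≫ h)) (w : F ≫ q' = q ≫ h)
    [Flat c] [Surjective c] [QuasiCompact c] : IsPullback F q q' h := by
  let R := pullback q' h
  let θ : P ⟶ R := pullback.lift F q w
  have θ1 : θ ≫ pullback.fst q' h = F := pullback.lift_fst _ _ _
  have θ2 : θ ≫ pullback.snd q' h = q := pullback.lift_snd _ _ _
  have HR : IsPullback (pullback.fst q' h) (pullback.snd q' h) q' h := IsPullback.of_hasPullback q' h
  let R' := pullback (pullback.snd q' h) c
  have HR' : IsPullback (pullback.fst (pullback.snd q' h) c) (pullback.snd (pullback.snd q' h) c)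
    (pullback.snd q' h) c := IsPullback.of_hasPullback _ _
  have HC := HR'.paste_horiz HR
  let θ' : A ⟶ R' := HR'.lift (s ≫ θ) t (by rw [Category.assoc, θ2, HL.w])
  have e1 : θ' ≫ pullback.fst (pullback.snd q' h) c = s ≫ θ := HR'.lift_fst _ _ _
  have e2 : θ' ≫ pullback.snd (pullback.snd q' h) c = t := HR'.lift_snd _ _ _
  have hθ' : IsIso θ' := by
    let E := HO.isoIsPullback _ _ HC
    have : θ' = E.hom := by
      apply HC.hom_ext
      · rw [IsPullback.isoIsPullback_hom_fst, ← Category.assoc, e1, Category.assoc, θ1]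
      · rw [IsPullback.isoIsPullback_hom_snd, e2]
    rw [this]; infer_instance
  have H1 : IsPullback s θ' θ (pullback.fst (pullback.snd q' h) c) := by
    refine IsPullback.of_bot ?_ e1.symm HR'
    rw [e2, θ2]
    exact HL
  have hQ : (@Surjective ⊓ @Flat ⊓ @QuasiCompact : MorphismProperty Scheme.{u})
      (pullback.fst (pullback.snd q' h) c) := by
    refine ⟨⟨?_, ?_⟩, ?_⟩
    · exact MorphismProperty.of_isPullback (P := @Surjective) HR'.flip ‹_›
    · exact MorphismProperty.of_isPullback (P := @Flat) HR'.flip ‹_›
    · exact MorphismProperty.of_isPullback (P := @QuasiCompact) HR'.flip ‹_›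
  have hθ : IsIso θ := MorphismProperty.of_isPullback_of_descendsAlong
    (P := MorphismProperty.isomorphisms Scheme.{u}) H1.flip hQ hθ'
  exact IsPullback.of_iso_pullback ⟨w⟩ (asIso θ) θ1 θ2

variable {S : Scheme.{u}} {G : Over S} [GrpObj G]

omit [GrpObj G] in
/-- the square of an arbitrary morphism and its product with `G` -/
theorem isPullback_whisker {P P' : Over S} (F : P ⟶ P') :
    IsPullback (G ◁ F) (snd G P) (snd G P') F := by
  refine ⟨⟨by rw [whiskerLeft_snd]⟩, ⟨PullbackCone.IsLimit.mk _
    (fun c => lift (c.fst ≫ fst G P') c.snd) ?_ ?_ ?_⟩⟩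
  · intro c
    apply CartesianMonoidalCategory.hom_ext
    · simp
    · simp [c.condition]
  · intro c
    simp
  · intro c m h1 h2
    apply CartesianMonoidalCategory.hom_ext
    · rw [lift_fst, ← h1]; simp
    · rw [lift_snd, h2]

omit [GrpObj G] in
theorem isPullback_whisker_left {P P' : Over S} (F : P ⟶ P') :
    IsPullback (G ◁ F).left (snd G P).left (snd G P').left F.left :=
  (isPullback_whisker F).map (Over.forget S)

/-- an equivariant map of principal bundles is cartesian over the map of bases -/
theorem isPullback_of_equivariant {P P' B B' : Over S} (a : AlgGrp.Action G P) (a' : AlgGrp.Action G P')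
    (F : P ⟶ P') (hF : AlgGrp.Action.IsEquivariant a a' F)
    (q : P ⟶ B) (hq : GIT.IsInvariant a q) (hc : IsIso (GIT.PsiY a q hq))
    (q' : P' ⟶ B') (hq' : GIT.IsInvariant a' q') (hc' : IsIso (GIT.PsiY a' q' hq'))
    [Flat q.left] [Surjective q.left] [QuasiCompact q.left]
    (h : B ⟶ B') (w : F ≫ q' = q ≫ h) : IsPullback F.left q.left q'.left h.left := by
  have HL := Bundle.isPullback_left a q hq hc
  have HR := Bundle.isPullback_left a' q' hq' hc'
  have HO := (isPullback_whisker_left (G := G) F).paste_horiz HR
  have e : (G ◁ F).left ≫ a'.act.left = a.act.left ≫ F.left := by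
    rw [← Over.comp_left, ← Over.comp_left]; exact congrArg CommaMorphism.left hF.symm
  have w' : F.left ≫ q'.left = q.left ≫ h.left := by
    rw [← Over.comp_left, ← Over.comp_left, w]
  rw [e, w'] at HO
  exact isPullback_of_paste HL HO w'

end K957.Cart
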