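import Groth.Agent.EqInt.K957.QB
import Groth.Agent.Books.AlgPtsIrred

/-!
# The diagonal action of a connected group on `X × U`, `U` a principal bundle with a quasi-section
-/

set_option autoImplicit false
universe u
open CategoryTheory CategoryTheory.Limits MonoidalCategory CartesianMonoidalCategory MonObj GrpObj AlgebraicGeometry

namespace K957.Diag

open K957.Pts K957.Glue K957.QB

section general

variable {S : Scheme.{u}} {G X U B T : Over S} [GrpObj G] (a : AlgGrp.Action G X) (b : AlgGrp.Action G U)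
  (s : T ⟶ U)

theorem isPullback_whisker (X : Over S) {U T : Over S} (s : T ⟶ U) :
    IsPullback (X ◁ s) (snd X T) (snd X U) s := by
  refine ⟨⟨by rw [whiskerLeft_snd]⟩, ⟨PullbackCone.IsLimit.mk _
    (fun c => lift (c.fst ≫ fst X U) c.snd) ?_ ?_ ?_⟩⟩
  · intro c
    apply CartesianMonoidalCategory.hom_ext
    · simp
    · simp [c.condition]
  · intro c
    simp
  · intro c m h1 h2
    apply CartesianMonoidalCategory.hom_ext
    · rw [lift_fst, ← h1]; simp
    · rw [lift_snd, h2]

theorem isPullback_qmap : IsPullback (qmap (a.prod b) (X ◁ s)) (G ◁ snd X T) (snd X U) (qmap b s) := by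
  have e1 : ∀ (T' : Over S) (h : T' ⟶ G) (y : T' ⟶ X ⊗ T), lift h y ≫ qmap (a.prod b) (X ◁ s) =
      lift (dot a h⁻¹ (y ≫ fst X T)) (dot b h⁻¹ (y ≫ snd X T ≫ s)) := by
    intro T' h y
    rw [lift_qmap]
    have : y ≫ X ◁ s = lift (y ≫ fst X T) (y ≫ snd X T ≫ s) := by
      apply CartesianMonoidalCategory.hom_ext <;> simp
    rw [this, dot_prod]
  refine ⟨⟨?_⟩, ⟨PullbackCone.IsLimit.mk _ (fun c => lift (c.snd ≫ fst G T)
    (lift (dot a (c.snd ≫ fst G T) (c.fst ≫ fst X U)) (c.snd ≫ snd G T))) ?_ ?_ ?_⟩⟩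
  · apply AlgGrp.Action.hom_ext_lift₂
    intro T' h y
    rw [← Category.assoc, e1, lift_snd, lift_whiskerLeft_assoc, lift_qmap, Category.assoc]
  · intro c
    have h1 := c.condition
    have h2 : c.snd ≫ qmap b s = dot b (c.snd ≫ fst G T)⁻¹ (c.snd ≫ snd G T ≫ s) := by
      rw [← Category.assoc, ← lift_qmap, lift_comp_fst_snd]
    rw [e1]
    apply CartesianMonoidalCategory.hom_ext
    · rw [lift_fst, lift_fst, inv_dot_dot]
    · rw [lift_snd, lift_snd_assoc, h1, h2, Category.assoc]
  · intro c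
    apply CartesianMonoidalCategory.hom_ext
    · simp
    · simp
  · intro c m h1 h2
    have h3 : m ≫ fst G (X ⊗ T) = c.snd ≫ fst G T := by
      rw [← h2]; simp
    apply CartesianMonoidalCategory.hom_ext
    · rw [lift_fst, h3]
    · rw [lift_snd]
      apply CartesianMonoidalCategory.hom_ext
      · rw [lift_fst, ← h1, ← h3]
        have h4 : m = lift (m ≫ fst _ _) (m ≫ snd _ _) := by rw [lift_comp_fst_snd]
        rw [Category.assoc]
        conv_rhs => rw [h4]
        rw [← Category.assoc, e1, lift_fst, lift_fst]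
        simp only [Category.assoc]
        rw [dot_inv_dot]
      · rw [lift_snd, ← h2]; simp

variable {π : U ⟶ B} (H : IsPullback b.act (snd G U) π π) {f : T ⟶ B} (hs : s ≫ π = f)

include hs H in
theorem isPullback_qmap' : IsPullback (qmap b s) (snd G T) π f := by
  have hex : ∀ c : PullbackCone π f, ∃ g : c.pt ⟶ G, dot b g c.fst = c.snd ≫ s := fun c =>
    exists_dot b H (c.snd ≫ s) c.fst (by rw [Category.assoc, hs, c.condition])
  choose gg hgg using hex
  refine ⟨⟨?_⟩, ⟨PullbackCone.IsLimit.mk _ (fun c => lift (gg c) c.snd) ?_ ?_ ?_⟩⟩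
  · rw [qmap, dot_inv b H.w, Category.assoc, hs]
  · intro c
    rw [lift_qmap, ← hgg, inv_dot_dot]
  · intro c
    rw [lift_snd]
  · intro c m h1 h2
    apply CartesianMonoidalCategory.hom_ext
    · rw [lift_fst]
      apply dot_cancel b H (y := c.fst)
      rw [hgg, ← h1, ← h2]
      have h4 : m = lift (m ≫ fst _ _) (m ≫ snd _ _) := by rw [lift_comp_fst_snd]
      conv_lhs => rw [h4]
      rw [lift_qmap, lift_fst, dot_inv_dot]
    · rw [lift_snd, h2]

end general

section field

open Groth.Agent.Books.AlgPts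

variable {k : Type u} [Field k] {G X U B T : Over (Spec (CommRingCat.of k))}
  [GrpObj G] (a : AlgGrp.Action G X) (b : AlgGrp.Action G U)

/-- translation by a rational point -/
noncomputable def tr (c : 𝟙_ (Over (Spec (CommRingCat.of k))) ⟶ G) : X ⟶ X :=
  dot a (toUnit X ≫ c) (𝟙 X)

theorem comp_tr (c : 𝟙_ (Over (Spec (CommRingCat.of k))) ⟶ G) {T : Over (Spec (CommRingCat.of k))}
    (x : T ⟶ X) : x ≫ tr a c = dot a (toUnit T ≫ c) x := by
  rw [tr, comp_dot, Category.comp_id, ← Category.assoc, toUnit_unique (x ≫ toUnit X) (toUnit T)]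

theorem tr_tr (c d : 𝟙_ (Over (Spec (CommRingCat.of k))) ⟶ G) (h : d * c = 1) :
    tr a c ≫ tr a d = 𝟙 X := by
  rw [comp_tr, tr, ← mul_dot, ← MonObj.comp_mul, h, MonObj.comp_one, one_dot]

instance (c : 𝟙_ (Over (Spec (CommRingCat.of k))) ⟶ G) : IsIso (tr a c) :=
  ⟨tr a c⁻¹, tr_tr a _ _ (inv_mul_cancel c), tr_tr a _ _ (mul_inv_cancel c)⟩

variable [IsAlgClosed k]

theorem exists_affine [LocallyOfFiniteType G.hom] [IrreducibleSpace G.left]
    (x₀ : 𝟙_ (Over (Spec (CommRingCat.of k))) ⟶ X)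
    (s : Set (𝟙_ (Over (Spec (CommRingCat.of k))) ⟶ G)) (hs : s.Finite) :
    ∃ V : X.left.Opens, IsAffineOpen V ∧ ∀ h ∈ s, pt (dot a h x₀) ∈ V := by
  obtain ⟨X₀, hX₀, hx₀, -⟩ := exists_isAffineOpen_mem_and_subset (U := ⊤) (x := pt x₀) trivial
  let F : (𝟙_ (Over (Spec (CommRingCat.of k))) ⟶ G) → (G ⟶ X) := fun h =>
    dot a (𝟙 G * (toUnit G ≫ h)) (toUnit G ≫ x₀)
  have hF : ∀ (c h : 𝟙_ (Over (Spec (CommRingCat.of k))) ⟶ G), c ≫ F h = dot a (c * h) x₀ := by
    intro c h
    have e : c ≫ toUnit G = 𝟙 _ := toUnit_unique _ _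
    simp only [F]
    rw [comp_dot, MonObj.comp_mul, Category.comp_id, ← Category.assoc, e, Category.id_comp,
      ← Category.assoc, e, Category.id_comp]
  have h1 := (isIrreducible_iff_sInter (s := (Set.univ : Set G.left))).mp
    (IrreducibleSpace.isIrreducible_univ G.left)
    (hs.toFinset.image (fun h => ((F h).left ⁻¹ᵁ X₀ : Set G.left)))
    (by
      intro u hu
      obtain ⟨h, -, rfl⟩ := Finset.mem_image.mp hu
      exact ((F h).left ⁻¹ᵁ X₀).isOpen)
    (by
      intro u hu
      obtain ⟨h, -, rfl⟩ := Finset.mem_image.mp hu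
      refine ⟨pt h⁻¹, trivial, ?_⟩
      change (F h).left (pt h⁻¹) ∈ X₀
      rw [← pt_comp, hF, inv_mul_cancel, one_dot]
      exact hx₀)
  have h2 : IsOpen (⋂₀ (↑(hs.toFinset.image (fun h => ((F h).left ⁻¹ᵁ X₀ : Set G.left))) : Set (Set G.left))) := by
    apply Set.Finite.isOpen_sInter (Finset.finite_toSet _)
    intro u hu
    obtain ⟨h, -, rfl⟩ := Finset.mem_image.mp (Finset.mem_coe.mp hu)
    exact ((F h).left ⁻¹ᵁ X₀).isOpen
  rw [Set.univ_inter] at h1
  obtain ⟨c, hc⟩ := exists_pt_mem (X := G) h1 h2.isLocallyClosed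
  have hiso : IsIso (tr a c).left :=
    ((Over.forget (Spec (CommRingCat.of k))).mapIso (asIso (tr a c))).isIso_hom
  refine ⟨(tr a c).left ⁻¹ᵁ X₀, hX₀.preimage_of_isIso (tr a c).left, fun h hh => ?_⟩
  have h3 := hc _ (Finset.mem_coe.mpr (Finset.mem_image_of_mem _ (hs.mem_toFinset.mpr hh)))
  change (tr a c).left (pt (dot a h x₀)) ∈ X₀
  rw [← pt_comp, comp_tr, ← mul_dot]
  change (F h).left (pt c) ∈ X₀ at h3
  rw [← pt_comp, hF] at h3
  have e : toUnit (𝟙_ (Over (Spec (CommRingCat.of k)))) = 𝟙 _ := toUnit_unique _ _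
  rw [e, Category.id_comp]
  exact h3

theorem hasBundle_local [LocallyOfFiniteType G.hom] [QuasiCompact G.hom] [Flat G.hom]
    [ConnectedSpace G.left] [LocallyOfFiniteType X.hom] [QuasiCompact X.hom]
    [LocallyOfFiniteType U.hom] [QuasiCompact U.hom] [LocallyOfFiniteType T.hom] [IsAffine T.left]
    {π : U ⟶ B} (H : IsPullback b.act (snd G U) π π) {f : T ⟶ B} (s : T ⟶ U) (hs : s ≫ π = f)
    (hf : Mor2.IsFinLocFree f.left) (hf' : Surjective f.left) : HasBundle (a.prod b) := by
  have : IsNoetherianRing (CommRingCat.of k) := inferInstanceAs (IsNoetherianRing k)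
  have hN : IsLocallyNoetherian (Spec (CommRingCat.of k)) := inferInstance
  have : IrreducibleSpace G.left := Groth.Agent.Books.AlgPtsIrred.irreducibleSpace_of_connectedSpace G
  have i1 : LocallyOfFiniteType (X ⊗ U).hom := by
    rw [← Over.w (snd X U)]
    have : LocallyOfFiniteType (snd X U).left :=
      MorphismProperty.pullback_snd (P := @LocallyOfFiniteType) _ _ ‹_›
    infer_instance
  have i2 : QuasiCompact (X ⊗ U).hom := by
    rw [← Over.w (snd X U)]
    have : QuasiCompact (snd X U).left :=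
      MorphismProperty.pullback_snd (P := @QuasiCompact) _ _ ‹_›
    infer_instance
  have i3 : LocallyOfFiniteType (X ⊗ T).hom := by
    rw [← Over.w (snd X T)]
    have : LocallyOfFiniteType (snd X T).left :=
      MorphismProperty.pullback_snd (P := @LocallyOfFiniteType) _ _ ‹_›
    infer_instance
  have i4 : CompactSpace (X ⊗ U).left := (quasiCompact_iff_compactSpace (f := (X ⊗ U).hom)).mp i2
  have i5 : IsLocallyNoetherian (X ⊗ U).left := LocallyOfFiniteType.isLocallyNoetherian (X ⊗ U).hom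
  have i6 : IsNoetherian (X ⊗ U).left := ⟨⟩
  have hfree : ∀ (T : Over (Spec (CommRingCat.of k))) (g g' : T ⟶ G) (y : T ⟶ X ⊗ U),
      dot (a.prod b) g y = dot (a.prod b) g' y → g = g' := by
    intro T g g' y h
    have h' := h =≫ snd X U
    rw [dot_prod_snd, dot_prod_snd] at h'
    exact dot_cancel b H h'
  have H1 := isPullback_left (isPullback_qmap a b s)
  have H2 := isPullback_left (isPullback_qmap' b s H hs)
  obtain ⟨f1, f2, f3⟩ := hf
  have i7 : LocallyOfFiniteType (X ◁ s).left := Bundle.locallyOfFiniteType_left _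
  have j1 : IsFinite (qmap (a.prod b) (X ◁ s)).left :=
    MorphismProperty.of_isPullback (P := @IsFinite) H1.flip
      (MorphismProperty.of_isPullback (P := @IsFinite) H2.flip f1)
  have j2 : Flat (qmap (a.prod b) (X ◁ s)).left :=
    MorphismProperty.of_isPullback (P := @Flat) H1.flip
      (MorphismProperty.of_isPullback (P := @Flat) H2.flip f2)
  have j3 : LocallyOfFinitePresentation (qmap (a.prod b) (X ◁ s)).left :=
    MorphismProperty.of_isPullback (P := @LocallyOfFinitePresentation) H1.flip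
      (MorphismProperty.of_isPullback (P := @LocallyOfFinitePresentation) H2.flip f3)
  have j4 : Surjective (qmap (a.prod b) (X ◁ s)).left :=
    MorphismProperty.of_isPullback (P := @Surjective) H1.flip
      (MorphismProperty.of_isPullback (P := @Surjective) H2.flip hf')
  refine hasBundle_of_qmap (a.prod b) (X ◁ s) hfree ⟨j1, j2, j3⟩ j4
    (orbit_cond (a.prod b) (X ◁ s) j1 ?_)
  intro x r hr hrs
  obtain ⟨V, hV, hVr⟩ := exists_affine a (x ≫ fst X T) (Prod.fst '' r) (hr.image _)
  have i8 : IsAffineHom (fst X T).left :=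
    MorphismProperty.pullback_fst (P := @IsAffineHom) _ _ (inferInstanceAs (IsAffineHom T.hom))
  refine ⟨(fst X T).left ⁻¹ᵁ V, hV.preimage _, fun q hq => ?_⟩
  have h1 := hVr q.1 ⟨q, hq, rfl⟩
  have h2 := hrs q hq =≫ fst X U
  rw [dot_prod_fst] at h2
  simp only [Category.assoc, whiskerLeft_fst] at h2
  rw [← h2, pt_comp] at h1
  exact h1

end field

end K957.Diag
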