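import Groth.Prelude.Def_W4bk4git07Quot
import Groth.Prelude.Def_ChGrp

/-!
# Actions and principal bundles on points
-/

set_option autoImplicit false
universe u
open CategoryTheory CategoryTheory.Limits MonoidalCategory CartesianMonoidalCategory MonObj GrpObj AlgebraicGeometry

namespace K957.Pts

variable {S : Scheme.{u}} {G X Y X' Y' : Over S}

/-- a square in `Over S` is cartesian if the underlying square of schemes is -/
theorem isPullback_over {A B C D : Over S} {f : A ⟶ B} {g : A ⟶ C} {h : B ⟶ D} {k : C ⟶ D}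
    (H : IsPullback f.left g.left h.left k.left) : IsPullback f g h k := by
  have w : f ≫ h = g ≫ k := Over.OverMorphism.ext H.w
  refine ⟨⟨w⟩, ⟨PullbackCone.IsLimit.mk _ (fun c => Over.homMk (H.lift c.fst.left c.snd.left
    (congrArg CommaMorphism.left c.condition)) ?_) ?_ ?_ ?_⟩⟩
  · rw [← Over.w f, H.lift_fst_assoc, Over.w]
  · intro c
    exact Over.OverMorphism.ext (H.lift_fst _ _ _)
  · intro c
    exact Over.OverMorphism.ext (H.lift_snd _ _ _)
  · intro c m h1 h2
    apply Over.OverMorphism.ext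
    apply H.hom_ext
    · refine Eq.trans ?_ (H.lift_fst _ _ _).symm
      exact congrArg CommaMorphism.left h1
    · refine Eq.trans ?_ (H.lift_snd _ _ _).symm
      exact congrArg CommaMorphism.left h2

theorem isPullback_left {A B C D : Over S} {f : A ⟶ B} {g : A ⟶ C} {h : B ⟶ D} {k : C ⟶ D}
    (H : IsPullback f g h k) : IsPullback f.left g.left h.left k.left := H.map (Over.forget S)

variable [GrpObj G]

/-- `g • x` on points -/
noncomputable def dot (a : AlgGrp.Action G X) {T : Over S} (g : T ⟶ G) (x : T ⟶ X) : T ⟶ X :=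
  lift g x ≫ a.act

variable (a : AlgGrp.Action G X)

theorem one_dot {T : Over S} (x : T ⟶ X) : dot a 1 x = x := a.lift_one_act x

theorem mul_dot {T : Over S} (g h : T ⟶ G) (x : T ⟶ X) : dot a (g * h) x = dot a g (dot a h x) :=
  a.lift_mul_act g h x

theorem comp_dot {T T' : Over S} (f : T' ⟶ T) (g : T ⟶ G) (x : T ⟶ X) :
    f ≫ dot a g x = dot a (f ≫ g) (f ≫ x) := by
  rw [dot, dot, comp_lift_assoc]

theorem inv_dot_dot {T : Over S} (g : T ⟶ G) (x : T ⟶ X) : dot a g⁻¹ (dot a g x) = x := by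
  rw [← mul_dot, inv_mul_cancel, one_dot]

theorem dot_inv_dot {T : Over S} (g : T ⟶ G) (x : T ⟶ X) : dot a g (dot a g⁻¹ x) = x := by
  rw [← mul_dot, mul_inv_cancel, one_dot]

theorem dot_comp {a' : AlgGrp.Action G X'} {F : X ⟶ X'} (hF : AlgGrp.Action.IsEquivariant a a' F)
    {T : Over S} (g : T ⟶ G) (x : T ⟶ X) : dot a g x ≫ F = dot a' g (x ≫ F) := by
  rw [dot, dot, Category.assoc, hF, lift_whiskerLeft_assoc]

theorem isEquivariant_of_dot {a' : AlgGrp.Action G X'} {F : X ⟶ X'}
    (h : ∀ (T : Over S) (g : T ⟶ G) (x : T ⟶ X), dot a g x ≫ F = dot a' g (x ≫ F)) :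
    AlgGrp.Action.IsEquivariant a a' F := by
  apply AlgGrp.Action.hom_ext_lift₂
  intro T g x
  have := h T g x
  rw [dot, dot, Category.assoc] at this
  rw [this, lift_whiskerLeft_assoc]

theorem dot_inv {φ : X ⟶ Y} (h : GIT.IsInvariant a φ) {T : Over S} (g : T ⟶ G) (x : T ⟶ X) :
    dot a g x ≫ φ = x ≫ φ := by
  rw [dot, Category.assoc, h, lift_snd_assoc]

theorem isInvariant_of_dot {φ : X ⟶ Y}
    (h : ∀ (T : Over S) (g : T ⟶ G) (x : T ⟶ X), dot a g x ≫ φ = x ≫ φ) : GIT.IsInvariant a φ := by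
  apply AlgGrp.Action.hom_ext_lift₂
  intro T g x
  have := h T g x
  rw [dot, Category.assoc] at this
  rw [this, lift_snd_assoc]

theorem dot_prod (b : AlgGrp.Action G Y) {T : Over S} (g : T ⟶ G) (x : T ⟶ X) (y : T ⟶ Y) :
    dot (a.prod b) g (lift x y) = lift (dot a g x) (dot b g y) :=
  AlgGrp.Action.lift_prod_act a b g x y

theorem dot_prod_fst (b : AlgGrp.Action G Y) {T : Over S} (g : T ⟶ G) (z : T ⟶ X ⊗ Y) :
    dot (a.prod b) g z ≫ fst X Y = dot a g (z ≫ fst X Y) := by
  have : z = lift (z ≫ fst X Y) (z ≫ snd X Y) := by rw [lift_comp_fst_snd]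
  rw [this, dot_prod, lift_fst, lift_fst]

theorem dot_prod_snd (b : AlgGrp.Action G Y) {T : Over S} (g : T ⟶ G) (z : T ⟶ X ⊗ Y) :
    dot (a.prod b) g z ≫ snd X Y = dot b g (z ≫ snd X Y) := by
  have : z = lift (z ≫ fst X Y) (z ≫ snd X Y) := by rw [lift_comp_fst_snd]
  rw [this, dot_prod, lift_snd, lift_snd]

variable {φ : X ⟶ Y}

theorem exists_dot (H : IsPullback a.act (snd G X) φ φ) {T : Over S} (x y : T ⟶ X)
    (hxy : x ≫ φ = y ≫ φ) : ∃ g : T ⟶ G, dot a g y = x := by
  refine ⟨H.lift x y hxy ≫ fst G X, ?_⟩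
  have h1 := H.lift_fst x y hxy
  have h2 := H.lift_snd x y hxy
  rw [dot]
  refine Eq.trans ?_ h1
  congr 1
  apply CartesianMonoidalCategory.hom_ext
  · rw [lift_fst]
  · rw [lift_snd, h2]

theorem dot_cancel (H : IsPullback a.act (snd G X) φ φ) {T : Over S} {g g' : T ⟶ G} {y : T ⟶ X}
    (h : dot a g y = dot a g' y) : g = g' := by
  have : lift g y = lift g' y := by
    apply H.hom_ext
    · exact h
    · rw [lift_snd, lift_snd]
  have := this =≫ fst G X
  rwa [lift_fst, lift_fst] at this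

theorem isPullback_of_pts (h : GIT.IsInvariant a φ)
    (h1 : ∀ (T : Over S) (x y : T ⟶ X), x ≫ φ = y ≫ φ → ∃ g : T ⟶ G, dot a g y = x)
    (h2 : ∀ (T : Over S) (g g' : T ⟶ G) (y : T ⟶ X), dot a g y = dot a g' y → g = g') :
    IsPullback a.act (snd G X) φ φ := by
  refine ⟨⟨h⟩, ⟨PullbackCone.IsLimit.mk _
    (fun c => lift (h1 _ c.fst c.snd c.condition).choose c.snd) ?_ ?_ ?_⟩⟩
  · intro c
    exact (h1 _ c.fst c.snd c.condition).choose_spec
  · intro c
    exact lift_snd _ _
  · intro c m e1 e2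
    apply CartesianMonoidalCategory.hom_ext
    · rw [lift_fst]
      apply h2 _ _ _ c.snd
      rw [(h1 _ c.fst c.snd c.condition).choose_spec, dot, ← e1]
      congr 1
      apply CartesianMonoidalCategory.hom_ext
      · rw [lift_fst]
      · rw [lift_snd, e2]
    · rw [lift_snd, e2]

/-- base change of principal bundles -/
theorem isPullback_bc {a' : AlgGrp.Action G X'} {pr : X' ⟶ X} {φ' : X' ⟶ Y'} {g : Y' ⟶ Y}
    (hpr : AlgGrp.Action.IsEquivariant a' a pr) (hφ' : GIT.IsInvariant a' φ')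
    (sq : IsPullback pr φ' φ g) (H : IsPullback a.act (snd G X) φ φ) :
    IsPullback a'.act (snd G X') φ' φ' := by
  have hφ : GIT.IsInvariant a φ := H.w
  apply isPullback_of_pts a' hφ'
  · intro T x y hxy
    obtain ⟨h, hh⟩ := exists_dot a H (x ≫ pr) (y ≫ pr) (by
      rw [Category.assoc, Category.assoc, sq.w, reassoc_of% hxy])
    refine ⟨h, ?_⟩
    apply sq.hom_ext
    · rw [dot_comp a' hpr, hh]
    · rw [dot_inv a' hφ', hxy]
  · intro T h h' y e
    apply dot_cancel a H (y := y ≫ pr)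
    rw [← dot_comp a' hpr, ← dot_comp a' hpr, e]

/-- `PsiY` is an isomorphism iff the square over `S` is cartesian -/
theorem isPullback_of_isIso (h : GIT.IsInvariant a φ) (hc : IsIso (GIT.PsiY a φ h)) :
    IsPullback a.act (snd G X) φ φ :=
  isPullback_over (IsPullback.of_iso_pullback ⟨h.left⟩ (asIso (GIT.PsiY a φ h))
    (pullback.lift_fst _ _ _) (pullback.lift_snd _ _ _))

theorem isIso_of_isPullback (h : GIT.IsInvariant a φ) (H : IsPullback a.act (snd G X) φ φ) :
    IsIso (GIT.PsiY a φ h) := by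
  have H' := isPullback_left H
  have : GIT.PsiY a φ h = H'.isoPullback.hom := by
    apply pullback.hom_ext
    · rw [H'.isoPullback_hom_fst]; exact pullback.lift_fst _ _ _
    · rw [H'.isoPullback_hom_snd]; exact pullback.lift_snd _ _ _
  rw [this]; infer_instance

end K957.Pts
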