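import Groth.Prelude.Def_W4bk4git07Quot
import Groth.Prelude.Def_ChGrp
import Groth.Agent.Grpsch.PtRestrict

/-!
# Restriction of an action to an invariant open subscheme
-/

set_option autoImplicit false
universe u
open CategoryTheory CategoryTheory.Limits MonoidalCategory CartesianMonoidalCategory MonObj GrpObj AlgebraicGeometry

namespace K957.Restr

open Groth.Agent.Grpsch.PtRestrict

variable {S : Scheme.{u}} {G X : Over S} [GrpObj G] (a : AlgGrp.Action G X) (U : X.left.Opens)
  (hU : a.act.left ⁻¹ᵁ U = (snd G X).left ⁻¹ᵁ U)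

/-- the open subscheme over `S` -/
noncomputable abbrev XU : Over S := Over.mk (U.ι ≫ X.hom)

/-- the inclusion -/
noncomputable def iU : XU U ⟶ X := Over.homMk U.ι rfl

theorem iU_left : (iU U).left = U.ι := rfl

instance : IsOpenImmersion (iU U).left := inferInstanceAs (IsOpenImmersion U.ι)

instance : Mono (iU U) := by
  have : Mono (iU U).left := inferInstanceAs (Mono U.ι)
  exact Over.mono_of_mono_left _

omit [GrpObj G] in
theorem isPullback_whisker : IsPullback (G ◁ iU U) (snd G (XU U)) (snd G X) (iU U) := by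
  refine ⟨⟨by rw [whiskerLeft_snd]⟩, ⟨PullbackCone.IsLimit.mk _
    (fun c => lift (c.fst ≫ fst G X) c.snd) ?_ ?_ ?_⟩⟩
  · intro c
    apply CartesianMonoidalCategory.hom_ext
    · simp
    · simp [c.condition]
  · intro c
    simp
  · intro c m h1 h2
    apply CartesianMonoidalCategory.hom_ext
    · rw [lift_fst, ← h1]; simp
    · rw [lift_snd, h2]

omit [GrpObj G] in
theorem isPullback_whisker_left :
    IsPullback (G ◁ iU U).left (snd G (XU U)).left (snd G X).left U.ι :=
  (isPullback_whisker (G := G) U).map (Over.forget S)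

instance : IsOpenImmersion (G ◁ iU U).left :=
  MorphismProperty.of_isPullback (isPullback_whisker_left (G := G) U).flip inferInstance

omit [GrpObj G] in
theorem opensRange_whisker : (G ◁ iU U).left.opensRange = (snd G X).left ⁻¹ᵁ U := by
  ext y
  constructor
  · rintro ⟨z, rfl⟩
    have : ((G ◁ iU U).left ≫ (snd G X).left) z ∈ U := by
      rw [(isPullback_whisker_left (G := G) U).w]
      exact ((snd G (XU U)).left z).2
    exact this
  · intro hy
    have hy' : (snd G X).left y ∈ U := hy
    obtain ⟨z, hz, -⟩ := Scheme.exists_preimage_of_isPullback (isPullback_whisker_left (G := G) U) y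
      ⟨(snd G X).left y, hy'⟩ rfl
    exact ⟨z, hz⟩

section

include hU

theorem range_subset : Set.range ((G ◁ iU U).left ≫ a.act.left) ⊆ Set.range U.ι := by
  rintro _ ⟨y, rfl⟩
  rw [Scheme.Opens.range_ι]
  have h1 : (G ◁ iU U).left y ∈ (snd G X).left ⁻¹ᵁ U := by
    change (snd G X).left ((G ◁ iU U).left y) ∈ U
    rw [← Scheme.Hom.comp_apply, (isPullback_whisker_left (G := G) U).w, Scheme.Hom.comp_apply]
    exact ((snd G (XU U)).left y).2
  rw [← hU] at h1
  rw [Scheme.Hom.comp_apply]
  exact h1

end

/-- the restricted action, as a morphism of schemes -/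
noncomputable def actU : G ⊗ XU U ⟶ XU U :=
  Over.homMk (IsOpenImmersion.lift U.ι ((G ◁ iU U).left ≫ a.act.left) (range_subset a U hU)) (by
    change _ ≫ U.ι ≫ X.hom = _
    rw [IsOpenImmersion.lift_fac_assoc, Category.assoc, Over.w, Over.w])

theorem actU_i : actU a U hU ≫ iU U = (G ◁ iU U) ≫ a.act :=
  Over.OverMorphism.ext (IsOpenImmersion.lift_fac _ _ _)

/-- the restricted action -/
noncomputable def restrict : AlgGrp.Action G (XU U) where
  act := actU a U hU
  one_act := by
    rw [← cancel_mono (iU U), Category.assoc, actU_i, ← whisker_exchange_assoc, a.one_act]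
    simp
  mul_act := by
    rw [← cancel_mono (iU U)]
    simp only [Category.assoc, actU_i]
    rw [← whisker_exchange_assoc, a.mul_act, ← MonoidalCategory.whiskerLeft_comp_assoc (W := G), actU_i]
    simp

theorem restrict_act_i : (restrict a U hU).act ≫ iU U = (G ◁ iU U) ≫ a.act := actU_i a U hU

theorem restrict_isEquivariant : AlgGrp.Action.IsEquivariant (restrict a U hU) a (iU U) :=
  restrict_act_i a U hU

/-- `s⁻¹ U ≅ G × U` -/
noncomputable def eR : ((snd G X).left ⁻¹ᵁ U).toScheme ≅ (G ⊗ XU U).left :=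
  IsOpenImmersion.isoOfRangeEq ((snd G X).left ⁻¹ᵁ U).ι (G ◁ iU U).left (by
    rw [Scheme.Opens.range_ι]
    exact congrArg (fun A : (G ⊗ X).left.Opens => (A : Set (G ⊗ X).left)) (opensRange_whisker (G := G) U).symm)

omit [GrpObj G] in
theorem eR_ι : (eR (G := G) U).hom ≫ (G ◁ iU U).left = ((snd G X).left ⁻¹ᵁ U).ι :=
  IsOpenImmersion.isoOfRangeEq_hom_fac _ _ _

omit [GrpObj G] in
theorem eR_snd : (eR (G := G) U).hom ≫ (snd G (XU U)).left = (snd G X).left ∣_ U := by
  rw [← cancel_mono U.ι, Category.assoc, ← (isPullback_whisker_left (G := G) U).w, ← Category.assoc,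
    eR_ι, morphismRestrict_ι]

theorem eR_act : (eR (G := G) U).hom ≫ (restrict a U hU).act.left =
    tRes (snd G X).left a.act.left U hU.symm := by
  rw [← cancel_mono U.ι, Category.assoc, tRes_ι_hom]
  have h := congrArg CommaMorphism.left (restrict_act_i a U hU)
  have h' : (restrict a U hU).act.left ≫ U.ι = (G ◁ iU U).left ≫ a.act.left := h
  rw [h', ← Category.assoc, eR_ι]

end K957.Restr
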