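import Groth.Agent.EqInt.K957.Sections
import Groth.Prelude.Def_W4bk4git07Quot
import Groth.Prelude.Def_ChGrp
import Mathlib.AlgebraicGeometry.Morphisms.FlatDescent
import Mathlib.AlgebraicGeometry.Morphisms.Separated
import Mathlib.AlgebraicGeometry.Morphisms.FiniteType

/-!
# Principal bundles: `φ` invariant, flat, surjective, `PsiY` an isomorphism
-/

set_option autoImplicit false
universe u
open CategoryTheory CategoryTheory.Limits MonoidalCategory CartesianMonoidalCategory MonObj GrpObj AlgebraicGeometry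

namespace K957.Bundle

variable {S : Scheme.{u}} {G X Y : Over S} [GrpObj G] (a : AlgGrp.Action G X) (φ : X ⟶ Y)

theorem isPullback_left (h : GIT.IsInvariant a φ) (hc : IsIso (GIT.PsiY a φ h)) :
    IsPullback a.act.left (snd G X).left φ.left φ.left :=
  IsPullback.of_iso_pullback ⟨h.left⟩ (asIso (GIT.PsiY a φ h)) (pullback.lift_fst _ _ _)
    (pullback.lift_snd _ _ _)

theorem isIso_PsiY (h : GIT.IsInvariant a φ)
    (H : IsPullback a.act.left (snd G X).left φ.left φ.left) : IsIso (GIT.PsiY a φ h) := by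
  have : GIT.PsiY a φ h = H.isoPullback.hom := by
    apply pullback.hom_ext
    · rw [H.isoPullback_hom_fst]; exact pullback.lift_fst _ _ _
    · rw [H.isoPullback_hom_snd]; exact pullback.lift_snd _ _ _
  rw [this]; infer_instance

theorem psiY_fst (h : GIT.IsInvariant a φ) : GIT.PsiY a φ h ≫ pullback.fst _ _ = a.act.left :=
  pullback.lift_fst _ _ _

theorem psiY_snd (h : GIT.IsInvariant a φ) : GIT.PsiY a φ h ≫ pullback.snd _ _ = (snd G X).left :=
  pullback.lift_snd _ _ _

theorem psi_eq : GIT.psi a (𝟙 X) = lift a.act (snd G X) := by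
  simp [GIT.psi]

/-- the monomorphism `X ×_Y X ⟶ X ×_S X` -/
noncomputable def toProd : pullback φ.left φ.left ⟶ (X ⊗ X).left :=
  pullback.lift (pullback.fst _ _) (pullback.snd _ _) (by
    rw [← Over.w φ, pullback.condition_assoc])

theorem toProd_fst : toProd φ ≫ (fst X X).left = pullback.fst _ _ := pullback.lift_fst _ _ _

theorem toProd_snd : toProd φ ≫ (snd X X).left = pullback.snd _ _ := pullback.lift_snd _ _ _

theorem prod_hom_ext {T : Scheme.{u}} {A B : Over S} {f g : T ⟶ (A ⊗ B).left}
    (h1 : f ≫ (fst A B).left = g ≫ (fst A B).left) (h2 : f ≫ (snd A B).left = g ≫ (snd A B).left) :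
    f = g := pullback.hom_ext h1 h2

theorem psiY_toProd (h : GIT.IsInvariant a φ) :
    GIT.PsiY a φ h ≫ toProd φ = (GIT.psi a (𝟙 X)).left := by
  apply prod_hom_ext
  · rw [Category.assoc, toProd_fst, psiY_fst, psi_eq, ← Over.comp_left, lift_fst]
  · rw [Category.assoc, toProd_snd, psiY_snd, psi_eq, ← Over.comp_left, lift_snd]

theorem isPullback_toProd : IsPullback (toProd φ) (pullback.snd φ.left φ.left ≫ φ.left)
    (φ ⊗ₘ φ).left (lift (𝟙 Y) (𝟙 Y)).left := by
  have e1 : (φ ⊗ₘ φ).left ≫ (fst Y Y).left = (fst X X).left ≫ φ.left := by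
    rw [← Over.comp_left, ← Over.comp_left, tensorHom_fst]
  have e2 : (φ ⊗ₘ φ).left ≫ (snd Y Y).left = (snd X X).left ≫ φ.left := by
    rw [← Over.comp_left, ← Over.comp_left, tensorHom_snd]
  have e3 : (lift (𝟙 Y) (𝟙 Y)).left ≫ (fst Y Y).left = 𝟙 _ := by
    rw [← Over.comp_left, lift_fst, Over.id_left]
  have e4 : (lift (𝟙 Y) (𝟙 Y)).left ≫ (snd Y Y).left = 𝟙 _ := by
    rw [← Over.comp_left, lift_snd, Over.id_left]
  have w : toProd φ ≫ (φ ⊗ₘ φ).left =
      (pullback.snd φ.left φ.left ≫ φ.left) ≫ (lift (𝟙 Y) (𝟙 Y)).left := by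
    apply prod_hom_ext
    · simp only [Category.assoc, e1, e3, Category.comp_id]
      rw [← Category.assoc, toProd_fst, pullback.condition]
    · simp only [Category.assoc, e2, e4, Category.comp_id]
      rw [← Category.assoc, toProd_snd]
  refine ⟨⟨w⟩, ⟨PullbackCone.IsLimit.mk _ (fun c => pullback.lift (c.fst ≫ (fst X X).left)
    (c.fst ≫ (snd X X).left) ?_) ?_ ?_ ?_⟩⟩
  · have h1 := c.condition =≫ (fst Y Y).left
    have h2 := c.condition =≫ (snd Y Y).left
    simp only [Category.assoc, e1, e2, e3, e4, Category.comp_id] at h1 h2 ⊢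
    rw [h1, h2]
  · intro c
    apply prod_hom_ext
    · rw [Category.assoc, toProd_fst, pullback.lift_fst]
    · rw [Category.assoc, toProd_snd, pullback.lift_snd]
  · intro c
    have h2 := c.condition =≫ (snd Y Y).left
    simp only [Category.assoc, e2, e4, Category.comp_id] at h2 ⊢
    rw [pullback.lift_snd_assoc, Category.assoc, h2]
  · intro c m h1 h2
    apply pullback.hom_ext
    · rw [pullback.lift_fst, ← h1, Category.assoc, toProd_fst]
    · rw [pullback.lift_snd, ← h1, Category.assoc, toProd_snd]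

theorem isClosedImmersion_diag (Y : Over S) [IsSeparated Y.hom] :
    IsClosedImmersion (lift (𝟙 Y) (𝟙 Y)).left :=
  inferInstanceAs (IsClosedImmersion (pullback.diagonal Y.hom))

instance isClosedImmersion_toProd [IsSeparated Y.hom] : IsClosedImmersion (toProd φ) := by
  have := isClosedImmersion_diag Y
  exact MorphismProperty.of_isPullback (isPullback_toProd φ).flip this

/-- flat, surjective, quasi-compact morphisms are universally submersive -/
theorem isUnivSubmersive {X Y : Scheme.{u}} (f : X ⟶ Y) [Flat f] [Surjective f] [QuasiCompact f] :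
    GIT.IsUnivSubmersive f := by
  intro X' Y' i₁ i₂ f' H
  have h1 : Flat f' := MorphismProperty.of_isPullback H.flip ‹_›
  have h2 : Surjective f' := MorphismProperty.of_isPullback H.flip ‹_›
  have h3 : QuasiCompact f' := MorphismProperty.of_isPullback H.flip ‹_›
  exact Flat.isQuotientMap_of_surjective f'

theorem quasiCompact_left (φ : X ⟶ Y) [QuasiCompact X.hom] [QuasiSeparated Y.hom] :
    QuasiCompact φ.left := by
  have : QuasiCompact (φ.left ≫ Y.hom) := by rw [Over.w]; infer_instance
  exact QuasiCompact.of_comp φ.left Y.hom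

theorem quasiSeparated_left (φ : X ⟶ Y) [QuasiSeparated X.hom] : QuasiSeparated φ.left := by
  have : QuasiSeparated (φ.left ≫ Y.hom) := by rw [Over.w]; infer_instance
  exact QuasiSeparated.of_comp φ.left Y.hom

theorem isSeparated_left (φ : X ⟶ Y) [IsSeparated X.hom] : IsSeparated φ.left := by
  have : IsSeparated (φ.left ≫ Y.hom) := by rw [Over.w]; infer_instance
  exact IsSeparated.of_comp φ.left Y.hom

theorem locallyOfFiniteType_left (φ : X ⟶ Y) [LocallyOfFiniteType X.hom] :
    LocallyOfFiniteType φ.left := by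
  have : LocallyOfFiniteType (φ.left ≫ Y.hom) := by rw [Over.w]; infer_instance
  exact locallyOfFiniteType_of_comp φ.left Y.hom

/-- invariance of pulled back sections -/
theorem isInvSection_app (h : GIT.IsInvariant a φ) (U : Y.left.Opens) (s : Γ(Y.left, U)) :
    GIT.IsInvSection a φ U (φ.left.app U s) := by
  have e := h.left
  have e1 : a.act.left ⁻¹ᵁ (φ.left ⁻¹ᵁ U) ⊓ (snd G X).left ⁻¹ᵁ (φ.left ⁻¹ᵁ U) ≤
      (a.act.left ≫ φ.left) ⁻¹ᵁ U := inf_le_left
  have e2 : a.act.left ⁻¹ᵁ (φ.left ⁻¹ᵁ U) ⊓ (snd G X).left ⁻¹ᵁ (φ.left ⁻¹ᵁ U) ≤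
      ((snd G X).left ≫ φ.left) ⁻¹ᵁ U := inf_le_right
  have a1 := Scheme.Hom.comp_appLE a.act.left φ.left U _ e1
  have a2 := Scheme.Hom.comp_appLE (snd G X).left φ.left U _ e2
  have a3 : (a.act.left ≫ φ.left).appLE U _ e1 = ((snd G X).left ≫ φ.left).appLE U _ e2 := by
    simp only [e]
  rw [a1, a2] at a3
  exact congr($a3 s)

/-- a principal bundle quotient (quasi-compact) is a geometric quotient -/
theorem isGeomQuot (h : GIT.IsInvariant a φ) (hc : IsIso (GIT.PsiY a φ h)) [Flat φ.left]
    [Surjective φ.left] [QuasiCompact φ.left] : GIT.IsGeomQuot a φ where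
  inv := h
  surj := φ.left.surjective
  orbit := (inferInstance : Surjective (GIT.PsiY a φ h)).1
  subm := isUnivSubmersive φ.left
  sections U := by
    have h2 : Surjective (φ.left ∣_ U) := IsZariskiLocalAtTarget.restrict ‹_› U
    refine ⟨Sections.app_injective φ.left U, Set.Subset.antisymm ?_ ?_⟩
    · rintro _ ⟨s, rfl⟩
      exact isInvSection_app a φ h U s
    · intro f hf
      exact Sections.exists_app_eq φ.left (isPullback_left a φ h hc) U f hf

theorem isClosedImmersion_psi (h : GIT.IsInvariant a φ) (hc : IsIso (GIT.PsiY a φ h))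
    [IsSeparated Y.hom] : IsClosedImmersion (GIT.psi a (𝟙 X)).left := by
  rw [← psiY_toProd a φ h]
  infer_instance

end K957.Bundle
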