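import Groth.Agent.EqInt.K957.Glue
import Groth.Agent.EqInt.K957.Pts
import Mathlib.AlgebraicGeometry.Restrict

/-!
# Preimages of opens under invariant morphisms
-/

set_option autoImplicit false
universe u
open CategoryTheory CategoryTheory.Limits MonoidalCategory CartesianMonoidalCategory MonObj GrpObj AlgebraicGeometry

namespace K957.Invt

open K957.Pts K957.Restr

variable {S : Scheme.{u}} {G X Y : Over S} [GrpObj G] (a : AlgGrp.Action G X)

/-- the preimage of an open under an invariant morphism is invariant -/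
theorem preimage_inv {φ : X ⟶ Y} (h : GIT.IsInvariant a φ) (W : Y.left.Opens) :
    a.act.left ⁻¹ᵁ (φ.left ⁻¹ᵁ W) = (snd G X).left ⁻¹ᵁ (φ.left ⁻¹ᵁ W) := by
  have e : a.act.left ≫ φ.left = (snd G X).left ≫ φ.left := h.left
  rw [← Scheme.Hom.comp_preimage, ← Scheme.Hom.comp_preimage, e]

/-- restriction of `φ` over an open -/
noncomputable def resOver (φ : X ⟶ Y) (W : Y.left.Opens) : XU (φ.left ⁻¹ᵁ W) ⟶ XU W :=
  Over.homMk (φ.left ∣_ W) (by
    change (φ.left ∣_ W) ≫ W.ι ≫ Y.hom = _
    rw [morphismRestrict_ι_assoc, Over.w]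
    rfl)

omit [GrpObj G] in
theorem isPullback_resOver (φ : X ⟶ Y) (W : Y.left.Opens) :
    IsPullback (iU (φ.left ⁻¹ᵁ W)) (resOver φ W) φ (iU W) :=
  isPullback_over (isPullback_morphismRestrict φ.left W).flip

/-- flatness etc. of base changes -/
theorem bundle_props {A B C D : Over S} {f : A ⟶ B} {g : A ⟶ C} {h : B ⟶ D} {k : C ⟶ D}
    (H : IsPullback f g h k) [QuasiCompact h.left] [Flat h.left] [Surjective h.left] :
    QuasiCompact g.left ∧ Flat g.left ∧ Surjective g.left := by
  have H' := isPullback_left H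
  exact ⟨MorphismProperty.of_isPullback (P := @QuasiCompact) H' ‹_›,
    MorphismProperty.of_isPullback (P := @Flat) H' ‹_›,
    MorphismProperty.of_isPullback (P := @Surjective) H' ‹_›⟩

end K957.Invt
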