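import Groth.Agent.EqInt.K957.Glue
import Groth.Agent.EqInt.K957.Pts
import Groth.Agent.EqInt.K957.Diag

/-!
# Gluing of principal bundle quotients, second form
-/

set_option autoImplicit false
universe u
open CategoryTheory CategoryTheory.Limits MonoidalCategory CartesianMonoidalCategory MonObj GrpObj AlgebraicGeometry

namespace K957.Glue

open K957.Pts K957.Restr Groth.Agent.Sga3.H775.ActGrpd

variable {S : Scheme.{u}} {G Z Z' : Over S} [GrpObj G] {a : AlgGrp.Action G Z} {a' : AlgGrp.Action G Z'}

/-- transport along an equivariant isomorphism -/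
theorem HasBundle.of_iso (e : Z' ⟶ Z) [IsIso e] (he : AlgGrp.Action.IsEquivariant a' a e)
    (h : HasBundle a') : HasBundle a := by
  obtain ⟨Q, ρ, hρ, h1, h2, h3, h4⟩ := h
  have he' : AlgGrp.Action.IsEquivariant a a' (inv e) := by
    apply isEquivariant_of_dot
    intro T g x
    rw [← cancel_mono e, Category.assoc, IsIso.inv_hom_id, Category.comp_id, dot_comp a' he,
      Category.assoc, IsIso.inv_hom_id, Category.comp_id]
  have hρ' : GIT.IsInvariant a (inv e ≫ ρ) := by
    apply isInvariant_of_dot
    intro T g x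
    rw [← Category.assoc, dot_comp a he', dot_inv a' hρ, Category.assoc]
  have sq : IsPullback (inv e) (inv e ≫ ρ) ρ (𝟙 Q) := IsPullback.of_horiz_isIso ⟨by simp⟩
  have H := isPullback_bc a' he' hρ' sq (isPullback_of_isIso a' hρ h4)
  have hi : IsIso (inv e).left := ((Over.forget S).mapIso (asIso (inv e))).isIso_hom
  refine ⟨Q, inv e ≫ ρ, hρ', ?_, ?_, ?_, isIso_of_isPullback a hρ' H⟩
  · rw [Over.comp_left]; infer_instance
  · rw [Over.comp_left]; infer_instance
  · rw [Over.comp_left]; infer_instance

theorem invariant_opensRange (i : Z' ⟶ Z) [IsOpenImmersion i.left]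
    (hi : AlgGrp.Action.IsEquivariant a' a i) :
    a.act.left ⁻¹ᵁ i.left.opensRange = (snd G Z).left ⁻¹ᵁ i.left.opensRange := by
  have key : ∀ w : (G ⊗ Z).left, (snd G Z).left w ∈ i.left.opensRange →
      a.act.left w ∈ i.left.opensRange := by
    rintro w ⟨z', hz'⟩
    obtain ⟨w', hw', -⟩ := Scheme.exists_preimage_of_isPullback
      (isPullback_left (Diag.isPullback_whisker G i)) w z' hz'.symm
    refine ⟨a'.act.left w', ?_⟩
    have e : a'.act.left ≫ i.left = (G ◁ i).left ≫ a.act.left := congrArg CommaMorphism.left hi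
    rw [← hw']
    change (a'.act.left ≫ i.left) w' = _
    rw [e]
    rfl
  have e1 : (ivr a).left ≫ (snd G Z).left = a.act.left := by
    have := comp_ivr_snd a (𝟙 _)
    rw [Category.id_comp, Category.id_comp] at this
    exact congrArg CommaMorphism.left this
  have e2 : (ivr a).left ≫ a.act.left = (snd G Z).left := by
    have := comp_ivr_act a (𝟙 _)
    rw [Category.id_comp, Category.id_comp] at this
    exact congrArg CommaMorphism.left this
  ext w
  constructor
  · intro hw
    have hw' : a.act.left w ∈ i.left.opensRange := hw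
    have h1 : (snd G Z).left ((ivr a).left w) ∈ i.left.opensRange := by
      change ((ivr a).left ≫ (snd G Z).left) w ∈ _
      rw [e1]; exact hw'
    have h2 := key _ h1
    change ((ivr a).left ≫ a.act.left) w ∈ _ at h2
    rw [e2] at h2
    exact h2
  · intro hw
    exact key w hw

/-- Principal bundle quotients glue. -/
theorem HasBundle.glue' (a : AlgGrp.Action G Z) (h : ∀ z : Z.left, ∃ (Z' : Over S)
    (a' : AlgGrp.Action G Z') (i : Z' ⟶ Z), IsOpenImmersion i.left ∧
    AlgGrp.Action.IsEquivariant a' a i ∧ z ∈ Set.range i.left ∧ HasBundle a') : HasBundle a := by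
  refine HasBundle.glue a fun z => ?_
  obtain ⟨Z', a', i, h1, h2, h3, h4⟩ := h z
  refine ⟨i.left.opensRange, invariant_opensRange i h2, h3, ?_⟩
  let e : Z' ⟶ XU i.left.opensRange := Over.homMk i.left.isoOpensRange.hom (by
    change i.left.isoOpensRange.hom ≫ i.left.opensRange.ι ≫ Z.hom = _
    rw [Scheme.Hom.isoOpensRange_hom_ι_assoc, Over.w])
  have he1 : e ≫ iU _ = i := Over.OverMorphism.ext (i.left.isoOpensRange_hom_ι)
  have he2 : IsIso e.left := inferInstanceAs (IsIso i.left.isoOpensRange.hom)
  have he3 : IsIso e := by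
    have : IsIso ((Over.forget S).map e) := he2
    exact isIso_of_reflects_iso e (Over.forget S)
  refine HasBundle.of_iso e ?_ h4
  apply isEquivariant_of_dot
  intro T g x
  rw [← cancel_mono (iU i.left.opensRange), Category.assoc, he1, dot_comp _ h2,
    dot_comp _ (restrict_isEquivariant a _ (invariant_opensRange i h2)), Category.assoc, he1]

end K957.Glue
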