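import Groth.Agent.EqInt.K957.Glue
import Groth.Agent.EqInt.K957.Pts
import Groth.Agent.Sga3.H775.ActGrpd
import Groth.Agent.Sga3.H775.QSecQuot
import Groth.Agent.Books.AlgPts

/-!
# Principal bundle quotients from finite locally free quasi-sections
-/

set_option autoImplicit false
universe u
open CategoryTheory CategoryTheory.Limits MonoidalCategory CartesianMonoidalCategory MonObj GrpObj AlgebraicGeometry

namespace K957.QB

open K957.Pts K957.Glue Groth.Agent.Sga3.H775.ActGrpd Groth.Agent.GrpQ.H767.QuasiSection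
open Groth.Agent.Grpsch.Restrict

section general

variable {S : Scheme.{u}} {G P T : Over S} [GrpObj G] (a : AlgGrp.Action G P) (g : T ⟶ P)

/-- `(h, t) ↦ h⁻¹ g(t)` -/
noncomputable def qmap : G ⊗ T ⟶ P := dot a (fst G T)⁻¹ (snd G T ≫ g)

theorem lift_qmap {T' : Over S} (h : T' ⟶ G) (t : T' ⟶ T) :
    lift h t ≫ qmap a g = dot a h⁻¹ (t ≫ g) := by
  rw [qmap, comp_dot, GrpObj.comp_inv, lift_fst, lift_snd_assoc]

/-- `{(h, p, t) | h p = g t} = G × T` -/
theorem isPullback_act : IsPullback (lift (fst G T) (qmap a g)) (snd G T) a.act g := by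
  have e : lift (fst G T) (qmap a g) ≫ a.act = snd G T ≫ g := by
    change dot a _ _ = _
    rw [qmap, dot_inv_dot]
  refine ⟨⟨e⟩, ⟨PullbackCone.IsLimit.mk _ (fun c => lift (c.fst ≫ fst G P) c.snd) ?_ ?_ ?_⟩⟩
  · intro c
    apply CartesianMonoidalCategory.hom_ext
    · rw [Category.assoc, lift_fst, lift_fst]
    · rw [Category.assoc, lift_snd, lift_qmap]
      have h1 := c.condition
      rw [← h1]
      have h2 : c.fst ≫ a.act = dot a (c.fst ≫ fst G P) (c.fst ≫ snd G P) := by
        rw [dot, lift_comp_fst_snd]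
      rw [h2, inv_dot_dot]
  · intro c
    rw [lift_snd]
  · intro c m h1 h2
    apply CartesianMonoidalCategory.hom_ext
    · rw [lift_fst, ← h1, Category.assoc, lift_fst]
    · rw [lift_snd, h2]

theorem exists_iso_sV : ∃ e : pullback a.act.left g.left ≅ (G ⊗ T).left,
    pullback.fst a.act.left g.left ≫ (snd G P).left = e.hom ≫ (qmap a g).left := by
  have H := isPullback_left (isPullback_act a g)
  refine ⟨H.isoPullback.symm, ?_⟩
  rw [Iso.symm_hom]
  have h1 : H.isoPullback.inv ≫ (lift (fst G T) (qmap a g)).left = pullback.fst a.act.left g.left :=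
    H.isoPullback_inv_fst
  have h2 : (lift (fst G T) (qmap a g)).left ≫ (snd G P).left = (qmap a g).left := by
    rw [← Over.comp_left, lift_snd]
  rw [← h2, ← Category.assoc, h1]

theorem mono_aux (hfree : ∀ (T : Over S) (g g' : T ⟶ G) (y : T ⟶ P), dot a g y = dot a g' y → g = g')
    {Z : Scheme.{u}} (α β : Z ⟶ (G ⊗ P).left) (h1 : α ≫ a.act.left = β ≫ a.act.left)
    (h2 : α ≫ (snd G P).left = β ≫ (snd G P).left) : α = β := by
  have h3 : β ≫ (G ⊗ P).hom = α ≫ (G ⊗ P).hom := by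
    rw [← Over.w (snd G P), reassoc_of% h2]
  let α' : Over.mk (α ≫ (G ⊗ P).hom) ⟶ G ⊗ P := Over.homMk α rfl
  let β' : Over.mk (α ≫ (G ⊗ P).hom) ⟶ G ⊗ P := Over.homMk β h3
  have e1 : α' ≫ a.act = β' ≫ a.act := Over.OverMorphism.ext h1
  have e2 : α' ≫ snd G P = β' ≫ snd G P := Over.OverMorphism.ext h2
  have e3 : α' = β' := by
    apply CartesianMonoidalCategory.hom_ext
    · apply hfree _ _ _ (α' ≫ snd G P)
      nth_rw 2 [e2]
      rw [dot, dot, lift_comp_fst_snd, lift_comp_fst_snd, e1]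
    · exact e2
  exact congrArg CommaMorphism.left e3

theorem mono_j (hfree : ∀ (T : Over S) (g g' : T ⟶ G) (y : T ⟶ P), dot a g y = dot a g' y → g = g') :
    Mono (actGrpd a).j := by
  constructor
  intro Z α β h
  have e1 : (actGrpd a).j ≫ pullback.fst _ _ = a.act.left := pullback.lift_fst _ _ _
  have e2 : (actGrpd a).j ≫ pullback.snd _ _ = (snd G P).left := pullback.lift_snd _ _ _
  refine mono_aux a hfree α β ?_ ?_
  · rw [← e1]
    exact (Category.assoc _ _ _).symm.trans ((h =≫ pullback.fst _ _).trans (Category.assoc _ _ _))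
  · rw [← e2]
    exact (Category.assoc _ _ _).symm.trans ((h =≫ pullback.snd _ _).trans (Category.assoc _ _ _))

/-- Principal bundle quotients from quasi-sections -/
theorem hasBundle_of_qmap [IsLocallyNoetherian S] [LocallyOfFiniteType P.hom] [IsNoetherian P.left]
    [Flat G.hom]
    (hfree : ∀ (T : Over S) (g g' : T ⟶ G) (y : T ⟶ P), dot a g y = dot a g' y → g = g')
    [LocallyOfFiniteType g.left] (h1 : Mor2.IsFinLocFree (qmap a g).left)
    (h1' : Surjective (qmap a g).left)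
    (h2 : ∀ x : T.left, ∃ V : T.left.Opens, IsAffineOpen V ∧
      (tgt (actGrpd a) g.left).base '' ((src (actGrpd a) g.left).base ⁻¹' {x}) ⊆ (V : Set T.left)) :
    HasBundle a := by
  obtain ⟨e, he⟩ := exists_iso_sV a g
  have h3 : Mor2.IsFinLocFree (pullback.fst a.act.left g.left ≫ (snd G P).left) := by
    obtain ⟨f1, f2, f3⟩ := h1
    rw [he]
    exact ⟨inferInstance, inferInstance, inferInstance⟩
  have h4 : Surjective (pullback.fst a.act.left g.left ≫ (snd G P).left) := by
    rw [he]; infer_instance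
  have h5 : LocallyOfFiniteType (actGrpd a).pU := ‹LocallyOfFiniteType P.hom›
  have h6 : Flat (actGrpd a).t := by
    have i1 : Flat (snd G P).left := MorphismProperty.pullback_snd (P := @Flat) _ _ ‹_›
    have i2 : a.act = ivr a ≫ snd G P := by
      have := comp_ivr_snd a (𝟙 _)
      rw [Category.id_comp, Category.id_comp] at this
      exact this.symm
    have i3 : ivr a ≫ ivr a = 𝟙 _ := by
      apply CartesianMonoidalCategory.hom_ext
      · rw [comp_ivr_fst, Category.id_comp]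
        have := comp_ivr_fst a (𝟙 _)
        rw [Category.id_comp, Category.id_comp] at this
        rw [this, _root_.inv_inv]
      · rw [comp_ivr_snd, Category.id_comp]
        have := comp_ivr_act a (𝟙 _)
        rw [Category.id_comp, Category.id_comp] at this
        exact this
    have i4 : IsIso (ivr a) := ⟨ivr a, i3, i3⟩
    have i5 : IsIso (ivr a).left := ((Over.forget S).mapIso (asIso (ivr a))).isIso_hom
    change Flat a.act.left
    rw [i2, Over.comp_left]
    infer_instance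
  have h8 : @LocallyOfFiniteType T.left (actGrpd a).U g.left := ‹LocallyOfFiniteType g.left›
  obtain ⟨Y, p, hp⟩ := Groth.Agent.Sga3.H775.QSecQuot.full_of_quasiSection (actGrpd a) g.left h3 h4 h2
  have hj := mono_j a hfree
  obtain ⟨q, hq, -⟩ := hp.geom.existsUnique_desc P.hom (by
    change a.act.left ≫ P.hom = (snd G P).left ≫ P.hom
    rw [Over.w, Over.w])
  let Q : Over S := Over.mk q
  let ρ : P ⟶ Q := Over.homMk p hq
  have hρ : GIT.IsInvariant a ρ := Over.OverMorphism.ext hp.geom.w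
  have h7 : QuasiCompact p := inferInstanceAs (QuasiCompact (show P.left ⟶ Y from p))
  exact ⟨Q, ρ, hρ, h7, hp.flat hj, ⟨hp.geom.surjective⟩, Bundle.isIso_PsiY a ρ hρ (hp.pb hj)⟩

end general

section orbit

open Groth.Agent.Books.AlgPts

variable {k : Type u} [Field k] [IsAlgClosed k] {G P T : Over (Spec (CommRingCat.of k))} [GrpObj G]
  (a : AlgGrp.Action G P) (g : T ⟶ P)

theorem orbit_aux {N₀ : Scheme.{u}} (sc₀ tg₀ : N₀ ⟶ T.left) (R₀ : N₀ ⟶ (G ⊗ P).left)
    (e1 : R₀ ≫ a.act.left = tg₀ ≫ g.left) (e2 : R₀ ≫ (snd G P).left = sc₀ ≫ g.left) [h4 : IsFinite sc₀]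
    [LocallyOfFiniteType G.hom] [LocallyOfFiniteType P.hom] [LocallyOfFiniteType T.hom]
    (h : ∀ (x : 𝟙_ (Over (Spec (CommRingCat.of k))) ⟶ T)
      (s : Set ((𝟙_ (Over (Spec (CommRingCat.of k))) ⟶ G) × (𝟙_ (Over (Spec (CommRingCat.of k))) ⟶ T))),
      s.Finite → (∀ r ∈ s, r.2 ≫ g = dot a r.1 (x ≫ g)) →
      ∃ V : T.left.Opens, IsAffineOpen V ∧ ∀ r ∈ s, pt r.2 ∈ V) (x : T.left) :
    ∃ V : T.left.Opens, IsAffineOpen V ∧ tg₀.base '' (sc₀.base ⁻¹' {x}) ⊆ (V : Set T.left) := by
  let N : Over (Spec (CommRingCat.of k)) := Over.mk (sc₀ ≫ T.hom)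
  let sc : N ⟶ T := Over.homMk sc₀ rfl
  have e3 : R₀ ≫ (G ⊗ P).hom = sc₀ ≫ T.hom := by
    rw [← Over.w (snd G P), reassoc_of% e2, Over.w]
  have e4 : tg₀ ≫ T.hom = sc₀ ≫ T.hom := by
    rw [← e3, ← Over.w g, ← Over.w a.act, reassoc_of% e1]
  let tg : N ⟶ T := Over.homMk tg₀ e4
  let R : N ⟶ G ⊗ P := Over.homMk R₀ e3
  have f1 : R ≫ a.act = tg ≫ g := Over.OverMorphism.ext e1
  have f2 : R ≫ snd G P = sc ≫ g := Over.OverMorphism.ext e2
  have f3 : IsFinite sc.left := h4
  have hN : LocallyOfFiniteType N.hom := by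
    rw [← Over.w sc]; infer_instance
  -- closed points
  have key : ∀ x₀ : 𝟙_ (Over (Spec (CommRingCat.of k))) ⟶ T, ∃ V : T.left.Opens, IsAffineOpen V ∧
      tg.left '' (sc.left ⁻¹' {pt x₀}) ⊆ (V : Set T.left) := by
    intro x₀
    have hfin' : (sc.left ⁻¹' {pt x₀}).Finite := sc.left.finite_preimage_singleton _
    let A : Set (𝟙_ (Over (Spec (CommRingCat.of k))) ⟶ N) := {r | sc.left (pt r) = pt x₀}
    have hA : A.Finite := by
      refine Set.Finite.of_finite_image (f := pt) (hfin'.subset ?_) ?_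
      · rintro _ ⟨r, hr, rfl⟩
        exact hr
      · intro r _ r' _ hrr
        exact pt_injective hrr
    obtain ⟨V, hV, hVm⟩ := h x₀ ((fun r => (r ≫ R ≫ fst G P, r ≫ tg)) '' A) (hA.image _) (by
      rintro _ ⟨r, hr, rfl⟩
      have hr' : r ≫ sc = x₀ := pt_injective (by rw [pt_comp]; exact hr)
      change (r ≫ tg) ≫ g = dot a (r ≫ R ≫ fst G P) (x₀ ≫ g)
      rw [Category.assoc, ← f1, ← hr', Category.assoc, ← f2, ← comp_dot, dot, lift_comp_fst_snd])
    refine ⟨V, hV, ?_⟩
    rintro _ ⟨r, hr, rfl⟩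
    have := LocallyOfFiniteType.jacobsonSpace N.hom
    obtain ⟨r', hr', hc⟩ := nonempty_inter_closedPoints (Z := closure {r}) ⟨r, subset_closure rfl⟩
      isClosed_closure.isLocallyClosed
    obtain ⟨r'', rfl⟩ := exists_pt r' hc
    have hspec : r ⤳ pt r'' := specializes_iff_mem_closure.mpr hr'
    have h5 : sc.left (pt r'') = pt x₀ := by
      have h6 : sc.left r ⤳ sc.left (pt r'') := hspec.map sc.left.continuous
      rw [hr] at h6
      have h7 := specializes_iff_mem_closure.mp h6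
      rwa [(isClosed_pt x₀).closure_eq] at h7
    have h8 : pt (r'' ≫ tg) ∈ V := hVm _ ⟨r'', h5, rfl⟩
    rw [pt_comp] at h8
    exact (hspec.map tg.left.continuous).mem_open V.isOpen h8
  have := LocallyOfFiniteType.jacobsonSpace T.hom
  obtain ⟨x₀, hx₀, hc⟩ := nonempty_inter_closedPoints (Z := closure {x}) ⟨x, subset_closure rfl⟩
    isClosed_closure.isLocallyClosed
  obtain ⟨x₁, rfl⟩ := exists_pt x₀ hc
  obtain ⟨V, hV, hVs⟩ := key x₁
  refine ⟨V, hV, ?_⟩
  rintro _ ⟨r, hr, rfl⟩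
  have h9 : IsClosedMap sc.left := sc.left.isClosedMap
  have h10 : pt x₁ ∈ sc.left '' closure {r} := by
    have h11 : closure {x} ⊆ sc.left '' closure {r} := by
      apply closure_minimal
      · rintro _ rfl
        exact ⟨r, subset_closure rfl, hr⟩
      · exact h9 _ isClosed_closure
    exact h11 hx₀
  obtain ⟨r', hr', hr''⟩ := h10
  have hspec : r ⤳ r' := specializes_iff_mem_closure.mpr hr'
  exact (hspec.map tg.left.continuous).mem_open V.isOpen (hVs ⟨r', hr'', rfl⟩)

theorem orbit_cond [LocallyOfFiniteType G.hom] [LocallyOfFiniteType P.hom] [LocallyOfFiniteType T.hom]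
    (hfin : IsFinite (qmap a g).left)
    (h : ∀ (x : 𝟙_ (Over (Spec (CommRingCat.of k))) ⟶ T)
      (s : Set ((𝟙_ (Over (Spec (CommRingCat.of k))) ⟶ G) × (𝟙_ (Over (Spec (CommRingCat.of k))) ⟶ T))),
      s.Finite → (∀ r ∈ s, r.2 ≫ g = dot a r.1 (x ≫ g)) →
      ∃ V : T.left.Opens, IsAffineOpen V ∧ ∀ r ∈ s, pt r.2 ∈ V) (x : T.left) :
    ∃ V : T.left.Opens, IsAffineOpen V ∧
      (tgt (actGrpd a) g.left).base '' ((src (actGrpd a) g.left).base ⁻¹' {x}) ⊆ (V : Set T.left) := by
  obtain ⟨e, he⟩ := exists_iso_sV a g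
  have h3 : IsFinite (pullback.fst a.act.left g.left ≫ (snd G P).left) := by
    rw [he]; infer_instance
  have h4 : IsFinite (src (actGrpd a) g.left) :=
    Groth.Agent.GrpQ.H767.S4087Of.prop_src (actGrpd a) g.left @IsFinite h3
  have e1 : toR (actGrpd a) g.left ≫ a.act.left = tgt (actGrpd a) g.left ≫ g.left :=
    toR_t (actGrpd a) g.left
  have e2 : toR (actGrpd a) g.left ≫ (snd G P).left = src (actGrpd a) g.left ≫ g.left :=
    toR_s (actGrpd a) g.left
  exact orbit_aux a g (src (actGrpd a) g.left) (tgt (actGrpd a) g.left) (toR (actGrpd a) g.left) e1 e2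
    (h4 := h4) h x

end orbit

end K957.QB
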