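import Groth.Prelude.Def_W4bk4git07Quot
import Groth.Prelude.Def_Pi1
import Groth.Agent.S2102
import Mathlib.RingTheory.Flat.TorsionFree
import Mathlib.RingTheory.IntegralClosure.IntegrallyClosed

/-!
# Normality of geometric quotients
-/

set_option autoImplicit false
universe u
open CategoryTheory CategoryTheory.Limits MonoidalCategory CartesianMonoidalCategory MonObj GrpObj AlgebraicGeometry

namespace K957.Normal

theorem isNormalScheme_of_isOpenImmersion {X Y : Scheme.{u}} (f : X ⟶ Y) [IsOpenImmersion f]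
    (hY : Pi1.IsNormalScheme Y) : Pi1.IsNormalScheme X := by
  intro x
  obtain ⟨h1, h2⟩ := hY (f x)
  let e : Y.presheaf.stalk (f x) ≃+* X.presheaf.stalk x :=
    (asIso (f.stalkMap x)).commRingCatIsoToRingEquiv
  exact ⟨e.symm.toMulEquiv.isDomain _, IsIntegrallyClosed.of_equiv e⟩

/-- flat pullback of a nonzero function on an integral scheme is a nonzerodivisor -/
theorem eq_zero_of_appLE_mul {Z X : Scheme.{u}} (p : Z ⟶ X) [Flat p] [IsIntegral X] (V : X.Opens)
    (b : Γ(X, V)) (hb : b ≠ 0) (W : Z.Opens) (e : W ≤ p ⁻¹ᵁ V) (s : Γ(Z, W))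
    (h : (p.appLE V W e).hom b * s = 0) : s = 0 := by
  refine TopCat.Presheaf.section_ext Z.sheaf W s 0 fun z hz => ?_
  change Z.presheaf.germ W z hz s = Z.presheaf.germ W z hz 0
  rw [map_zero]
  have hpz : p z ∈ V := e hz
  have : Nonempty V := ⟨⟨p z, hpz⟩⟩
  have h1 : (X.presheaf.germ V (p z) hpz).hom b ≠ 0 := by
    intro h0
    apply hb
    apply germ_injective_of_isIntegral X (p z) hpz
    rw [map_zero]; exact h0
  have h2 : (Z.presheaf.germ W z hz).hom ((p.appLE V W e).hom b) =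
      (p.stalkMap z).hom ((X.presheaf.germ V (p z) hpz).hom b) := by
    have a1 := Scheme.Hom.germ_stalkMap p V z hpz
    have a2 : p.appLE V W e ≫ Z.presheaf.germ W z hz = p.app V ≫ Z.presheaf.germ (p ⁻¹ᵁ V) z hpz := by
      rw [Scheme.Hom.appLE, Category.assoc, TopCat.Presheaf.germ_res]
    rw [← a1] at a2
    exact congr($a2 b)
  have h3 := congr((Z.presheaf.germ W z hz).hom $h)
  rw [map_mul, map_zero, h2] at h3
  have hflat := Flat.stalkMap p z
  algebraize [(p.stalkMap z).hom]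
  have h4 : IsSMulRegular (Z.presheaf.stalk z) ((X.presheaf.germ V (p z) hpz).hom b) :=
    Module.Flat.isSMulRegular_of_nonZeroDivisors (mem_nonZeroDivisors_of_ne_zero h1)
  apply h4
  beta_reduce
  rw [smul_zero, Algebra.smul_def]
  exact h3

section

variable {S : Scheme.{u}} {G X Y : Over S} [GrpObj G] {a : AlgGrp.Action G X} {φ : X ⟶ Y}

theorem isIntegral_of_isGeomQuot [IsIntegral X.left] (h : GIT.IsGeomQuot a φ) : IsIntegral Y.left where
  nonempty := ⟨φ.left (Nonempty.some inferInstance)⟩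
  component_integral U hU := by
    obtain ⟨⟨y, hy⟩⟩ := hU
    obtain ⟨x, rfl⟩ := h.surj y
    have : Nonempty (φ.left ⁻¹ᵁ U) := ⟨⟨x, hy⟩⟩
    have : IsDomain Γ(X.left, φ.left ⁻¹ᵁ U) := inferInstance
    exact Function.Injective.isDomain (φ.left.app U).hom (h.sections U).1

theorem isIntegrallyClosed_app [IsIntegral X.left] (hX : Pi1.IsNormalScheme X.left) (V : X.left.Opens)
    [Nonempty V] : IsIntegrallyClosed Γ(X.left, V) := by
  have h1 : IsIntegral (V : Scheme.{u}) := isIntegral_of_isOpenImmersion V.ι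
  have h2 := Groth.Agent.S2102.result (V : Scheme.{u}) (isNormalScheme_of_isOpenImmersion V.ι hX)
  exact IsIntegrallyClosed.of_equiv V.topIso.commRingCatIsoToRingEquiv

theorem isIntegrallyClosed [IsIntegral X.left] (hX : Pi1.IsNormalScheme X.left) (h : GIT.IsGeomQuot a φ)
    [Flat (snd G X).left] (U : Y.left.Opens) [hU : Nonempty U] : IsIntegrallyClosed Γ(Y.left, U) := by
  have hY := isIntegral_of_isGeomQuot h
  have hne : Nonempty (φ.left ⁻¹ᵁ U) := by
    obtain ⟨⟨y, hy⟩⟩ := hU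
    obtain ⟨x, rfl⟩ := h.surj y
    exact ⟨⟨x, hy⟩⟩
  have hB := isIntegrallyClosed_app hX (φ.left ⁻¹ᵁ U)
  let g : Γ(Y.left, U) →+* Γ(X.left, φ.left ⁻¹ᵁ U) := (φ.left.app U).hom
  have hg : Function.Injective g := (h.sections U).1
  have hr : ∀ f, GIT.IsInvSection a φ U f → ∃ c, g c = f := fun f hf => by
    have : f ∈ Set.range (φ.left.app U) := by rw [(h.sections U).2]; exact hf
    exact this
  have hr' : ∀ c, GIT.IsInvSection a φ U (g c) := fun c => by
    have : g c ∈ Set.range (φ.left.app U) := ⟨c, rfl⟩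
    rwa [(h.sections U).2] at this
  rw [isIntegrallyClosed_iff (FractionRing Γ(Y.left, U))]
  intro x hx
  obtain ⟨p, q, hq, rfl⟩ := IsFractionRing.div_surjective (A := Γ(Y.left, U)) x
  have hq0 : q ≠ 0 := nonZeroDivisors.ne_zero hq
  have hgq0 : g q ≠ 0 := by rw [Ne, map_eq_zero_iff _ hg]; exact hq0
  let L := FractionRing Γ(X.left, φ.left ⁻¹ᵁ U)
  let gL : Γ(Y.left, U) →+* L := (algebraMap Γ(X.left, φ.left ⁻¹ᵁ U) L).comp g
  have hgL : Function.Injective gL := (IsFractionRing.injective _ L).comp hg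
  let G₁ : FractionRing Γ(Y.left, U) →+* L := IsFractionRing.lift (g := gL) hgL
  have hint : _root_.IsIntegral Γ(X.left, φ.left ⁻¹ᵁ U) (G₁ (algebraMap _ _ p / algebraMap _ _ q)) := by
    obtain ⟨P, hP, hP0⟩ := hx
    refine ⟨P.map g, hP.map g, ?_⟩
    rw [Polynomial.eval₂_map]
    have e : (algebraMap Γ(X.left, φ.left ⁻¹ᵁ U) L).comp g = G₁.comp (algebraMap _ _) := by
      ext x
      simp [G₁, gL]
    rw [e, ← Polynomial.hom_eval₂, hP0, map_zero]
  obtain ⟨F, hF⟩ := (isIntegrallyClosed_iff L).1 hB hint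
  have hF' : g q * F = g p := by
    apply IsFractionRing.injective _ L
    rw [map_mul, hF, map_div₀]
    simp only [G₁, IsFractionRing.lift_algebraMap]
    change gL q * (gL p / gL q) = gL p
    have : gL q ≠ 0 := by rw [Ne, map_eq_zero_iff _ hgL]; exact hq0
    exact mul_div_cancel₀ _ this
  -- `F` is invariant
  have hFinv : GIT.IsInvSection a φ U F := by
    have i1 := hr' q
    have i2 := hr' p
    unfold GIT.IsInvSection at i1 i2 ⊢
    rw [← sub_eq_zero]
    refine eq_zero_of_appLE_mul (snd G X).left (φ.left ⁻¹ᵁ U) (g q) hgq0 _ inf_le_right _ ?_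
    rw [mul_sub, sub_eq_zero]
    have e1 := congr((a.act.left.appLE (φ.left ⁻¹ᵁ U) (a.act.left ⁻¹ᵁ (φ.left ⁻¹ᵁ U) ⊓
      (snd G X).left ⁻¹ᵁ (φ.left ⁻¹ᵁ U)) inf_le_left).hom $hF')
    have e2 := congr(((snd G X).left.appLE (φ.left ⁻¹ᵁ U) (a.act.left ⁻¹ᵁ (φ.left ⁻¹ᵁ U) ⊓
      (snd G X).left ⁻¹ᵁ (φ.left ⁻¹ᵁ U)) inf_le_right).hom $hF')
    rw [map_mul] at e1 e2
    change (a.act.left.appLE _ _ _).hom (g q) = ((snd G X).left.appLE _ _ _).hom (g q) at i1
    change (a.act.left.appLE _ _ _).hom (g p) = ((snd G X).left.appLE _ _ _).hom (g p) at i2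
    rw [i1, i2] at e1
    exact e1.trans e2.symm
  obtain ⟨c, hc⟩ := hr F hFinv
  refine ⟨c, ?_⟩
  have h5 : q * c = p := hg (by rw [map_mul, hc, hF'])
  rw [eq_div_iff (by rw [Ne, IsFractionRing.to_map_eq_zero_iff]; exact hq0), ← map_mul, mul_comm, h5]

/-- a geometric quotient of a normal integral scheme is normal -/
theorem isNormalScheme [IsIntegral X.left] (hX : Pi1.IsNormalScheme X.left) (h : GIT.IsGeomQuot a φ)
    [Flat (snd G X).left] : Pi1.IsNormalScheme Y.left := by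
  have hY := isIntegral_of_isGeomQuot h
  intro y
  refine ⟨inferInstance, ?_⟩
  obtain ⟨U, hU, hy⟩ := exists_isAffineOpen_mem_and_subset (X := Y.left) (x := y) (U := ⊤) trivial
  have hne : Nonempty U := ⟨⟨y, hy.1⟩⟩
  have h1 := isIntegrallyClosed hX h U
  let := TopCat.Presheaf.algebra_section_stalk Y.left.presheaf ⟨y, hy.1⟩
  have h2 := hU.isLocalization_stalk ⟨y, hy.1⟩
  exact isIntegrallyClosed_of_isLocalization (Y.left.presheaf.stalk y)
    (hU.primeIdealOf ⟨y, hy.1⟩).asIdeal.primeCompl (Ideal.primeCompl_le_nonZeroDivisors _)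

end

end K957.Normal
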