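import Groth.Agent.EqInt.K957.Cart
import Groth.Agent.Sga3.H804.EtFam
import Groth.Agent.S0086
import Mathlib.AlgebraicGeometry.Morphisms.LocalFlatDescent

/-!
# Descent of properties along maps of principal bundles
-/

set_option autoImplicit false
universe u
open CategoryTheory CategoryTheory.Limits MonoidalCategory CartesianMonoidalCategory MonObj GrpObj AlgebraicGeometry

namespace K957.CartDesc

theorem isPullback_whiskerRight {S : Scheme.{u}} {P P' : Over S} (F : P ⟶ P') (U : Over S) :
    IsPullback (F ▷ U) (fst P U) (fst P' U) F := by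
  refine ⟨⟨by rw [whiskerRight_fst]⟩, ⟨PullbackCone.IsLimit.mk _
    (fun c => lift c.snd (c.fst ≫ snd P' U)) ?_ ?_ ?_⟩⟩
  · intro c
    apply CartesianMonoidalCategory.hom_ext
    · simp [c.condition]
    · simp
  · intro c
    simp
  · intro c m h1 h2
    apply CartesianMonoidalCategory.hom_ext
    · rw [lift_fst, h2]
    · rw [lift_snd, ← h1]; simp

theorem isPullback_whiskerRight_left {S : Scheme.{u}} {P P' : Over S} (F : P ⟶ P') (U : Over S) :
    IsPullback (F ▷ U).left (fst P U).left (fst P' U).left F.left :=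
  (isPullback_whiskerRight F U).map (Over.forget S)

theorem fpqc {X Y : Scheme.{u}} (f : X ⟶ Y) [Flat f] [Surjective f] [QuasiCompact f] :
    (@Surjective ⊓ @Flat ⊓ @QuasiCompact : MorphismProperty Scheme.{u}) f :=
  ⟨⟨‹_›, ‹_›⟩, ‹_›⟩

/-- quasi-compact `X ⊗ U` -/
theorem quasiCompact_tensor {S : Scheme.{u}} (X U : Over S) [QuasiCompact X.hom] [QuasiCompact U.hom] :
    QuasiCompact (X ⊗ U).hom :=
  inferInstanceAs (QuasiCompact (pullback.fst X.hom U.hom ≫ X.hom))

theorem quasiSeparated_tensor {S : Scheme.{u}} (X U : Over S) [QuasiSeparated X.hom] [QuasiSeparated U.hom] :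
    QuasiSeparated (X ⊗ U).hom :=
  inferInstanceAs (QuasiSeparated (pullback.fst X.hom U.hom ≫ X.hom))

theorem locallyOfFiniteType_tensor {S : Scheme.{u}} (X U : Over S) [LocallyOfFiniteType X.hom]
    [LocallyOfFiniteType U.hom] : LocallyOfFiniteType (X ⊗ U).hom :=
  inferInstanceAs (LocallyOfFiniteType (pullback.fst X.hom U.hom ≫ X.hom))

theorem isSeparated_tensor {S : Scheme.{u}} (X U : Over S) [IsSeparated X.hom] [IsSeparated U.hom] :
    IsSeparated (X ⊗ U).hom :=
  inferInstanceAs (IsSeparated (pullback.fst X.hom U.hom ≫ X.hom))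

/-- `f ▷ U` is equivariant when `f` is -/
theorem isEquivariant_whiskerRight {S : Scheme.{u}} {G X Y U : Over S} [GrpObj G] {a : AlgGrp.Action G X}
    {aY : AlgGrp.Action G Y} (b : AlgGrp.Action G U) {f : X ⟶ Y} (hf : AlgGrp.Action.IsEquivariant a aY f) :
    AlgGrp.Action.IsEquivariant (a.prod b) (aY.prod b) (f ▷ U) := by
  unfold AlgGrp.Action.IsEquivariant at hf ⊢
  apply CartesianMonoidalCategory.hom_ext
  · rw [Category.assoc, Category.assoc, whiskerRight_fst, AlgGrp.Action.prod_act, AlgGrp.Action.prod_act,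
      lift_fst, lift_fst_assoc, Category.assoc, hf, ← MonoidalCategory.whiskerLeft_comp_assoc (W := G),
      ← MonoidalCategory.whiskerLeft_comp_assoc (W := G), whiskerRight_fst]
  · rw [Category.assoc, Category.assoc, whiskerRight_snd, AlgGrp.Action.prod_act, AlgGrp.Action.prod_act,
      lift_snd, lift_snd, ← MonoidalCategory.whiskerLeft_comp_assoc (W := G), whiskerRight_snd]

end K957.CartDesc
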