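import Groth.Agent.Sga3B.AffPts
import Groth.Agent.EqInt.K957.Pts
import Groth.Prelude.Def_CoactBr
import Groth.Prelude.Def_GLin2
import Groth.Prelude.Def_GLin4

/-!
# Actions on affine schemes through coactions, on points with values in arbitrary schemes
-/

set_option autoImplicit false
universe u
open CategoryTheory CategoryTheory.Limits MonoidalCategory CartesianMonoidalCategory MonObj GrpObj AlgebraicGeometry
open scoped TensorProduct

namespace K957.AffAct

open K957.Pts Groth.Agent.Sga3B.AffPts Groth.Agent.Books.AffBridge Groth.Agent.Books.DynBasic CoactBr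

variable {k : Type u} [CommRing k]

section

variable {B : Type u} [CommRing B] [Algebra k B] {T T' : Over (Spec (CommRingCat.of k))}

/-- the algebra map of a point -/
noncomputable def pa (x : T ⟶ sp k B) : B →ₐ[k] Fn T := (Equiv.ofBijective _ (affPt_bijective T)).symm x

theorem affPt_pa (x : T ⟶ sp k B) : affPt T (pa x) = x := (Equiv.ofBijective _ (affPt_bijective T)).apply_symm_apply x

theorem pa_affPt (f : B →ₐ[k] Fn T) : pa (affPt T f) = f :=
  (Equiv.ofBijective _ (affPt_bijective T)).symm_apply_apply f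

theorem pa_comp (h : T' ⟶ T) (x : T ⟶ sp k B) : pa (h ≫ x) = (fnMap h).comp (pa x) := by
  rw [← affPt_pa x, comp_affPt, pa_affPt, pa_affPt]

theorem pa_injective {x y : T ⟶ sp k B} (h : pa x = pa y) : x = y := by
  rw [← affPt_pa x, h, affPt_pa]

theorem pa_pt {C : Type u} [CommRing C] [Algebra k C] (f : C →ₐ[k] B) (x : T ⟶ sp k B) :
    pa (x ≫ pt f) = (pa x).comp f := by
  have : pt f = specMap k f := Over.OverMorphism.ext rfl
  rw [← affPt_pa x, this, affPt_specMap, pa_affPt, pa_affPt]

end

section

variable {A B : Type u} [CommRing A] [CommRing B] [Algebra k B] {T : Over (Spec (CommRingCat.of k))}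

theorem pa_mul [Bialgebra k A] (x y : T ⟶ sp k A) :
    pa (x * y) = (Algebra.TensorProduct.lift (pa x) (pa y) fun _ _ => .all _ _).comp
      (Bialgebra.comulAlgHom k A) := by
  have h1 : affPt T (WithConv.toConv (pa x) * WithConv.toConv (pa y)).ofConv = x * y := by
    rw [affPt_mul]
    change affPt T (pa x) * affPt T (pa y) = _
    rw [affPt_pa, affPt_pa]
  rw [← h1, pa_affPt]
  apply AlgHom.ext
  intro c
  rw [AlgHom.convMul_apply]
  rfl

variable [Bialgebra k A] [HopfRep.Comod k A B] [GLin.IsCoactAlg k A B]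

theorem pa_ract (x : T ⟶ sp k B) (g : T ⟶ sp k A) :
    pa (lift x g ≫ ract k A B) =
      (Algebra.TensorProduct.lift (pa x) (pa g) fun _ _ => .all _ _).comp (GLin.coactAlgHom k A B) := by
  have e1 : lift x g = toSpecFn T ≫ lift (pt (pa x)) (pt (pa g)) := by
    rw [comp_lift]
    have h1 : toSpecFn T ≫ pt (pa x) = x := affPt_pa x
    have h2 : toSpecFn T ≫ pt (pa g) = g := affPt_pa g
    rw [h1, h2]
  rw [e1, Category.assoc, lift_pt_ract]
  exact pa_affPt _

end

end K957.AffAct
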