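import Groth.Agent.EqInt.K957.Orb

/-!
# `E ×_B E/H ≅ G/H × E`
-/

set_option autoImplicit false
universe u
open CategoryTheory CategoryTheory.Limits MonoidalCategory CartesianMonoidalCategory MonObj GrpObj AlgebraicGeometry

namespace K957.Bal

open K957.Pts K957.Glue K957.Restr K957.Invt K957.BundleQS K957.SubBundle K957.QB K957.Orb

variable {S : Scheme.{u}} {G H GH E B Q : Over S} [GrpObj G] [GrpObj H] (i : H ⟶ G) [IsMonHom i]
  {aQ : AlgGrp.Action G GH} {q₀ : 𝟙_ (Over S) ⟶ GH} (a : AlgGrp.Action G E) {π : E ⟶ B} {ρ : E ⟶ Q}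
  {φ : Q ⟶ B}

theorem isPullback_whiskerRight {X Y : Over S} (f : X ⟶ Y) (E : Over S) :
    IsPullback (fst X E) (f ▷ E) f (fst Y E) := by
  refine ⟨⟨by rw [whiskerRight_fst]⟩, ⟨PullbackCone.IsLimit.mk _
    (fun c => lift c.fst (c.snd ≫ snd Y E)) ?_ ?_ ?_⟩⟩
  · intro c
    simp
  · intro c
    apply CartesianMonoidalCategory.hom_ext
    · simp [c.condition]
    · simp
  · intro c m h1 h2
    apply CartesianMonoidalCategory.hom_ext
    · rw [lift_fst, h1]
    · rw [lift_snd, ← h2]; simp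

/-- `H` acting on `G × E` by `h (g, e) = (g h⁻¹, e)` -/
noncomputable def tw (E : Over S) : AlgGrp.Action H (G ⊗ E) :=
  ((AlgGrp.Action.invRight G).restrict i).prod (AlgGrp.Action.trivial H E)

theorem dot_tw {T : Over S} (h : T ⟶ H) (g : T ⟶ G) (e : T ⟶ E) :
    dot (tw i E) h (lift g e) = lift (g * (h ≫ i)⁻¹) e := by
  rw [tw, dot_prod, dot_restrict]
  congr 1
  · rw [dot, AlgGrp.Action.lift_invRight_act]
  · rw [dot, AlgGrp.Action.lift_trivial_act]

theorem exists_iso (hQ : ChGrp.IsHomog Scheme.fppfPrecoverage i aQ q₀) [Flat H.hom]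
    [QuasiCompact (aQ.orbitMap q₀).left] (Hπ : IsPullback a.act (snd G E) π π)
    (Hρ : IsPullback (a.restrict i).act (snd H E) ρ ρ) (hφ : ρ ≫ φ = π)
    [Flat ρ.left] [Surjective ρ.left] [QuasiCompact ρ.left] {P : Over S} {q : P ⟶ Q} {e : P ⟶ E}
    (sq : IsPullback q e φ π) : ∃ f : P ≅ GH ⊗ E, f.hom ≫ snd GH E = e := by
  have hout : IsPullback (qmap a (𝟙 E)) (snd G E) π π :=
    Diag.isPullback_qmap' a (𝟙 E) Hπ (Category.id_comp π)
  have w : (qmap a (𝟙 E) ≫ ρ) ≫ φ = snd G E ≫ π := by rw [Category.assoc, hφ, hout.w]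
  have l1 := sq.lift_fst (qmap a (𝟙 E) ≫ ρ) (snd G E) w
  have l2 := sq.lift_snd (qmap a (𝟙 E) ≫ ρ) (snd G E) w
  have top : IsPullback (qmap a (𝟙 E)) (sq.lift (qmap a (𝟙 E) ≫ ρ) (snd G E) w) ρ q := by
    refine IsPullback.of_bot ?_ l1.symm sq
    rw [hφ, l2]
    exact hout
  obtain ⟨c1, c2, c3⟩ := bundle_props top
  have htwq : ∀ (T : Over S) (h : T ⟶ H) (z : T ⟶ G ⊗ E),
      dot (tw i E) h z = lift ((z ≫ fst G E) * (h ≫ i)⁻¹) (z ≫ snd G E) := by
    intro T h z
    rw [← dot_tw, lift_comp_fst_snd]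
  have hq : ∀ (T : Over S) (z : T ⟶ G ⊗ E), z ≫ qmap a (𝟙 E) = dot a (z ≫ fst G E)⁻¹ (z ≫ snd G E) := by
    intro T z
    have := lift_qmap a (𝟙 E) (z ≫ fst G E) (z ≫ snd G E)
    rw [lift_comp_fst_snd, Category.comp_id] at this
    exact this
  have heq : AlgGrp.Action.IsEquivariant (tw i E) (a.restrict i) (qmap a (𝟙 E)) := by
    apply isEquivariant_of_dot
    intro T h z
    rw [hq, htwq, lift_fst, lift_snd, _root_.mul_inv_rev, _root_.inv_inv, mul_dot, dot_restrict, hq]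
  have hinv : GIT.IsInvariant (tw i E) (sq.lift (qmap a (𝟙 E) ≫ ρ) (snd G E) w) := by
    apply isInvariant_of_dot
    intro T h z
    apply sq.hom_ext
    · rw [Category.assoc, l1, Category.assoc, l1, ← Category.assoc, dot_comp _ heq, dot_inv _ Hρ.w,
        Category.assoc]
    · rw [Category.assoc, l2, Category.assoc, l2, htwq, lift_snd]
  have H1 := isPullback_bc _ heq hinv top Hρ
  have sq2 := isPullback_whiskerRight (aQ.orbitMap q₀) E
  have o1 := surjective_orb hQ
  have o2 := flat_orb hQ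
  obtain ⟨d1, d2, d3⟩ := bundle_props sq2
  have horb := isPullback_orb hQ
  have heq2 : AlgGrp.Action.IsEquivariant (tw i E) ((AlgGrp.Action.invRight G).restrict i) (fst G E) := by
    apply isEquivariant_of_dot
    intro T h z
    exact dot_prod_fst _ _ h z
  have hinv2 : GIT.IsInvariant (tw i E) (aQ.orbitMap q₀ ▷ E) := by
    apply isInvariant_of_dot
    intro T h z
    apply CartesianMonoidalCategory.hom_ext
    · rw [Category.assoc, whiskerRight_fst, ← Category.assoc, dot_comp _ heq2, dot_inv _ horb.w,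
        Category.assoc, Category.assoc, whiskerRight_fst]
    · rw [Category.assoc, whiskerRight_snd, htwq, lift_snd, Category.assoc, whiskerRight_snd]
  have H2 := isPullback_bc _ heq2 hinv2 sq2 horb
  obtain ⟨f, hf⟩ := exists_iso_of_bundle (tw i E) H1 H2
  refine ⟨f, ?_⟩
  have hepi : Epi (sq.lift (qmap a (𝟙 E) ≫ ρ) (snd G E) w) := DescOver.epi
  rw [← cancel_epi (sq.lift (qmap a (𝟙 E) ≫ ρ) (snd G E) w), ← Category.assoc, hf, whiskerRight_snd, l2]

/-- properties of `G/H ⟶ S` pass to `E/H ⟶ B` -/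
theorem prop_desc (P : MorphismProperty Scheme.{u}) [P.IsStableUnderBaseChange] [P.RespectsIso]
    [P.DescendsAlong (@Surjective ⊓ @Flat ⊓ @QuasiCompact)] (hP : P GH.hom)
    (hQ : ChGrp.IsHomog Scheme.fppfPrecoverage i aQ q₀) [Flat H.hom]
    [QuasiCompact (aQ.orbitMap q₀).left] (Hπ : IsPullback a.act (snd G E) π π)
    (Hρ : IsPullback (a.restrict i).act (snd H E) ρ ρ) (hφ : ρ ≫ φ = π)
    [Flat ρ.left] [Surjective ρ.left] [QuasiCompact ρ.left]
    [Flat π.left] [Surjective π.left] [QuasiCompact π.left] : P φ.left := by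
  have sq : IsPullback (pullback.fst φ π) (pullback.snd φ π) φ π := IsPullback.of_hasPullback _ _
  obtain ⟨f, hf⟩ := exists_iso i a hQ Hπ Hρ hφ sq
  have hi : IsIso f.hom.left := ((Over.forget S).mapIso f).isIso_hom
  have h1 : P (snd GH E).left := MorphismProperty.pullback_snd (P := P) _ _ hP
  have h2 : P (pullback.snd φ π).left := by
    rw [← hf, Over.comp_left, P.cancel_left_of_respectsIso]
    exact h1
  exact MorphismProperty.of_isPullback_of_descendsAlong
    (Q := (@Surjective ⊓ @Flat ⊓ @QuasiCompact : MorphismProperty Scheme.{u}))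
    (isPullback_left sq).flip ⟨⟨‹_›, ‹_›⟩, ‹_›⟩ h2

end K957.Bal
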