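import Groth.Prelude.Def_W4bk4git07Quot
import Groth.Prelude.Def_ChGrp

/-!
# The induced action on a base change `X ×_Y Y'`
-/

set_option autoImplicit false
universe u
open CategoryTheory CategoryTheory.Limits MonoidalCategory CartesianMonoidalCategory MonObj GrpObj AlgebraicGeometry

namespace K957.BaseChange

variable {S : Scheme.{u}} {G X Y X' Y' : Over S} [GrpObj G] (a : AlgGrp.Action G X) {φ : X ⟶ Y}
  {g : Y' ⟶ Y} {pr : X' ⟶ X} {φ' : X' ⟶ Y'}

theorem cond (h : GIT.IsInvariant a φ) (H : IsPullback pr φ' φ g) :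
    ((G ◁ pr) ≫ a.act) ≫ φ = (snd G X' ≫ φ') ≫ g := by
  rw [Category.assoc, h, ← Category.assoc, whiskerLeft_snd, Category.assoc, Category.assoc, H.w]

/-- the induced action morphism -/
noncomputable def act (h : GIT.IsInvariant a φ) (H : IsPullback pr φ' φ g) : G ⊗ X' ⟶ X' :=
  H.lift ((G ◁ pr) ≫ a.act) (snd G X' ≫ φ') (cond a h H)

theorem act_pr (h : GIT.IsInvariant a φ) (H : IsPullback pr φ' φ g) :
    act a h H ≫ pr = (G ◁ pr) ≫ a.act := H.lift_fst _ _ _

theorem act_φ' (h : GIT.IsInvariant a φ) (H : IsPullback pr φ' φ g) :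
    act a h H ≫ φ' = snd G X' ≫ φ' := H.lift_snd _ _ _

/-- the induced action -/
noncomputable def action (h : GIT.IsInvariant a φ) (H : IsPullback pr φ' φ g) : AlgGrp.Action G X' where
  act := act a h H
  one_act := by
    apply H.hom_ext
    · rw [Category.assoc, act_pr, ← whisker_exchange_assoc, a.one_act]
      simp
    · rw [Category.assoc, act_φ', whiskerRight_snd_assoc, leftUnitor_hom]
  mul_act := by
    apply H.hom_ext
    · simp only [Category.assoc, act_pr]
      rw [← whisker_exchange_assoc, a.mul_act, ← MonoidalCategory.whiskerLeft_comp_assoc (W := G),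
        act_pr]
      simp
    · simp only [Category.assoc, act_φ']
      rw [whiskerRight_snd_assoc, whiskerLeft_snd_assoc, act_φ', associator_hom_snd_snd_assoc]

theorem action_pr (h : GIT.IsInvariant a φ) (H : IsPullback pr φ' φ g) :
    (action a h H).act ≫ pr = (G ◁ pr) ≫ a.act := act_pr a h H

theorem isInvariant (h : GIT.IsInvariant a φ) (H : IsPullback pr φ' φ g) :
    GIT.IsInvariant (action a h H) φ' := act_φ' a h H

end K957.BaseChange
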