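import Groth.Agent.EqInt.K957.AffAct

/-!
# The action of a matrix group on rows of matrices, as a linear coaction on a polynomial ring
-/

set_option autoImplicit false
universe u
open CategoryTheory CategoryTheory.Limits MonoidalCategory CartesianMonoidalCategory MonObj GrpObj AlgebraicGeometry
open scoped TensorProduct

namespace K957.Block

open K957.Pts K957.AffAct Groth.Agent.Sga3B.AffPts CoactBr

variable {k : Type u} [CommRing k] {A : Type u} [CommRing A] {m n : ℕ} {J : Type}
  (E : J × Fin m ≃ Fin n)

section coaction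

variable [Bialgebra k A] (g : Matrix (Fin m) (Fin m) A)

variable (k) in
/-- the coaction as an algebra map -/
noncomputable def alg : MvPolynomial (Fin n) k →ₐ[k] MvPolynomial (Fin n) k ⊗[k] A :=
  MvPolynomial.aeval fun j => ∑ b : Fin m, MvPolynomial.X (E ((E.symm j).1, b)) ⊗ₜ[k] g b (E.symm j).2

theorem alg_X (j : Fin n) : alg k E g (MvPolynomial.X j) =
    ∑ b : Fin m, MvPolynomial.X (E ((E.symm j).1, b)) ⊗ₜ[k] g b (E.symm j).2 := by
  simp [alg]

variable (hg1 : ∀ b c, CoalgebraStruct.comul (R := k) (g b c) = ∑ l, g b l ⊗ₜ[k] g l c)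
  (hg2 : ∀ b c, CoalgebraStruct.counit (R := k) (g b c) = if b = c then (1 : k) else 0)

include hg1 in
theorem alg_coassoc :
    (Algebra.TensorProduct.assoc k k k (MvPolynomial (Fin n) k) A A).toAlgHom.comp
        ((Algebra.TensorProduct.map (alg k E g) (AlgHom.id k A)).comp (alg k E g)) =
      (Algebra.TensorProduct.map (AlgHom.id k _) (Bialgebra.comulAlgHom k A)).comp (alg k E g) := by
  apply MvPolynomial.algHom_ext
  intro i
  simp only [AlgHom.comp_apply, alg_X, map_sum, Algebra.TensorProduct.map_tmul, AlgHom.id_apply,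
    TensorProduct.sum_tmul, TensorProduct.tmul_sum, Bialgebra.comulAlgHom_apply, hg1, Equiv.symm_apply_apply]
  exact Finset.sum_comm

include hg2 in
theorem alg_counit :
    (Algebra.TensorProduct.rid k k (MvPolynomial (Fin n) k)).toAlgHom.comp
        ((Algebra.TensorProduct.map (AlgHom.id k _) (Bialgebra.counitAlgHom k A)).comp (alg k E g)) =
      AlgHom.id k _ := by
  apply MvPolynomial.algHom_ext
  intro i
  simp [alg_X, Bialgebra.counitAlgHom_apply, hg2, TensorProduct.tmul_ite]

/-- the comodule structure -/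
@[reducible] noncomputable def comod : HopfRep.Comod k A (MvPolynomial (Fin n) k) where
  coact := (alg k E g).toLinearMap
  coassoc := by
    refine LinearMap.ext fun p => ?_
    exact congrArg (fun φ => φ p) (alg_coassoc E g hg1)
  counit_comp := by
    refine LinearMap.ext fun p => ?_
    have h' : (Algebra.TensorProduct.rid k k (MvPolynomial (Fin n) k))
        (LinearMap.lTensor (MvPolynomial (Fin n) k) (CoalgebraStruct.counit (R := k) (A := A))
          (alg k E g p)) = p := congrArg (fun φ => φ p) (alg_counit E g hg2)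
    apply (Algebra.TensorProduct.rid k k (MvPolynomial (Fin n) k)).injective
    simpa using h'

theorem comod_coact (p : MvPolynomial (Fin n) k) : (comod E g hg1 hg2).coact p = alg k E g p := rfl

theorem comod_isCoactAlg : @GLin.IsCoactAlg k _ A _ _ (MvPolynomial (Fin n) k) _ _ (comod E g hg1 hg2) :=
  letI := comod E g hg1 hg2
  ⟨by simp [comod_coact], fun f g => by simp [comod_coact]⟩

theorem comod_isLinear [Fintype J] [DecidableEq J] :
    @GLin.IsLinear k _ A _ _ (Fin n) _ (comod E g hg1 hg2) := by
  letI := comod E g hg1 hg2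
  intro i
  refine ⟨fun j => if (E.symm j).1 = (E.symm i).1 then g (E.symm j).2 (E.symm i).2 else 0, ?_⟩
  refine (alg_X E g i).trans ?_
  rw [← E.sum_comp]
  simp only [Equiv.symm_apply_apply, TensorProduct.tmul_ite, TensorProduct.tmul_zero]
  rw [Fintype.sum_prod_type, Finset.sum_comm]
  refine Finset.sum_congr rfl fun b _ => ?_
  simp

end coaction

section points

variable {T T' : Over (Spec (CommRingCat.of k))} (g : Matrix (Fin m) (Fin m) A)

/-- matrix of a point of the group -/
noncomputable def mx [Algebra k A] (x : T ⟶ sp k A) : Matrix (Fin m) (Fin m) (Fn T) := g.map (pa x)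

/-- the matrix of coordinates of a point of affine space -/
noncomputable def rows (x : T ⟶ sp k (MvPolynomial (Fin n) k)) : Matrix J (Fin m) (Fn T) :=
  fun j b => pa x (MvPolynomial.X (E (j, b)))

/-- the point with given coordinates -/
noncomputable def ofRows (M : Matrix J (Fin m) (Fn T)) : T ⟶ sp k (MvPolynomial (Fin n) k) :=
  affPt T (MvPolynomial.aeval fun j => M (E.symm j).1 (E.symm j).2)

theorem rows_ofRows (M : Matrix J (Fin m) (Fn T)) : rows E (ofRows E M) = M := by
  ext j b
  simp [rows, ofRows, pa_affPt]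

theorem rows_injective {x y : T ⟶ sp k (MvPolynomial (Fin n) k)} (h : rows E x = rows E y) : x = y := by
  apply pa_injective
  apply MvPolynomial.algHom_ext
  intro j
  have := congrFun (congrFun h (E.symm j).1) (E.symm j).2
  simpa [rows] using this

theorem rows_comp (h : T' ⟶ T) (x : T ⟶ sp k (MvPolynomial (Fin n) k)) :
    rows E (h ≫ x) = (rows E x).map (fnMap h) := by
  ext j b
  simp [rows, pa_comp]

theorem mx_comp [Algebra k A] (h : T' ⟶ T) (x : T ⟶ sp k A) : mx g (h ≫ x) = (mx g x).map (fnMap h) := by
  ext j b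
  simp [mx, pa_comp]

section

variable [Bialgebra k A] (hg1 : ∀ b c, CoalgebraStruct.comul (R := k) (g b c) = ∑ l, g b l ⊗ₜ[k] g l c)
  (hg2 : ∀ b c, CoalgebraStruct.counit (R := k) (g b c) = if b = c then (1 : k) else 0)

include hg1 in
theorem mx_mul (x y : T ⟶ sp k A) : mx g (x * y) = mx g x * mx g y := by
  ext b c
  rw [Matrix.mul_apply]
  simp [mx, pa_mul, hg1]

include hg2 in
theorem mx_one : mx g (1 : T ⟶ sp k A) = 1 := by
  have h : (1 : T ⟶ sp k A) = affPt T ((Algebra.ofId k (Fn T)).comp (Bialgebra.counitAlgHom k A)) := by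
    rw [← affEquiv_apply (A := A) T (WithConv.toConv _)]
    exact (map_one (affEquiv (A := A) T)).symm
  ext b c
  rw [mx, Matrix.map_apply, h, pa_affPt, AlgHom.comp_apply, Bialgebra.counitAlgHom_apply, hg2,
    Matrix.one_apply]
  split_ifs <;> simp

theorem rows_ract (x : T ⟶ sp k (MvPolynomial (Fin n) k)) (y : T ⟶ sp k A) :
    rows E (lift x y ≫ @ract k A (MvPolynomial (Fin n) k) _ _ _ _ _ (comod E g hg1 hg2)
      (comod_isCoactAlg E g hg1 hg2)) = rows E x * mx g y := by
  let := comod E g hg1 hg2
  have := comod_isCoactAlg E g hg1 hg2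
  ext j b
  rw [Matrix.mul_apply, rows, pa_ract]
  have : GLin.coactAlgHom k A (MvPolynomial (Fin n) k) (MvPolynomial.X (E (j, b))) = _ := alg_X E g (E (j, b))
  rw [AlgHom.comp_apply, this, map_sum]
  simp [rows, mx]

end

end points

end K957.Block
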