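import Groth.Agent.EqInt.K957.BlockU

/-!
# The actions on the space of tuples of matrices
-/

set_option autoImplicit false
universe u
open CategoryTheory CategoryTheory.Limits MonoidalCategory CartesianMonoidalCategory MonObj GrpObj AlgebraicGeometry
open scoped TensorProduct

namespace K957.Block

open K957.Pts K957.AffAct Groth.Agent.Sga3B.AffPts CoactBr K957.Restr K957.Glue

variable {k : Type u} [CommRing k] {m n r : ℕ} (E : (Fin r × Fin m) × Fin m ≃ Fin n)
  {A : Type u} [CommRing A] [HopfAlgebra k A] (g : Matrix (Fin m) (Fin m) A)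
  (hg1 : ∀ b c, CoalgebraStruct.comul (R := k) (g b c) = ∑ l, g b l ⊗ₜ[k] g l c)
  (hg2 : ∀ b c, CoalgebraStruct.counit (R := k) (g b c) = if b = c then (1 : k) else 0)
  {T T' : Over (Spec (CommRingCat.of k))}

/-- the action -/
noncomputable def actn : AlgGrp.Action (sp k A) (sp k (MvPolynomial (Fin n) k)) :=
  @CoactBr.action k A (MvPolynomial (Fin n) k) _ _ _ _ _ (comod E g hg1 hg2) (comod_isCoactAlg E g hg1 hg2)

theorem rows_dot (h : T ⟶ sp k A) (x : T ⟶ sp k (MvPolynomial (Fin n) k)) :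
    rows E (dot (actn E g hg1 hg2) h x) = rows E x * mx g h⁻¹ := by
  let := comod E g hg1 hg2
  have := comod_isCoactAlg E g hg1 hg2
  rw [← rows_ract E g hg1 hg2]
  congr 1
  exact lift_action_act h x

theorem blk_dot (i : Fin r) (h : T ⟶ sp k A) (x : T ⟶ sp k (MvPolynomial (Fin n) k)) :
    blk E i (dot (actn E g hg1 hg2) h x) = blk E i x * mx g h⁻¹ := by
  rw [blk, rows_dot]
  ext a b
  simp [blk, Matrix.mul_apply]

include hg1 hg2 in
theorem mx_inv_mul (h : T ⟶ sp k A) : mx g h⁻¹ * mx g h = 1 := by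
  rw [← mx_mul g hg1, inv_mul_cancel, mx_one g hg2]

include hg1 hg2 in
theorem mx_mul_inv (h : T ⟶ sp k A) : mx g h * mx g h⁻¹ = 1 := by
  rw [← mx_mul g hg1, mul_inv_cancel, mx_one g hg2]

include hg1 hg2 in
theorem isUnit_det_mx (h : T ⟶ sp k A) : IsUnit (mx g h).det := by
  rw [← Matrix.isUnit_iff_isUnit_det]
  exact IsUnit.of_mul_eq_one _ (mx_mul_inv g hg1 hg2 h)

theorem mem_D_dot (i : Fin r) (h : T ⟶ sp k A) (x : T ⟶ sp k (MvPolynomial (Fin n) k)) (t : T.left) :
    (dot (actn E g hg1 hg2) h x).left t ∈ D k E i ↔ x.left t ∈ D k E i := by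
  rw [mem_D_iff, mem_D_iff, blk_dot, Matrix.det_mul]
  have hu := isUnit_det_mx g hg1 hg2 h⁻¹
  have : T.left.basicOpen (show Γ(T.left, ⊤) from (blk E i x).det * (mx g h⁻¹).det) =
      T.left.basicOpen (show Γ(T.left, ⊤) from (blk E i x).det) := by
    refine (Scheme.basicOpen_mul T.left _ _).trans ?_
    rw [Scheme.basicOpen_of_isUnit T.left hu]
    exact inf_top_eq _
  exact iff_of_eq (congrArg (t ∈ ·) this)

theorem D_inv (i : Fin r) : (actn E g hg1 hg2).act.left ⁻¹ᵁ (D k E i) = (snd (sp k A) (sp k (MvPolynomial (Fin n) k))).left ⁻¹ᵁ (D k E i) := by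
  ext t
  have := mem_D_dot E g hg1 hg2 i (fst _ _) (snd _ _) t
  rw [dot, lift_fst_snd, Category.id_comp] at this
  exact this

theorem UU_inv : (actn E g hg1 hg2).act.left ⁻¹ᵁ (UU k E) = (snd (sp k A) (sp k (MvPolynomial (Fin n) k))).left ⁻¹ᵁ (UU k E) := by
  rw [UU, Scheme.Hom.preimage_iSup, Scheme.Hom.preimage_iSup]
  congr 1
  ext1 i
  exact D_inv E g hg1 hg2 i

/-- `(A, g)` is the general linear group with its generic matrix -/
structure IsGL (g : Matrix (Fin m) (Fin m) A) : Prop where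
  comul : ∀ b c, CoalgebraStruct.comul (R := k) (g b c) = ∑ l, g b l ⊗ₜ[k] g l c
  counit : ∀ b c, CoalgebraStruct.counit (R := k) (g b c) = if b = c then (1 : k) else 0
  ex : ∀ (T : Over (Spec (CommRingCat.of k))) (M : Matrix (Fin m) (Fin m) (Fn T)), IsUnit M.det →
    ∃ x : T ⟶ sp k A, mx g x = M
  inj : ∀ (T : Over (Spec (CommRingCat.of k))) (x y : T ⟶ sp k A), mx g x = mx g y → x = y

end K957.Block
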