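import Groth.Agent.EqInt.K957.Bal

/-!
# Schemes with an equivariant map to the group are trivial bundles
-/

set_option autoImplicit false
universe u
open CategoryTheory CategoryTheory.Limits MonoidalCategory CartesianMonoidalCategory MonObj GrpObj AlgebraicGeometry

namespace K957.ToGroup

open K957.Pts K957.Glue K957.Invt

variable {S : Scheme.{u}} {G E : Over S} [GrpObj G] (a : AlgGrp.Action G E) {δ : E ⟶ G}

theorem surjective_hom (G : Over S) [GrpObj G] : Surjective G.hom := by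
  have h : (η[G] : 𝟙_ (Over S) ⟶ G).left ≫ G.hom = 𝟙 S := Over.w _
  refine ⟨fun s => ⟨(η[G] : 𝟙_ (Over S) ⟶ G).left s, ?_⟩⟩
  rw [← Scheme.Hom.comp_apply, h]
  rfl

theorem hasBundle (hδ : ∀ (T : Over S) (g : T ⟶ G) (x : T ⟶ E), dot a g x ≫ δ = g * (x ≫ δ))
    [Flat G.hom] [QuasiCompact G.hom] : HasBundle a := by
  have sq : IsPullback (pullback.fst δ (η[G] : 𝟙_ (Over S) ⟶ G)) (pullback.snd δ (η[G] : 𝟙_ (Over S) ⟶ G))
    δ (η[G] : 𝟙_ (Over S) ⟶ G) := IsPullback.of_hasPullback _ _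
  set F := pullback δ (η[G] : 𝟙_ (Over S) ⟶ G) with hF
  set j := pullback.fst δ (η[G] : 𝟙_ (Over S) ⟶ G) with hj
  have hjδ : ∀ (T : Over S) (f : T ⟶ F), (f ≫ j) ≫ δ = 1 := by
    intro T f
    rw [Category.assoc, sq.w, ← Category.assoc, Hom.one_def, toUnit_unique (toUnit T) (f ≫ pullback.snd _ _)]
  have hex : ∀ (T : Over S) (x : T ⟶ E), x ≫ δ = 1 → ∃ f : T ⟶ F, f ≫ j = x := fun T x h =>
    ⟨sq.lift x (toUnit T) (by rw [h, Hom.one_def]), sq.lift_fst _ _ _⟩
  have hmono : Mono j := by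
    have : Mono (η[G] : 𝟙_ (Over S) ⟶ G) := ⟨fun _ _ _ => toUnit_unique _ _⟩
    infer_instance
  obtain ⟨ρ, hρ⟩ := hex E (dot a δ⁻¹ (𝟙 E)) (by rw [hδ, Category.id_comp, inv_mul_cancel])
  have hρ' : ∀ (T : Over S) (x : T ⟶ E), (x ≫ ρ) ≫ j = dot a (x ≫ δ)⁻¹ x := by
    intro T x
    rw [Category.assoc, hρ, comp_dot, GrpObj.comp_inv, Category.comp_id]
  have hinv : GIT.IsInvariant a ρ := by
    apply isInvariant_of_dot
    intro T g x
    rw [← cancel_mono j, hρ', hρ', hδ, _root_.mul_inv_rev, mul_dot, inv_dot_dot]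
  have H : IsPullback a.act (snd G E) ρ ρ := by
    apply isPullback_of_pts a hinv
    · intro T x y hxy
      have := hxy =≫ j
      rw [hρ', hρ'] at this
      refine ⟨(x ≫ δ) * (y ≫ δ)⁻¹, ?_⟩
      rw [mul_dot, ← this, dot_inv_dot]
    · intro T g g' y h
      have := h =≫ δ
      rw [hδ, hδ] at this
      exact mul_right_cancel this
  -- `E ≅ G × F`
  let f1 : E ⟶ G ⊗ F := lift δ ρ
  let f2 : G ⊗ F ⟶ E := dot a (fst G F) (snd G F ≫ j)
  have hf2δ : f2 ≫ δ = fst G F := by rw [hδ, hjδ, _root_.mul_one]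
  have e1 : f1 ≫ f2 = 𝟙 E := by
    rw [comp_dot, lift_fst, lift_snd_assoc, hρ, dot_inv_dot]
  have e2 : f2 ≫ f1 = 𝟙 _ := by
    apply CartesianMonoidalCategory.hom_ext
    · rw [Category.assoc, lift_fst, hf2δ, Category.id_comp]
    · rw [Category.assoc, lift_snd, Category.id_comp, ← cancel_mono j, hρ', hf2δ, inv_dot_dot]
  have e3 : f1 ≫ snd G F = ρ := lift_snd _ _
  have hi : IsIso f1.left := ((Over.forget S).mapIso ⟨f1, f2, e1, e2⟩).isIso_hom
  have h1 : Flat (snd G F).left := MorphismProperty.pullback_snd (P := @Flat) _ _ ‹_›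
  have h2 : QuasiCompact (snd G F).left := MorphismProperty.pullback_snd (P := @QuasiCompact) _ _ ‹_›
  have h3 : Surjective (snd G F).left :=
    MorphismProperty.pullback_snd (P := @Surjective) _ _ (surjective_hom G)
  refine ⟨F, ρ, hinv, ?_, ?_, ?_, isIso_of_isPullback a hinv H⟩
  · rw [← e3, Over.comp_left]; infer_instance
  · rw [← e3, Over.comp_left]; infer_instance
  · rw [← e3, Over.comp_left]; infer_instance

end K957.ToGroup
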