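import Groth.Agent.EqInt.K957.BlockAct
import Groth.Agent.EqInt.K957.ToGroup

/-!
# The quotient of the full rank locus by `GL_m`
-/

set_option autoImplicit false
universe u
open CategoryTheory CategoryTheory.Limits MonoidalCategory CartesianMonoidalCategory MonObj GrpObj AlgebraicGeometry
open scoped TensorProduct

namespace K957.Block

open K957.Pts K957.AffAct Groth.Agent.Sga3B.AffPts CoactBr K957.Restr K957.Glue

variable {k : Type u} [CommRing k] {m n r : ℕ} (E : (Fin r × Fin m) × Fin m ≃ Fin n)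
  {T T' : Over (Spec (CommRingCat.of k))}

theorem isUnit_blk (i : Fin r) (y : T ⟶ XU (D k E i)) : IsUnit (blk E i (y ≫ iU (D k E i))).det := by
  rw [isUnit_iff]
  intro t
  exact mem_iU _ y t

theorem isUnit_det_inv {R : Type*} [CommRing R] {M : Matrix (Fin m) (Fin m) R} (h : IsUnit M.det) :
    IsUnit M⁻¹.det := by
  rw [← Matrix.isUnit_iff_isUnit_det] at h ⊢
  exact (Matrix.isUnit_nonsing_inv_iff).mpr h

theorem map_inv_matrix {R R' : Type*} [CommRing R] [CommRing R'] (f : R →+* R')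
    {M : Matrix (Fin m) (Fin m) R} (h : IsUnit M.det) : (M⁻¹).map f = (M.map f)⁻¹ := by
  symm
  apply Matrix.inv_eq_right_inv
  have h1 : M.map f * M⁻¹.map f = (M * M⁻¹).map f := (Matrix.map_mul).symm
  rw [h1, Matrix.mul_nonsing_inv M h]
  ext i j
  simp [Matrix.one_apply, apply_ite f]

section gl

variable {A : Type u} [CommRing A] [HopfAlgebra k A] {g : Matrix (Fin m) (Fin m) A}

theorem IsGL.mx_inv (hg : IsGL (k := k) g) {x : T ⟶ sp k A} {N : Matrix (Fin m) (Fin m) (Fn T)}
    (h : N * mx g x = 1) : mx g x⁻¹ = N :=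
  (left_inv_eq_right_inv h (mx_mul_inv g hg.comul hg.counit x)).symm

theorem IsGL.exists_dl (hg : IsGL (k := k) g) (i : Fin r) : ∃ dl : XU (D k E i) ⟶ sp k A,
    (∀ (T : Over (Spec (CommRingCat.of k))) (y : T ⟶ XU (D k E i)),
      mx g (y ≫ dl) = (blk E i (y ≫ iU (D k E i)))⁻¹) ∧
    ∀ (T : Over (Spec (CommRingCat.of k))) (h : T ⟶ sp k A) (x : T ⟶ XU (D k E i)),
      dot (Restr.restrict (actn E g hg.comul hg.counit) (D k E i) (D_inv E g hg.comul hg.counit i)) h x ≫ dl =
        h * (x ≫ dl) := by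
  have h0 := isUnit_blk E i (𝟙 (XU (D k E i)))
  rw [Category.id_comp] at h0
  obtain ⟨dl, hdl⟩ := hg.ex (XU (D k E i)) (blk E i (iU (D k E i)))⁻¹ (isUnit_det_inv h0)
  have h1 : ∀ (T : Over (Spec (CommRingCat.of k))) (y : T ⟶ XU (D k E i)),
      mx g (y ≫ dl) = (blk E i (y ≫ iU (D k E i)))⁻¹ := by
    intro T y
    rw [mx_comp, hdl, blk_comp]
    exact map_inv_matrix (fnMap y).toRingHom h0
  refine ⟨dl, h1, fun T h x => ?_⟩
  apply hg.inj
  rw [h1, dot_comp _ (restrict_isEquivariant _ _ _), blk_dot, mx_mul _ hg.comul, h1, Matrix.mul_inv_rev]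
  congr 1
  exact Matrix.inv_eq_left_inv (mx_mul_inv g hg.comul hg.counit h)

end gl

instance : Flat (sp k (MvPolynomial (Fin n) k)).hom := by
  have : (algebraMap k (MvPolynomial (Fin n) k)).Flat :=
    RingHom.flat_algebraMap_iff.mpr inferInstance
  exact (Flat.SpecMap_iff (f := CommRingCat.ofHom (algebraMap k (MvPolynomial (Fin n) k)))).mpr this

theorem D_le (i : Fin r) : D k E i ≤ UU k E := le_iSup (D k E) i

/-- the inclusion -/
noncomputable def inc (i : Fin r) : XU (D k E i) ⟶ XU (UU k E) :=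
  Over.homMk (Scheme.homOfLE _ (D_le E i)) (by
    change Scheme.homOfLE _ (D_le E i) ≫ (UU k E).ι ≫ _ = (D k E i).ι ≫ _
    rw [Scheme.homOfLE_ι_assoc])

theorem inc_iU (i : Fin r) : inc (k := k) E i ≫ iU (UU k E) = iU (D k E i) :=
  Over.OverMorphism.ext (Scheme.homOfLE_ι _ (D_le E i))

theorem inc_equivariant (i : Fin r) {A : Type u} [CommRing A] [HopfAlgebra k A]
    (g : Matrix (Fin m) (Fin m) A)
    (hg1 : ∀ b c, CoalgebraStruct.comul (R := k) (g b c) = ∑ l, g b l ⊗ₜ[k] g l c)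
    (hg2 : ∀ b c, CoalgebraStruct.counit (R := k) (g b c) = if b = c then (1 : k) else 0) :
    AlgGrp.Action.IsEquivariant (Restr.restrict (actn E g hg1 hg2) (D k E i) (D_inv E g hg1 hg2 i))
      (Restr.restrict (actn E g hg1 hg2) (UU k E) (UU_inv E g hg1 hg2)) (inc E i) := by
  apply isEquivariant_of_dot
  intro T h x
  rw [← cancel_mono (iU (UU k E)), Category.assoc, inc_iU, dot_comp _ (restrict_isEquivariant _ _ _),
    dot_comp _ (restrict_isEquivariant _ _ _), Category.assoc, inc_iU]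

end K957.Block
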