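import Groth.Agent.EqInt.K957.BlockQ
import Groth.Agent.S0114

/-!
# The quotient of the full rank locus by a closed subgroup of `GL_m`
-/

set_option autoImplicit false
universe u
open CategoryTheory CategoryTheory.Limits MonoidalCategory CartesianMonoidalCategory MonObj GrpObj AlgebraicGeometry
open scoped TensorProduct

namespace K957.Block

open K957.Pts K957.AffAct Groth.Agent.Sga3B.AffPts CoactBr K957.Restr K957.Glue Groth.Agent.Books.AffBridge

/-- the base of a bundle is separated if the action is proper in the strong sense -/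
theorem isSeparated_of_psi {S : Scheme.{u}} {G X Q : Over S} [GrpObj G] (a : AlgGrp.Action G X) {ρ : X ⟶ Q}
    (H : IsPullback a.act (snd G X) ρ ρ) [Flat ρ.left] [Surjective ρ.left] [QuasiCompact ρ.left]
    (hpsi : IsClosedImmersion (GIT.psi a (𝟙 X)).left) : IsSeparated Q.hom := by
  have hc := isIso_of_isPullback a H.w H
  have h1 := Bundle.psiY_toProd a ρ H.w
  have h2 : IsClosedImmersion (Bundle.toProd ρ) := by
    have : Bundle.toProd ρ = inv (GIT.PsiY a ρ H.w) ≫ (GIT.psi a (𝟙 X)).left := by
      rw [IsIso.eq_inv_comp, h1]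
    rw [this]; infer_instance
  have sq1 := isPullback_left (Diag.isPullback_whisker Q ρ)
  have sq2 := isPullback_left (Bal.isPullback_whiskerRight ρ X)
  have e : (ρ ⊗ₘ ρ).left = (ρ ▷ X).left ≫ (Q ◁ ρ).left := by
    rw [← Over.comp_left, MonoidalCategory.tensorHom_def]
  have c1 : Surjective (ρ ▷ X).left := MorphismProperty.of_isPullback (P := @Surjective) sq2 ‹_›
  have c2 : Flat (ρ ▷ X).left := MorphismProperty.of_isPullback (P := @Flat) sq2 ‹_›
  have c3 : QuasiCompact (ρ ▷ X).left := MorphismProperty.of_isPullback (P := @QuasiCompact) sq2 ‹_›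
  have c4 : Surjective (Q ◁ ρ).left := MorphismProperty.of_isPullback (P := @Surjective) sq1.flip ‹_›
  have c5 : Flat (Q ◁ ρ).left := MorphismProperty.of_isPullback (P := @Flat) sq1.flip ‹_›
  have c6 : QuasiCompact (Q ◁ ρ).left := MorphismProperty.of_isPullback (P := @QuasiCompact) sq1.flip ‹_›
  have d1 : Surjective (ρ ⊗ₘ ρ).left := by rw [e]; infer_instance
  have d2 : Flat (ρ ⊗ₘ ρ).left := by rw [e]; infer_instance
  have d3 : QuasiCompact (ρ ⊗ₘ ρ).left := by rw [e]; infer_instance
  have h3 : IsClosedImmersion (lift (𝟙 Q) (𝟙 Q)).left :=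
    MorphismProperty.of_isPullback_of_descendsAlong (P := @IsClosedImmersion)
      (Q := (@Surjective ⊓ @Flat ⊓ @QuasiCompact : MorphismProperty Scheme.{u}))
      (Bundle.isPullback_toProd ρ) ⟨⟨d1, d2⟩, d3⟩ h2
  exact ⟨h3⟩

variable {k : Type u} [Field k] {m n r : ℕ} (E : (Fin r × Fin m) × Fin m ≃ Fin n)
  {A' : Type u} [CommRing A'] [HopfAlgebra k A'] {g' : Matrix (Fin m) (Fin m) A'} (hg : IsGL (k := k) g')
  {A : Type u} [CommRing A] [HopfAlgebra k A] (f : A' →ₐc[k] A)
  {T : Over (Spec (CommRingCat.of k))}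

/-- the homomorphism -/
noncomputable def eps : sp k A ⟶ sp k A' := specMap k (f : A' →ₐ[k] A)

instance : IsMonHom (eps f) := isMonHom_specMap k f

theorem mx_map (x : T ⟶ sp k A) : mx (g'.map f) x = mx g' (x ≫ eps f) := by
  have h : pa (x ≫ eps f) = (pa x).comp (f : A' →ₐ[k] A) := pa_pt (f : A' →ₐ[k] A) x
  ext b c
  rw [mx, mx, Matrix.map_apply, Matrix.map_apply, Matrix.map_apply, h]
  rfl

include hg in
theorem comul_map (b c : Fin m) : CoalgebraStruct.comul (R := k) ((g'.map f) b c) =
    ∑ l, (g'.map f) b l ⊗ₜ[k] (g'.map f) l c := by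
  have := CoalgHomClass.map_comp_comul_apply f (g' b c)
  rw [Matrix.map_apply, ← this, hg.comul, map_sum]
  rfl

include hg in
theorem counit_map (b c : Fin m) : CoalgebraStruct.counit (R := k) ((g'.map f) b c) =
    if b = c then (1 : k) else 0 := by
  have := CoalgHomClass.counit_comp_apply f (g' b c)
  rw [Matrix.map_apply, this, hg.counit]

theorem act_eq : ((aU E g' hg.comul hg.counit).restrict (eps f)).act =
    (aU E (g'.map f) (comul_map hg f) (counit_map hg f)).act := by
  apply AlgGrp.Action.hom_ext_lift₂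
  intro T h x
  change dot _ h x = dot _ h x
  rw [SubBundle.dot_restrict, ← cancel_mono (iU (UU k E))]
  apply rows_injective E
  rw [rows_aU, rows_aU, mx_map, ← GrpObj.inv_comp]

theorem exists_quotient (hf : Function.Surjective f) [Algebra.FiniteType k A'] :
    ∃ (Q : Over (Spec (CommRingCat.of k))) (ρ : XU (UU k E) ⟶ Q)
      (hρ : GIT.IsInvariant (aU E (g'.map f) (comul_map hg f) (counit_map hg f)) ρ),
      LocallyOfFiniteType Q.hom ∧ QuasiCompact Q.hom ∧ IsSeparated Q.hom ∧
      Flat ρ.left ∧ Surjective ρ.left ∧ QuasiCompact ρ.left ∧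
      IsIso (GIT.PsiY (aU E (g'.map f) (comul_map hg f) (counit_map hg f)) ρ hρ) := by
  have hN : IsNoetherianRing (CommRingCat.of k) := inferInstanceAs (IsNoetherianRing k)
  have hA' : LocallyOfFiniteType (sp k A').hom :=
    (HasRingHomProperty.Spec_iff (P := @LocallyOfFiniteType)
      (φ := CommRingCat.ofHom (algebraMap k A'))).mpr (RingHom.finiteType_algebraMap.mpr ‹_›)
  have hV : LocallyOfFiniteType (sp k (MvPolynomial (Fin n) k)).hom :=
    (HasRingHomProperty.Spec_iff (P := @LocallyOfFiniteType)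
      (φ := CommRingCat.ofHom (algebraMap k (MvPolynomial (Fin n) k)))).mpr
      (RingHom.finiteType_algebraMap.mpr inferInstance)
  have hVN : IsNoetherian (sp k (MvPolynomial (Fin n) k)).left := by
    have : IsNoetherianRing (CommRingCat.of (MvPolynomial (Fin n) k)) :=
      inferInstanceAs (IsNoetherianRing (MvPolynomial (Fin n) k))
    exact inferInstanceAs (IsNoetherian (Spec (CommRingCat.of (MvPolynomial (Fin n) k))))
  have heps : IsClosedImmersion (eps f).left :=
    IsClosedImmersion.spec_of_surjective _ hf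
  -- quotient by `GL`
  obtain ⟨Q', ρ', hρ', a1, a2, a3, a4⟩ := hasBundle_gl E hg
  have H' := isPullback_of_isIso _ hρ' a4
  have hsep' := isSeparated_of_psi _ H' (isClosedImmersion_psi_gl E hg)
  obtain ⟨Q, ρ, hρ, b1, b2, b3, b4⟩ := SubBundle.hasBundle_restrict (eps f) _ H'
  have H := isPullback_of_isIso _ hρ b4
  obtain ⟨φ, hφ⟩ := DescOver.exists_desc _ H ρ' (SubBundle.isInvariant_restrict (eps f) _ hρ')
  have hsep := SubBundle.isSeparated_desc (eps f) _ H' H hφ
  have hQsep : IsSeparated Q.hom := by rw [← Over.w φ]; infer_instance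
  have hA : LocallyOfFiniteType (sp k A).hom := by rw [← Over.w (eps f)]; infer_instance
  have hρp : LocallyOfFinitePresentation ρ.left :=
    SubBundle.prop_of_bundle @LocallyOfFinitePresentation _ H inferInstance
  have hXl : LocallyOfFiniteType (XU (UU k E)).hom := by
    change LocallyOfFiniteType ((UU k E).ι ≫ (sp k (MvPolynomial (Fin n) k)).hom); infer_instance
  have hEp : LocallyOfFinitePresentation (ρ.left ≫ Q.hom) := by rw [Over.w]; infer_instance
  have hQp : LocallyOfFinitePresentation Q.hom := Groth.Agent.S0114.result ρ.left Q.hom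
  have hEc : CompactSpace (XU (UU k E)).left :=
    isCompact_iff_compactSpace.mp (TopologicalSpace.NoetherianSpace.isCompact
      (α := (sp k (MvPolynomial (Fin n) k)).left) (UU k E : Set (sp k (MvPolynomial (Fin n) k)).left))
  have hQc : CompactSpace Q.left :=
    ⟨by rw [← ρ.left.surjective.range_eq]; exact isCompact_range ρ.left.continuous⟩
  have Hf : IsPullback (aU E (g'.map f) (comul_map hg f) (counit_map hg f)).act (snd _ _) ρ ρ := by
    rw [← act_eq E hg f]; exact H
  exact ⟨Q, ρ, Hf.w, inferInstance, (quasiCompact_iff_compactSpace (f := Q.hom)).mpr hQc, hQsep, b2, b3,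
    b1, isIso_of_isPullback _ Hf.w Hf⟩

end K957.Block
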