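import Groth.Agent.EqInt.K957.BlockAct

/-!
# `GL_m` and its generic matrix
-/

set_option autoImplicit false
universe u
open CategoryTheory CategoryTheory.Limits MonoidalCategory CartesianMonoidalCategory MonObj GrpObj AlgebraicGeometry
open scoped TensorProduct

namespace K957.Block

open K957.Pts K957.AffAct Groth.Agent.Sga3B.AffPts CoactBr

variable {k : Type u} [CommRing k] {m : ℕ}

/-- the generic matrix of `GL_m` -/
noncomputable def gG (k : Type u) [CommRing k] (m : ℕ) : Matrix (Fin m) (Fin m) (CoordGrp.GLn m k) :=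
  fun i j => CoordGrp.GLn.X i j

theorem isGL_gG : IsGL (k := k) (gG k m) where
  comul b c := CoordGrp.GLn.comul_X b c
  counit b c := CoordGrp.GLn.counit_X b c
  ex T M hM := by
    refine ⟨affPt T (CoordGrp.GLn.pt m k M (↑hM.unit⁻¹) (by rw [IsUnit.mul_val_inv])), ?_⟩
    ext i j
    rw [mx, Matrix.map_apply, pa_affPt]
    exact CoordGrp.GLn.pt_X M _ _ i j
  inj T x y h := by
    apply pa_injective
    have h2 : ∀ i j, pa x (CoordGrp.GLn.X i j) = pa y (CoordGrp.GLn.X i j) := fun i j =>
      congrFun (congrFun h i) j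
    refine CoordGrp.GLn.algHom_ext h2 ?_
    have e1 : ∀ f : CoordGrp.GLn m k →ₐ[k] Fn T, f CoordGrp.GLn.det = ((CoordGrp.GLn.genMat m k).map f).det := by
      intro f
      rw [CoordGrp.GLn.det_eq, AlgHom.map_det]
      rfl
    have e2 : ∀ f : CoordGrp.GLn m k →ₐ[k] Fn T, f CoordGrp.GLn.det * f CoordGrp.GLn.Dinv = 1 := by
      intro f
      rw [← map_mul, CoordGrp.GLn.det_mul_Dinv, map_one]
    have e3 : pa x CoordGrp.GLn.det = pa y CoordGrp.GLn.det := by
      rw [e1, e1]
      exact congrArg Matrix.det (Matrix.ext h2)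
    have h4 := e2 (pa x)
    have h5 := e2 (pa y)
    rw [← e3] at h5
    exact (IsUnit.of_mul_eq_one _ h4).mul_left_cancel (h4.trans h5.symm)

end K957.Block
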