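import Mathlib.RingTheory.Ideal.Height
import Mathlib.RingTheory.Polynomial.Quotient
import Mathlib.LinearAlgebra.Matrix.MvPolynomial
import Mathlib.Algebra.MvPolynomial.Equiv

/-!
# Heights of primes containing determinants of independent generic matrices
-/

set_option autoImplicit false
universe u

namespace K957.DetHt

open MvPolynomial

section

variable {R : Type*} [CommRing R] {τ : Type*}

theorem isPrime_map_C (q : Ideal R) [q.IsPrime] :
    (q.map (C : R →+* MvPolynomial τ R)).IsPrime := by
  rw [← Ideal.Quotient.isDomain_iff_prime]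
  exact (quotientEquivQuotientMvPolynomial (σ := τ) q).symm.toRingEquiv.toMulEquiv.isDomain _

theorem comap_map_C (q : Ideal R) :
    (q.map (C : R →+* MvPolynomial τ R)).comap C = q := by
  classical
  ext x
  rw [Ideal.mem_comap, mem_map_C_iff]
  constructor
  · intro h
    simpa using h 0
  · intro h m
    rw [coeff_C]
    split_ifs
    · exact h
    · exact q.zero_mem

theorem height_le_height_map_C (q : Ideal R) [hq : q.IsPrime] :
    q.height ≤ (q.map (C : R →+* MvPolynomial τ R)).height := by
  let F : PrimeSpectrum R → PrimeSpectrum (MvPolynomial τ R) := fun q =>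
    ⟨q.asIdeal.map C, isPrime_map_C q.asIdeal⟩
  have hF : StrictMono F := by
    refine Monotone.strictMono_of_injective (fun a b hab => Ideal.map_mono hab) ?_
    intro a b hab
    have h1 : a.asIdeal.map (C : R →+* MvPolynomial τ R) = b.asIdeal.map C :=
      congrArg PrimeSpectrum.asIdeal hab
    ext1
    rw [← comap_map_C (τ := τ) a.asIdeal, h1, comap_map_C]
  have h := Order.height_le_height_apply_of_strictMono F hF ⟨q, hq⟩
  rwa [← PrimeSpectrum.height_eq_orderHeight, ← PrimeSpectrum.height_eq_orderHeight] at h

theorem height_add_one_le (p : Ideal (MvPolynomial τ R)) [p.IsPrime] (f : MvPolynomial τ R) (hf : f ∈ p)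
    (hf' : f ∉ (p.comap (C : R →+* MvPolynomial τ R)).map C) :
    (p.comap (C : R →+* MvPolynomial τ R)).height + 1 ≤ p.height := by
  have h1 := height_le_height_map_C (τ := τ) (p.comap (C : R →+* MvPolynomial τ R))
  have h2 := isPrime_map_C (τ := τ) (p.comap (C : R →+* MvPolynomial τ R))
  have h3 : (p.comap (C : R →+* MvPolynomial τ R)).map C < p :=
    lt_of_le_of_ne Ideal.map_comap_le (fun h => hf' (by rw [h]; exact hf))
  exact (add_le_add_left h1 1).trans (Ideal.height_add_one_le_of_lt_of_isPrime h3)

theorem det_notMem {m : Type*} [Fintype m] [DecidableEq m] (q : Ideal R) [hq : q.IsPrime] :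
    (Matrix.of fun a b => (X (a, b) : MvPolynomial (m × m) R)).det ∉ q.map C := by
  intro h
  have h1 : ∀ f ∈ q.map (C : R →+* MvPolynomial (m × m) R),
      aeval (R := R) (fun p : m × m => if p.1 = p.2 then (1 : R) else 0) f ∈ q := by
    intro f hf
    have : q.map (C : R →+* MvPolynomial (m × m) R) ≤
        q.comap (aeval (R := R) (fun p : m × m => if p.1 = p.2 then (1 : R) else 0)) := by
      rw [Ideal.map_le_iff_le_comap]
      intro x hx
      rw [Ideal.mem_comap, Ideal.mem_comap, aeval_C]
      exact hx
    exact this hf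
  have h2 := h1 _ h
  rw [AlgHom.map_det] at h2
  have h3 : (aeval (R := R) (fun p : m × m => if p.1 = p.2 then (1 : R) else 0)).mapMatrix
      (Matrix.of fun a b => (X (a, b) : MvPolynomial (m × m) R)) = 1 := by
    ext a b
    simp [Matrix.one_apply]
  rw [h3, Matrix.det_one] at h2
  exact hq.ne_top ((Ideal.eq_top_iff_one q).mpr h2)

end

section ind

variable {m : Type} [Fintype m] [DecidableEq m] (k : Type u) [Field k]

/-- the determinant of the `i`-th generic matrix -/
noncomputable def dd (r : ℕ) (i : Fin r) : MvPolynomial (Fin r × (m × m)) k :=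
  (Matrix.of fun a b => (X (i, (a, b)) : MvPolynomial (Fin r × (m × m)) k)).det

/-- splitting off the first matrix -/
noncomputable def sp (r : ℕ) : MvPolynomial (Fin (r + 1) × (m × m)) k ≃ₐ[k]
    MvPolynomial (m × m) (MvPolynomial (Fin r × (m × m)) k) :=
  (renameEquiv k (((finSuccEquiv r).prodCongr (Equiv.refl (m × m))).trans optionProdEquiv)).trans
    (sumAlgEquiv k (m × m) (Fin r × (m × m)))

omit [Fintype m] [DecidableEq m] in
theorem sp_zero (r : ℕ) (t : m × m) : sp k r (X (0, t)) = X t := by
  simp [sp]

omit [Fintype m] [DecidableEq m] in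
theorem sp_succ (r : ℕ) (i : Fin r) (t : m × m) : sp k r (X (i.succ, t)) = C (X (i, t)) := by
  simp [sp]

theorem sp_dd_zero (r : ℕ) : sp k r (dd k (m := m) (r + 1) 0) =
    (Matrix.of fun a b => (X (a, b) : MvPolynomial (m × m) (MvPolynomial (Fin r × (m × m)) k))).det := by
  rw [dd, AlgEquiv.map_det]
  congr 1
  ext1 a b
  simp [sp_zero]

theorem sp_dd_succ (r : ℕ) (i : Fin r) : sp k r (dd k (m := m) (r + 1) i.succ) = C (dd k r i) := by
  rw [dd, AlgEquiv.map_det, dd, RingHom.map_det]
  congr 1
  ext1 a b
  simp [sp_succ]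

theorem le_height : ∀ (r : ℕ) (p : Ideal (MvPolynomial (Fin r × (m × m)) k)) [p.IsPrime],
    (∀ i, dd k r i ∈ p) → (r : ℕ∞) ≤ p.height := by
  intro r
  induction r with
  | zero => intro p _ _; simp
  | succ r ih =>
    intro p hp h
    let e := (sp k (m := m) r).symm.toRingEquiv
    let p' := p.comap e
    have hp' : p'.IsPrime := Ideal.comap_isPrime e p
    have h1 : p'.height = p.height := RingEquiv.height_comap e p
    have h2 := ih (p'.comap C) (fun i => by
      rw [Ideal.mem_comap, ← sp_dd_succ]
      change e (sp k r _) ∈ p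
      have : e (sp k r (dd k (m := m) (r + 1) i.succ)) = dd k (r + 1) i.succ :=
        (sp k (m := m) r).symm_apply_apply _
      rw [this]
      exact h _)
    have h3 := height_add_one_le p' _ (show (Matrix.of fun a b => (X (a, b) :
        MvPolynomial (m × m) (MvPolynomial (Fin r × (m × m)) k))).det ∈ p' by
      rw [← sp_dd_zero]
      change e (sp k r _) ∈ p
      have : e (sp k r (dd k (m := m) (r + 1) 0)) = dd k (r + 1) 0 :=
        (sp k (m := m) r).symm_apply_apply _
      rw [this]
      exact h _) (det_notMem _)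
    rw [← h1]
    refine le_trans ?_ h3
    rw [Nat.cast_add, Nat.cast_one]
    exact add_le_add_left h2 1

end ind

end K957.DetHt
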