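import Groth.Agent.EqInt.K957.BlockFinal
import Groth.Agent.EqInt.K957.BlockGL
import Groth.Agent.EqInt.K957.DetHt

/-!
# The complement of the full rank locus has large codimension
-/

set_option autoImplicit false
universe u
open CategoryTheory CategoryTheory.Limits MonoidalCategory CartesianMonoidalCategory MonObj GrpObj AlgebraicGeometry
open scoped TensorProduct

namespace K957.Block

open CoactBr

variable {k : Type u} [Field k] {m n r : ℕ} (E : (Fin r × Fin m) × Fin m ≃ Fin n)

theorem le_height (x : (Spec (CommRingCat.of (MvPolynomial (Fin n) k)))) (hx : x ∉ UU k E) :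
    (r : ℕ∞) ≤ x.asIdeal.height := by
  let e := (MvPolynomial.renameEquiv k ((Equiv.prodAssoc (Fin r) (Fin m) (Fin m)).symm.trans E)).toRingEquiv
  have h1 := RingEquiv.height_comap e x.asIdeal
  rw [← h1]
  have hp : (x.asIdeal.comap e).IsPrime := Ideal.comap_isPrime e x.asIdeal
  apply DetHt.le_height k r
  intro i
  rw [Ideal.mem_comap]
  have h2 : e (DetHt.dd k r i) = dt E i := by
    change (MvPolynomial.renameEquiv k ((Equiv.prodAssoc (Fin r) (Fin m) (Fin m)).symm.trans E)) _ = _
    rw [DetHt.dd, AlgEquiv.map_det, dt]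
    congr 1
    ext1 a b
    simp
  rw [h2]
  by_contra h
  exact hx (TopologicalSpace.Opens.mem_iSup.mpr ⟨i, h⟩)

instance : Algebra.FiniteType k (CoordGrp.GLn m k) := by
  have h1 : Algebra.FiniteType k (CoordGrp.GLb m k) :=
    inferInstanceAs (Algebra.FiniteType k (MvPolynomial (CoordGrp.GLPoly.Idx m) k))
  exact Algebra.FiniteType.of_surjective (Ideal.Quotient.mkₐ k (CoordGrp.GLb.relIdeal m k))
    (Ideal.Quotient.mkₐ_surjective k _)

end K957.Block
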