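import Groth.Agent.EqInt.K957.BlockBun

/-!
# The quotient of the full rank locus by `GL_m` exists and is separated
-/

set_option autoImplicit false
universe u
open CategoryTheory CategoryTheory.Limits MonoidalCategory CartesianMonoidalCategory MonObj GrpObj AlgebraicGeometry
open scoped TensorProduct

namespace K957.Block

open K957.Pts K957.AffAct Groth.Agent.Sga3B.AffPts CoactBr K957.Restr K957.Glue

/-- checking a property of morphisms on an open cover of the target, with cartesian squares -/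
theorem prop_of_cover {P : MorphismProperty Scheme.{u}} [P.IsStableUnderBaseChange]
    [IsZariskiLocalAtTarget P] {X Y : Scheme.{u}} (f : X ⟶ Y)
    (h : ∀ y : Y, ∃ (X' W : Scheme.{u}) (j : W ⟶ Y) (f' : X' ⟶ W) (g : X' ⟶ X), IsOpenImmersion j ∧
      y ∈ Set.range j ∧ IsPullback g f' f j ∧ P f') : P f := by
  apply IsZariskiLocalAtTarget.of_forall_exists_morphismRestrict
  intro y
  obtain ⟨X', W, j, f', g, hj, hy, H, hP⟩ := h y
  refine ⟨j.opensRange, hy, ?_⟩
  have H2 : IsPullback (f ⁻¹ᵁ j.opensRange).ι (f ∣_ j.opensRange) f j.opensRange.ι :=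
    (isPullback_morphismRestrict f j.opensRange).flip
  have e : j.isoOpensRange.inv ≫ j = j.opensRange.ι := by
    rw [Iso.inv_comp_eq, Scheme.Hom.isoOpensRange_hom_ι]
  have w : (f ⁻¹ᵁ j.opensRange).ι ≫ f = ((f ∣_ j.opensRange) ≫ j.isoOpensRange.inv) ≫ j := by
    rw [Category.assoc, e, H2.w]
  have H3 : IsPullback (H.lift _ _ w) (f ∣_ j.opensRange) f' j.isoOpensRange.inv := by
    refine IsPullback.of_right ?_ (H.lift_snd _ _ w) H
    rw [H.lift_fst, e]
    exact H2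
  exact MorphismProperty.of_isPullback (P := P) H3 hP

theorem isPullback_of_points {S : Scheme.{u}} {A B C D : Over S} {f : A ⟶ B} {g : A ⟶ C} {h : B ⟶ D}
    {k : C ⟶ D} (w : f ≫ h = g ≫ k)
    (hex : ∀ (T : Over S) (b : T ⟶ B) (c : T ⟶ C), b ≫ h = c ≫ k → ∃ a : T ⟶ A, a ≫ f = b ∧ a ≫ g = c)
    (huniq : ∀ (T : Over S) (a a' : T ⟶ A), a ≫ f = a' ≫ f → a ≫ g = a' ≫ g → a = a') :
    IsPullback f g h k := by
  choose l hl1 hl2 using hex
  exact ⟨⟨w⟩, ⟨PullbackCone.IsLimit.mk _ (fun c => l _ c.fst c.snd c.condition) (fun c => hl1 _ _ _ _)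
    (fun c => hl2 _ _ _ _) (fun c m h1 h2 => huniq _ _ _ (h1.trans (hl1 _ _ _ _).symm)
      (h2.trans (hl2 _ _ _ _).symm))⟩⟩

section ring

variable {k : Type u} [CommRing k] {m n r : ℕ} (E : (Fin r × Fin m) × Fin m ≃ Fin n)
  {T T' : Over (Spec (CommRingCat.of k))}

/-- `(y, x) ↦ x (x_i⁻¹ y_i)` -/
noncomputable def ww (i : Fin r) : XU (UU k E) ⊗ XU (D k E i) ⟶ sp k (MvPolynomial (Fin n) k) :=
  ofRows E (rows E (snd (XU (UU k E)) (XU (D k E i)) ≫ iU (D k E i)) *
    ((blk E i (snd (XU (UU k E)) (XU (D k E i)) ≫ iU (D k E i)))⁻¹ *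
      blk E i (fst (XU (UU k E)) (XU (D k E i)) ≫ iU (UU k E))))

theorem rows_ww (i : Fin r) (z : T ⟶ XU (UU k E) ⊗ XU (D k E i)) :
    rows E (z ≫ ww E i) = rows E ((z ≫ snd _ _) ≫ iU (D k E i)) *
      ((blk E i ((z ≫ snd _ _) ≫ iU (D k E i)))⁻¹ * blk E i ((z ≫ fst _ _) ≫ iU (UU k E))) := by
  have h0 := isUnit_blk E i (snd (XU (UU k E)) (XU (D k E i)))
  have e1 := rows_comp E z (snd (XU (UU k E)) (XU (D k E i)) ≫ iU (D k E i))
  have e2 := blk_comp E i z (snd (XU (UU k E)) (XU (D k E i)) ≫ iU (D k E i))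
  have e3 := blk_comp E i z (fst (XU (UU k E)) (XU (D k E i)) ≫ iU (UU k E))
  have e4 : ((blk E i (snd (XU (UU k E)) (XU (D k E i)) ≫ iU (D k E i))).map (fnMap z))⁻¹ =
    ((blk E i (snd (XU (UU k E)) (XU (D k E i)) ≫ iU (D k E i)))⁻¹).map (fnMap z) :=
    (map_inv_matrix (fnMap z).toRingHom h0).symm
  rw [rows_comp, ww, rows_ofRows, Category.assoc, Category.assoc, e1, e2, e3, e4, Matrix.map_mul,
    Matrix.map_mul]

variable {A : Type u} [CommRing A] [HopfAlgebra k A] (g : Matrix (Fin m) (Fin m) A)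
  (hg1 : ∀ b c, CoalgebraStruct.comul (R := k) (g b c) = ∑ l, g b l ⊗ₜ[k] g l c)
  (hg2 : ∀ b c, CoalgebraStruct.counit (R := k) (g b c) = if b = c then (1 : k) else 0)

/-- the action of `GL_m` on the full rank locus -/
noncomputable abbrev aU : AlgGrp.Action (sp k A) (XU (UU k E)) :=
  Restr.restrict (actn E g hg1 hg2) (UU k E) (UU_inv E g hg1 hg2)

theorem rows_aU (h : T ⟶ sp k A) (x : T ⟶ XU (UU k E)) :
    rows E (dot (aU E g hg1 hg2) h x ≫ iU (UU k E)) = rows E (x ≫ iU (UU k E)) * mx g h⁻¹ := by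
  rw [dot_comp _ (restrict_isEquivariant _ _ _), rows_dot]

theorem blk_mul (i : Fin r) {x y : T ⟶ sp k (MvPolynomial (Fin n) k)} {M : Matrix (Fin m) (Fin m) (Fn T)}
    (h : rows E y = rows E x * M) : blk E i y = blk E i x * M := by
  rw [blk, h]
  ext a b
  simp [blk, Matrix.mul_apply]

/-- a matrix relating a full rank tuple to another one is invertible -/
theorem isUnit_of_rows {x : T ⟶ sp k (MvPolynomial (Fin n) k)} {y : T ⟶ XU (UU k E)}
    {M : Matrix (Fin m) (Fin m) (Fn T)} (h : rows E (y ≫ iU (UU k E)) = rows E x * M) : IsUnit M.det := by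
  apply isUnit_of_forall (X := T.left)
  intro t
  have h1 := mem_iU _ y t
  obtain ⟨j, hj⟩ := TopologicalSpace.Opens.mem_iSup.mp h1
  have h2 := (mem_D_iff E j _ t).mp hj
  rw [blk_mul E j h, Matrix.det_mul] at h2
  have h3 : T.left.basicOpen (show Γ(T.left, ⊤) from (blk E j x).det * M.det) =
      T.left.basicOpen (show Γ(T.left, ⊤) from (blk E j x).det) ⊓
        T.left.basicOpen (show Γ(T.left, ⊤) from M.det) := Scheme.basicOpen_mul T.left _ _
  have h4 : t ∈ T.left.basicOpen (show Γ(T.left, ⊤) from (blk E j x).det) ⊓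
        T.left.basicOpen (show Γ(T.left, ⊤) from M.det) := h3 ▸ h2
  exact h4.2

theorem blk_aU (i : Fin r) (h : T ⟶ sp k A) (x : T ⟶ XU (D k E i)) :
    blk E i (dot (aU E g hg1 hg2) h (x ≫ inc E i) ≫ iU (UU k E)) =
      blk E i (x ≫ iU (D k E i)) * mx g h⁻¹ := by
  apply blk_mul
  rw [rows_aU, Category.assoc, inc_iU]

/-- `(g, x) ↦ (g x, x)` over the locus where the `i`-th block of `x` is invertible -/
noncomputable def psiI (i : Fin r) : sp k A ⊗ XU (D k E i) ⟶ XU (UU k E) ⊗ XU (D k E i) :=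
  lift (dot (aU E g hg1 hg2) (fst _ _) (snd _ _ ≫ inc E i)) (snd _ _)

theorem psiI_fst (i : Fin r) : psiI E g hg1 hg2 i ≫ fst _ _ =
    dot (aU E g hg1 hg2) (fst _ _) (snd _ _ ≫ inc E i) := lift_fst _ _

theorem psiI_snd (i : Fin r) : psiI E g hg1 hg2 i ≫ snd _ _ = snd _ _ := lift_snd _ _

theorem comp_psiI (i : Fin r) (z : T ⟶ sp k A ⊗ XU (D k E i)) : z ≫ psiI E g hg1 hg2 i =
    lift (dot (aU E g hg1 hg2) (z ≫ fst _ _) ((z ≫ snd _ _) ≫ inc E i)) (z ≫ snd _ _) := by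
  rw [psiI, comp_lift, comp_dot, Category.assoc]

theorem ww_lift (i : Fin r) (h : T ⟶ sp k A) (x : T ⟶ XU (D k E i)) :
    lift (dot (aU E g hg1 hg2) h (x ≫ inc E i)) x ≫ ww E i =
      dot (aU E g hg1 hg2) h (x ≫ inc E i) ≫ iU (UU k E) := by
  apply rows_injective E
  have hu := isUnit_blk E i x
  have e1 := blk_aU E g hg1 hg2 i h x
  have e2 : rows E (dot (aU E g hg1 hg2) h (x ≫ inc E i) ≫ iU (UU k E)) =
      rows E (x ≫ iU (D k E i)) * mx g h⁻¹ := by
    rw [rows_aU, Category.assoc, inc_iU]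
  have e3 := rows_ww E i (lift (dot (aU E g hg1 hg2) h (x ≫ inc E i)) x)
  rw [lift_fst, lift_snd, e1, ← Matrix.mul_assoc (_)⁻¹, Matrix.nonsing_inv_mul _ hu, Matrix.one_mul] at e3
  exact e3.trans e2.symm

theorem psiI_ww (i : Fin r) : psiI E g hg1 hg2 i ≫ ww E i = psiI E g hg1 hg2 i ≫ fst _ _ ≫ iU (UU k E) := by
  have key : ∀ (T : Over (Spec (CommRingCat.of k))) (h : T ⟶ sp k A) (x : T ⟶ XU (D k E i)),
      lift h x ≫ (psiI E g hg1 hg2 i ≫ ww E i) = lift h x ≫ (psiI E g hg1 hg2 i ≫ fst _ _ ≫ iU (UU k E)) := by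
    intro T h x
    have e1 : lift h x ≫ psiI E g hg1 hg2 i = lift (dot (aU E g hg1 hg2) h (x ≫ inc E i)) x := by
      rw [comp_psiI, lift_fst, lift_snd]
    have e2 := ww_lift E g hg1 hg2 i h x
    have e3 : lift h x ≫ (psiI E g hg1 hg2 i ≫ ww E i) =
      (lift h x ≫ psiI E g hg1 hg2 i) ≫ ww E i := (Category.assoc _ _ _).symm
    have e4 : lift h x ≫ (psiI E g hg1 hg2 i ≫ fst _ _ ≫ iU (UU k E)) =
      (lift h x ≫ psiI E g hg1 hg2 i) ≫ fst _ _ ≫ iU (UU k E) := (Category.assoc _ _ _).symm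
    rw [e3, e4, e1, e2]
    exact (lift_fst_assoc _ _ _).symm
  exact AlgGrp.Action.hom_ext_lift₂ key

section gl

variable {g} (hg : IsGL (k := k) g)

include hg in
theorem free_aU (i : Fin r) (x : T ⟶ XU (D k E i)) {a b : T ⟶ sp k A}
    (h : dot (aU E g hg.comul hg.counit) a (x ≫ inc E i) = dot (aU E g hg.comul hg.counit) b (x ≫ inc E i)) :
    a = b := by
  have h1 := blk_aU E g hg.comul hg.counit i a x
  rw [h, blk_aU] at h1
  have hu : IsUnit (blk E i (x ≫ iU (D k E i))) :=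
    (Matrix.isUnit_iff_isUnit_det _).mpr (isUnit_blk E i x)
  exact (inv_injective (hg.inj _ _ _ (hu.mul_left_cancel h1))).symm

include hg in
theorem exists_psiI (i : Fin r) (y : T ⟶ XU (UU k E)) (x : T ⟶ XU (D k E i))
    (h : rows E (y ≫ iU (UU k E)) = rows E (x ≫ iU (D k E i)) *
      ((blk E i (x ≫ iU (D k E i)))⁻¹ * blk E i (y ≫ iU (UU k E)))) :
    ∃ γ' : T ⟶ sp k A, dot (aU E g hg.comul hg.counit) γ' (x ≫ inc E i) = y := by
  have hu := isUnit_of_rows E h
  obtain ⟨γ', hγ'⟩ := hg.ex _ _ (isUnit_det_inv hu)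
  refine ⟨γ', ?_⟩
  rw [← cancel_mono (iU (UU k E))]
  apply rows_injective E
  have e1 := hg.mx_inv (x := γ') (N := (blk E i (x ≫ iU (D k E i)))⁻¹ * blk E i (y ≫ iU (UU k E)))
    (by rw [hγ', Matrix.mul_nonsing_inv _ hu])
  have e2 := rows_aU E g hg.comul hg.counit γ' (x ≫ inc E i)
  rw [e1, Category.assoc, inc_iU] at e2
  exact e2.trans h.symm

theorem isPullback_psiI (i : Fin r) :
    IsPullback (psiI E g hg.comul hg.counit i) (psiI E g hg.comul hg.counit i ≫ fst _ _ ≫ iU (UU k E))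
      (lift (fst _ _ ≫ iU (UU k E)) (ww E i)) (lift (𝟙 _) (𝟙 (sp k (MvPolynomial (Fin n) k)))) := by
  refine isPullback_of_points ?_ ?_ ?_
  · apply CartesianMonoidalCategory.hom_ext
    · simp
    · have := psiI_ww E g hg.comul hg.counit i
      simpa using this
  · intro T b c hbc
    have h1 : (b ≫ fst _ _) ≫ iU (UU k E) = c := by
      have := hbc =≫ fst _ _
      simpa using this
    have h2 : b ≫ ww E i = c := by
      have := hbc =≫ snd _ _
      simpa using this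
    have h3 := rows_ww E i b
    rw [h2, ← h1] at h3
    obtain ⟨γ', hγ'⟩ := exists_psiI E hg i _ _ h3
    have e1 : lift γ' (b ≫ snd _ _) ≫ psiI E g hg.comul hg.counit i = b := by
      have e2 := comp_psiI E g hg.comul hg.counit i (lift γ' (b ≫ snd _ _))
      rw [lift_fst, lift_snd, hγ', lift_comp_fst_snd] at e2
      exact e2
    refine ⟨_, e1, ?_⟩
    rw [← h1, ← Category.assoc, e1, Category.assoc]
  · intro T a a' h1 h2
    have e1 := comp_psiI E g hg.comul hg.counit i a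
    have e2 := comp_psiI E g hg.comul hg.counit i a'
    have e3 := e1.symm.trans (h1.trans e2)
    have e4 := e3 =≫ fst _ _
    have e5 := e3 =≫ snd _ _
    rw [lift_fst, lift_fst] at e4
    rw [lift_snd, lift_snd] at e5
    apply CartesianMonoidalCategory.hom_ext
    · apply free_aU E hg i (a ≫ snd _ _)
      rw [e4, e5]
    · exact e5

end gl

end ring

end K957.Block
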