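import Groth.Agent.EqInt.K957.BlockPsi

/-!
# The quotient of the full rank locus by subgroups of `GL_m`
-/

set_option autoImplicit false
universe u
open CategoryTheory CategoryTheory.Limits MonoidalCategory CartesianMonoidalCategory MonObj GrpObj AlgebraicGeometry
open scoped TensorProduct

namespace K957.Block

open K957.Pts K957.AffAct Groth.Agent.Sga3B.AffPts CoactBr K957.Restr K957.Glue

section ring

variable {k : Type u} [CommRing k] {m n r : ℕ} (E : (Fin r × Fin m) × Fin m ≃ Fin n)
  {T T' : Over (Spec (CommRingCat.of k))}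
  {A : Type u} [CommRing A] [HopfAlgebra k A] {g : Matrix (Fin m) (Fin m) A} (hg : IsGL (k := k) g)

instance (i : Fin r) : Mono (inc (k := k) E i) := by
  have : Mono (inc (k := k) E i ≫ iU (UU k E)) := by rw [inc_iU]; infer_instance
  exact mono_of_mono _ (iU (UU k E))

instance (i : Fin r) : IsOpenImmersion (inc (k := k) E i).left :=
  inferInstanceAs (IsOpenImmersion (Scheme.homOfLE _ (D_le E i)))

theorem exists_inc (z : (XU (UU k E)).left) : ∃ (i : Fin r) (w : (XU (D k E i)).left),
    (inc (k := k) E i).left w = z := by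
  obtain ⟨i, hi⟩ := TopologicalSpace.Opens.mem_iSup.mp z.2
  refine ⟨i, ⟨z.1, hi⟩, ?_⟩
  apply (UU k E).ι.injective
  rw [← Scheme.Hom.comp_apply]
  change ((inc (k := k) E i).left ≫ (iU (UU k E)).left) ⟨z.1, hi⟩ = _
  rw [← Over.comp_left, inc_iU]
  rfl

theorem psi_eq (a : AlgGrp.Action (sp k A) (XU (UU k E))) (z : T ⟶ sp k A ⊗ XU (UU k E)) :
    z ≫ GIT.psi a (𝟙 _) = lift (dot a (z ≫ fst _ _) (z ≫ snd _ _)) (z ≫ snd _ _) := by
  rw [Bundle.psi_eq, comp_lift, dot, lift_comp_fst_snd]

theorem isPullback_psi (i : Fin r) :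
    IsPullback (sp k A ◁ inc E i) (psiI E g hg.comul hg.counit i)
      (GIT.psi (aU E g hg.comul hg.counit) (𝟙 _)) (XU (UU k E) ◁ inc E i) := by
  have hw : ∀ (T : Over (Spec (CommRingCat.of k))) (z : T ⟶ sp k A ⊗ XU (D k E i)),
      z ≫ sp k A ◁ inc E i = lift (z ≫ fst _ _) ((z ≫ snd _ _) ≫ inc E i) := by
    intro T z
    apply CartesianMonoidalCategory.hom_ext <;> simp
  have hw' : ∀ (T : Over (Spec (CommRingCat.of k))) (z : T ⟶ XU (UU k E) ⊗ XU (D k E i)),
      z ≫ XU (UU k E) ◁ inc E i = lift (z ≫ fst _ _) ((z ≫ snd _ _) ≫ inc E i) := by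
    intro T z
    apply CartesianMonoidalCategory.hom_ext <;> simp
  refine isPullback_of_points ?_ ?_ ?_
  · apply AlgGrp.Action.hom_ext_lift₂
    intro T h x
    have e1 : lift h x ≫ sp k A ◁ inc E i = lift h (x ≫ inc E i) := by
      rw [hw, lift_fst, lift_snd]
    have e2 : lift h x ≫ psiI E g hg.comul hg.counit i =
        lift (dot (aU E g hg.comul hg.counit) h (x ≫ inc E i)) x := by
      rw [comp_psiI, lift_fst, lift_snd]
    have e3 : lift h (x ≫ inc E i) ≫ GIT.psi (aU E g hg.comul hg.counit) (𝟙 _) =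
        lift (dot (aU E g hg.comul hg.counit) h (x ≫ inc E i)) (x ≫ inc E i) := by
      rw [psi_eq, lift_fst, lift_snd]
    have e4 : lift (dot (aU E g hg.comul hg.counit) h (x ≫ inc E i)) x ≫ XU (UU k E) ◁ inc E i =
        lift (dot (aU E g hg.comul hg.counit) h (x ≫ inc E i)) (x ≫ inc E i) := by
      rw [hw', lift_fst, lift_snd]
    exact (Category.assoc _ _ _).symm.trans ((congrArg (· ≫ _) e1).trans (e3.trans (e4.symm.trans
      ((congrArg (· ≫ _) e2.symm).trans (Category.assoc _ _ _)))))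
  · intro T b c hbc
    have e1 := psi_eq E (aU E g hg.comul hg.counit) b
    have e2 := hw' T c
    have e3 := e1.symm.trans (hbc.trans e2)
    have e4 := e3 =≫ fst _ _
    have e5 := e3 =≫ snd _ _
    rw [lift_fst, lift_fst] at e4
    rw [lift_snd, lift_snd] at e5
    refine ⟨lift (b ≫ fst _ _) (c ≫ snd _ _), ?_, ?_⟩
    · rw [hw, lift_fst, lift_snd, ← e5, lift_comp_fst_snd]
    · rw [comp_psiI, lift_fst, lift_snd, ← e5, e4, lift_comp_fst_snd]
  · intro T a a' h1 h2
    rw [hw, hw] at h1
    have e4 := h1 =≫ fst _ _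
    have e5 := h1 =≫ snd _ _
    rw [lift_fst, lift_fst] at e4
    rw [lift_snd, lift_snd, cancel_mono] at e5
    apply CartesianMonoidalCategory.hom_ext
    · exact e4
    · exact e5

theorem isClosedImmersion_psi_gl :
    IsClosedImmersion (GIT.psi (aU E g hg.comul hg.counit) (𝟙 _)).left := by
  apply prop_of_cover (P := @IsClosedImmersion)
  intro y
  obtain ⟨i, w, hw⟩ := exists_inc E ((snd (XU (UU k E)) (XU (UU k E))).left y)
  have sq := isPullback_left (Diag.isPullback_whisker (XU (UU k E)) (inc (k := k) E i))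
  obtain ⟨z, hz, -⟩ := Scheme.exists_preimage_of_isPullback sq y w hw.symm
  refine ⟨_, _, _, _, _, MorphismProperty.of_isPullback (P := @IsOpenImmersion) sq.flip inferInstance,
    ⟨z, hz⟩, isPullback_left (isPullback_psi E hg i), ?_⟩
  have hsep : IsSeparated (sp k (MvPolynomial (Fin n) k)).hom := by
    have : IsAffineHom (sp k (MvPolynomial (Fin n) k)).hom := inferInstance
    infer_instance
  have := Bundle.isClosedImmersion_diag (sp k (MvPolynomial (Fin n) k))
  exact MorphismProperty.of_isPullback (P := @IsClosedImmersion) (isPullback_left (isPullback_psiI E hg i)).flip this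

end ring

section field

variable {k : Type u} [Field k] {m n r : ℕ} (E : (Fin r × Fin m) × Fin m ≃ Fin n)
  {A : Type u} [CommRing A] [HopfAlgebra k A] {g : Matrix (Fin m) (Fin m) A} (hg : IsGL (k := k) g)

theorem hasBundle_gl : HasBundle (aU E g hg.comul hg.counit) := by
  refine HasBundle.glue' _ fun z => ?_
  obtain ⟨i, w, hw⟩ := exists_inc E z
  obtain ⟨dl, -, hdl⟩ := hg.exists_dl E i
  have := Emb.flat_hom (sp k A)
  refine ⟨XU (D k E i), _, inc E i, inferInstance, inc_equivariant E i g hg.comul hg.counit, ⟨w, hw⟩, ?_⟩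
  exact ToGroup.hasBundle _ hdl

end field

end K957.Block
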