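import Groth.Agent.EqInt.K957.Block
import Groth.Agent.EqInt.K957.Restr
import Groth.Agent.Sga3B.GLn
import Groth.Agent.EqInt.K957.Glue2

/-!
# The open locus of full rank tuples of matrices
-/

set_option autoImplicit false
universe u
open CategoryTheory CategoryTheory.Limits MonoidalCategory CartesianMonoidalCategory MonObj GrpObj AlgebraicGeometry
open scoped TensorProduct

namespace K957.Block

open K957.Pts K957.AffAct Groth.Agent.Sga3B.AffPts CoactBr K957.Restr K957.Glue

section gen

variable {k : Type u} [CommRing k]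

theorem preimage_basicOpen {R : Type u} [CommRing R] [Algebra k R] {T : Over (Spec (CommRingCat.of k))}
    (y : T ⟶ sp k R) (f : R) :
    y.left ⁻¹ᵁ (PrimeSpectrum.basicOpen f : (Spec (CommRingCat.of R)).Opens) =
      T.left.basicOpen (show Γ(T.left, ⊤) from pa y f) := by
  conv_lhs => rw [← affPt_pa y]
  exact Scheme.toSpecΓ_preimage_basicOpen T.left (pa y f)

theorem isUnit_of_forall {X : Scheme.{u}} (f : Γ(X, ⊤)) (h : ∀ x : X, x ∈ X.basicOpen f) : IsUnit f := by
  have : X.basicOpen f = ⊤ := by ext x; simpa using h x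
  exact Groth.Agent.Sga3B.GLn.isUnit_of_basicOpen_eq f this

end gen

variable {k : Type u} [CommRing k] {m n r : ℕ} (E : (Fin r × Fin m) × Fin m ≃ Fin n)

/-- the determinant of the `i`-th block -/
noncomputable def dt (i : Fin r) : MvPolynomial (Fin n) k :=
  (Matrix.of fun a b => MvPolynomial.X (E ((i, a), b)) : Matrix (Fin m) (Fin m) (MvPolynomial (Fin n) k)).det

variable (k) in
/-- the locus where the `i`-th block is invertible -/
noncomputable def D (i : Fin r) : (sp k (MvPolynomial (Fin n) k)).left.Opens :=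
  (PrimeSpectrum.basicOpen (dt (k := k) E i) : (Spec (CommRingCat.of (MvPolynomial (Fin n) k))).Opens)

variable (k) in
noncomputable def UU : (sp k (MvPolynomial (Fin n) k)).left.Opens := ⨆ i, D k E i

variable {T T' : Over (Spec (CommRingCat.of k))}

/-- the `i`-th block -/
noncomputable def blk (i : Fin r) (x : T ⟶ sp k (MvPolynomial (Fin n) k)) : Matrix (Fin m) (Fin m) (Fn T) :=
  (rows E x).submatrix (fun a => (i, a)) id

theorem pa_dt (i : Fin r) (x : T ⟶ sp k (MvPolynomial (Fin n) k)) : pa x (dt E i) = (blk E i x).det := by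
  rw [dt, AlgHom.map_det]
  rfl

theorem blk_comp (i : Fin r) (h : T' ⟶ T) (x : T ⟶ sp k (MvPolynomial (Fin n) k)) :
    blk E i (h ≫ x) = (blk E i x).map (fnMap h) := by
  rw [blk, rows_comp]; rfl

theorem mem_D_iff (i : Fin r) (x : T ⟶ sp k (MvPolynomial (Fin n) k)) (t : T.left) :
    x.left t ∈ D k E i ↔ t ∈ T.left.basicOpen (show Γ(T.left, ⊤) from (blk E i x).det) := by
  have h := preimage_basicOpen x (dt E i)
  rw [pa_dt] at h
  have : x.left t ∈ D k E i ↔ t ∈ x.left ⁻¹ᵁ D k E i := Iff.rfl
  rw [this]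
  exact iff_of_eq (congrArg (t ∈ ·) h)

theorem isUnit_iff (i : Fin r) (x : T ⟶ sp k (MvPolynomial (Fin n) k)) :
    IsUnit (blk E i x).det ↔ ∀ t : T.left, x.left t ∈ D k E i := by
  constructor
  · intro h t
    rw [mem_D_iff]
    exact (Scheme.basicOpen_of_isUnit T.left h).symm ▸ trivial
  · intro h
    exact isUnit_of_forall (X := T.left) _ fun t => (mem_D_iff E i x t).mp (h t)

variable (V : (sp k (MvPolynomial (Fin n) k)).left.Opens)

/-- points of opens -/
theorem exists_lift_iU {X : Over (Spec (CommRingCat.of k))} (V : X.left.Opens) (x : T ⟶ X)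
    (h : ∀ t : T.left, x.left t ∈ V) : ∃ y : T ⟶ XU V, y ≫ iU V = x := by
  have hr : Set.range x.left ⊆ Set.range V.ι := by
    rintro _ ⟨t, rfl⟩
    rw [Scheme.Opens.range_ι]
    exact h t
  refine ⟨Over.homMk (IsOpenImmersion.lift V.ι x.left hr) ?_, Over.OverMorphism.ext ?_⟩
  · change IsOpenImmersion.lift V.ι x.left hr ≫ V.ι ≫ X.hom = _
    rw [IsOpenImmersion.lift_fac_assoc, Over.w]
  · exact IsOpenImmersion.lift_fac _ _ _

theorem mem_iU {X : Over (Spec (CommRingCat.of k))} (V : X.left.Opens) (y : T ⟶ XU V) (t : T.left) :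
    (y ≫ iU V).left t ∈ V := (y.left t).2

end K957.Block
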