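import Groth.Agent.EqInt.K957.GLEmb
import Groth.Agent.EqInt.K957.Bundle
import Groth.Agent.EqInt.K957.Pts
import Groth.Agent.S16480
import Groth.Agent.S3017
import Groth.Agent.S0114
import Groth.Agent.S0082
import Groth.Agent.Sga3B.RG.BrHc

/-!
# Affine groups over a field: embedding in `GL_n` and the quotient `G \ GL_n`
-/

set_option autoImplicit false
universe u
open CategoryTheory CategoryTheory.Limits MonoidalCategory CartesianMonoidalCategory MonObj GrpObj AlgebraicGeometry

namespace K957.Emb

open K957.Pts Groth.Agent.Sga3B.GLn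

variable {k : Type u} [Field k]

theorem exists_emb (G : Over (Spec (CommRingCat.of k))) [GrpObj G] [IsAffine G.left]
    [LocallyOfFiniteType G.hom] : ∃ (n : ℕ) (i : G ⟶ GLS (ULift.{u} (Fin n)) (Spec (CommRingCat.of k))),
      IsMonHom i ∧ Mono i := by
  obtain ⟨A, _, _, e, he, hft⟩ := Groth.Agent.Sga3B.RG.BrHc.exists_hopf_ft G
  obtain ⟨n, π, hπ⟩ := Groth.Agent.S16480.result k A
  have := GLEmb.mono_hom π hπ
  exact ⟨n, e.hom ≫ GLEmb.hom π, inferInstance, inferInstance⟩

theorem flat_hom (X : Over (Spec (CommRingCat.of k))) : Flat X.hom := by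
  have : IsIntegral (Spec (CommRingCat.of k)) := inferInstance
  infer_instance

end K957.Emb
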