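import Groth.Agent.EqInt.K957.Isotriv
import Groth.Agent.EqInt.K957.Emb

/-!
# Local isotriviality of principal bundles under affine groups over an algebraically closed field
-/

set_option autoImplicit false
universe u
open CategoryTheory CategoryTheory.Limits MonoidalCategory CartesianMonoidalCategory MonObj GrpObj AlgebraicGeometry

namespace K957.BundleQS

open K957.Pts K957.Restr K957.Invt K957.QSec Groth.Agent.Sga3B.GLn

variable {k : Type u} [Field k]

theorem exists_quot {H Γ : Over (Spec (CommRingCat.of k))} [GrpObj H] [GrpObj Γ] [IsAffine H.left]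
    [LocallyOfFiniteType H.hom] [IsAffine Γ.left] [LocallyOfFiniteType Γ.hom]
    (u : H ⟶ Γ) [IsMonHom u] [Mono u] :
    ∃ (Z : Over (Spec (CommRingCat.of k))) (p : Γ ⟶ Z),
      IsPullback ((u ▷ Γ) ≫ μ[Γ]) (snd H Γ) p p ∧ Flat p.left ∧ Surjective p.left ∧
      LocallyOfFinitePresentation p.left ∧ QuasiCompact p.left ∧ IsSeparated Z.hom ∧
      LocallyOfFiniteType Z.hom ∧ QuasiCompact Z.hom := by
  have hq : IsAffineHom u.left := by
    have h1 : IsAffineHom H.hom := inferInstance
    have h2 : IsSeparated Γ.hom := inferInstance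
    have h3 : IsAffineHom (u.left ≫ Γ.hom) := by rw [Over.w]; infer_instance
    exact IsAffineHom.of_comp u.left Γ.hom
  have := Emb.flat_hom H
  have := Emb.flat_hom Γ
  obtain ⟨Z, p, h1, h2, h3, h4, h5, h6, -⟩ := Groth.Agent.S3017.result k H Γ u
  have h7 : QuasiCompact p.left := Bundle.quasiCompact_left p
  have : IsNoetherianRing (CommRingCat.of k) := inferInstanceAs (IsNoetherianRing k)
  have h8 : LocallyOfFinitePresentation (p.left ≫ Z.hom) := by
    rw [Over.w]
    have : IsLocallyNoetherian (Spec (CommRingCat.of k)) := inferInstance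
    infer_instance
  have h9 : LocallyOfFinitePresentation Z.hom := Groth.Agent.S0114.result p.left Z.hom
  have h10 : QuasiCompact Z.hom := by
    have h11 : CompactSpace Z.left :=
      ⟨by rw [← p.left.surjective.range_eq]; exact isCompact_range p.left.continuous⟩
    exact (quasiCompact_iff_compactSpace (f := Z.hom)).mpr h11
  exact ⟨Z, p, h4, h1, h2, h3, h7, h5, inferInstance, h10⟩

variable {G U B : Over (Spec (CommRingCat.of k))} [GrpObj G] (b : AlgGrp.Action G U) {π : U ⟶ B}
  (H : IsPullback b.act (snd G U) π π)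

include H in
theorem isAffineHom_of_bundle [IsAffine G.left] [Flat π.left] [Surjective π.left] [QuasiCompact π.left] :
    IsAffineHom π.left := by
  have h1 : IsAffineHom (snd G U).left :=
    MorphismProperty.pullback_snd (P := @IsAffineHom) _ _ (inferInstanceAs (IsAffineHom G.hom))
  exact MorphismProperty.of_isPullback_of_descendsAlong (Q := (@Surjective ⊓ @Flat ⊓ @QuasiCompact : MorphismProperty Scheme.{u}))
    (isPullback_left H).flip ⟨⟨‹_›, ‹_›⟩, ‹_›⟩ h1

include H in
/-- principal bundles under affine groups have finite locally free quasi-sections locally on the base -/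
theorem QS_bundle [IsAlgClosed k] [IsAffine G.left] [LocallyOfFiniteType G.hom] [Flat π.left]
    [Surjective π.left] [QuasiCompact π.left] (y : B.left) : QS π.left y := by
  obtain ⟨n, i, hi1, hi2⟩ := Emb.exists_emb G
  have : IsAffine (GLS (ULift.{u} (Fin n)) (Spec (CommRingCat.of k))).left :=
    isAffine_of_isAffineHom (GLS (ULift.{u} (Fin n)) (Spec (CommRingCat.of k))).hom
  obtain ⟨Z, p, Hp, h2, h3, h4, h5, h6, h7, h8⟩ := exists_quot i
  have := isAffineHom_of_bundle b H
  obtain ⟨W, hy, δ, f, hf, -⟩ := LocCart.exists_local_cart b H i Hp y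
  have hZ : CompactSpace Z.left := (quasiCompact_iff_compactSpace (f := Z.hom)).mp h8
  have e1 := Isotriv.QS_quotient i Hp (f.left ⟨y, hy⟩)
  have e2 := QS.of_isPullback (isPullback_left hf) e1
  have e3 : QS π.left (W.ι ⟨y, hy⟩) := QS.map (α := (iU (π.left ⁻¹ᵁ W)).left)
    (isPullback_left (isPullback_resOver π W)).w e2
  exact e3

end K957.BundleQS
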