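import Groth.Agent.EqInt.K957.Invt
import Groth.Agent.EqInt.K957.Cart

/-!
# Descent of invariant morphisms along principal bundles; restriction of bundles over opens
-/

set_option autoImplicit false
universe u
open CategoryTheory CategoryTheory.Limits MonoidalCategory CartesianMonoidalCategory MonObj GrpObj AlgebraicGeometry

namespace K957.DescOver

open K957.Pts K957.Restr K957.Invt

variable {S : Scheme.{u}} {G X Y Q : Over S} [GrpObj G] (a : AlgGrp.Action G X) {φ : X ⟶ Q}

/-- invariant morphisms factor through the quotient -/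
theorem exists_desc (H : IsPullback a.act (snd G X) φ φ) [Flat φ.left] [Surjective φ.left]
    [QuasiCompact φ.left] (f : X ⟶ Y) (hf : GIT.IsInvariant a f) : ∃ f' : Q ⟶ Y, φ ≫ f' = f := by
  have hgq := Glue.isGeomQuot_of_bundle a φ H.w (isIso_of_isPullback a H.w H)
  obtain ⟨g, hg, -⟩ := hgq.existsUnique_desc f.left hf.left
  have : Epi φ.left := hgq.epi
  refine ⟨Over.homMk g ?_, Over.OverMorphism.ext hg⟩
  rw [← cancel_epi φ.left, reassoc_of% hg, Over.w, Over.w]

omit [GrpObj G] in
theorem epi_left [Flat φ.left] [Surjective φ.left] [QuasiCompact φ.left] : Epi φ.left :=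
  Flat.epi_of_flat_of_surjective _

omit [GrpObj G] in
theorem epi [Flat φ.left] [Surjective φ.left] [QuasiCompact φ.left] : Epi φ := by
  have : Epi φ.left := epi_left
  exact Over.epi_of_epi_left _

/-- restriction of a bundle to an open of the base -/
theorem isPullback_resOver_act (H : IsPullback a.act (snd G X) φ φ) (W : Q.left.Opens) :
    IsPullback (Restr.restrict a _ (preimage_inv a H.w W)).act (snd G (XU (φ.left ⁻¹ᵁ W)))
      (resOver φ W) (resOver φ W) := by
  refine isPullback_bc a (restrict_isEquivariant a _ (preimage_inv a H.w W)) ?_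
    (isPullback_resOver φ W) H
  apply isInvariant_of_dot
  intro T g x
  rw [← cancel_mono (iU W), Category.assoc, ← (isPullback_resOver φ W).w, ← Category.assoc,
    dot_comp _ (restrict_isEquivariant a _ (preimage_inv a H.w W)), dot_inv a H.w, Category.assoc,
    (isPullback_resOver φ W).w, Category.assoc]

/-- equivariant maps of bundles (over `S`) are cartesian -/
theorem exists_cartesian {X' Q' : Over S} (a' : AlgGrp.Action G X') {φ' : X' ⟶ Q'}
    (H : IsPullback a.act (snd G X) φ φ) (H' : IsPullback a'.act (snd G X') φ' φ')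
    [Flat φ.left] [Surjective φ.left] [QuasiCompact φ.left] (F : X ⟶ X')
    (hF : AlgGrp.Action.IsEquivariant a a' F) : ∃ f : Q ⟶ Q', IsPullback F φ φ' f := by
  obtain ⟨f, hf⟩ := exists_desc a H (F ≫ φ') (by
    apply isInvariant_of_dot
    intro T g x
    rw [← Category.assoc, dot_comp a hF, dot_inv a' H'.w, Category.assoc])
  exact ⟨f, isPullback_over (Cart.isPullback_of_equivariant a a' F hF φ H.w
    (isIso_of_isPullback a H.w H) φ' H'.w (isIso_of_isPullback a' H'.w H') f hf.symm)⟩

end K957.DescOver
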