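import Groth.Agent.EqInt.K957.Glue2
import Groth.Agent.EqInt.K957.BundleQS

/-!
# The diagonal action of a connected affine group on `X × U`, `U` a principal bundle
-/

set_option autoImplicit false
universe u
open CategoryTheory CategoryTheory.Limits MonoidalCategory CartesianMonoidalCategory MonObj GrpObj AlgebraicGeometry

namespace K957.DiagMain

open K957.Pts K957.Glue K957.Restr K957.Invt K957.QSec

variable {k : Type u} [Field k] [IsAlgClosed k] {G X U B : Over (Spec (CommRingCat.of k))}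
  [GrpObj G] (a : AlgGrp.Action G X) (b : AlgGrp.Action G U)

theorem hasBundle_prod [IsAffine G.left] [LocallyOfFiniteType G.hom]
    [ConnectedSpace G.left] [LocallyOfFiniteType X.hom] [QuasiCompact X.hom]
    [LocallyOfFiniteType U.hom] [QuasiCompact U.hom] [LocallyOfFiniteType B.hom]
    {π : U ⟶ B} (H : IsPullback b.act (snd G U) π π) [Flat π.left] [Surjective π.left]
    [QuasiCompact π.left] : HasBundle (a.prod b) := by
  have : IsNoetherianRing (CommRingCat.of k) := inferInstanceAs (IsNoetherianRing k)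
  have i4 : CompactSpace U.left := (quasiCompact_iff_compactSpace (f := U.hom)).mp inferInstance
  have i5 : IsLocallyNoetherian U.left := LocallyOfFiniteType.isLocallyNoetherian U.hom
  have i6 : IsNoetherian U.left := ⟨⟩
  have := Emb.flat_hom G
  refine HasBundle.glue' _ fun z => ?_
  obtain ⟨W₁, T, j, f, s, hj, ⟨w, hw⟩, ⟨f1, f2, f3⟩, hf, hs⟩ :=
    BundleQS.QS_bundle b H ((snd X U ≫ π).left z)
  obtain ⟨W₀, hW₀, hwW, -⟩ := exists_isAffineOpen_mem_and_subset (U := ⊤) (x := w) trivial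
  let jj : (W₀ : Scheme.{u}) ⟶ B.left := W₀.ι ≫ j
  let W := jj.opensRange
  let T' : Over (Spec (CommRingCat.of k)) := Over.mk ((f ⁻¹ᵁ W₀).ι ≫ s ≫ U.hom)
  have ejj : (f ∣_ W₀) ≫ jj.isoOpensRange.hom ≫ W.ι = (f ⁻¹ᵁ W₀).ι ≫ s ≫ π.left := by
    rw [jj.isoOpensRange_hom_ι, morphismRestrict_ι_assoc, hs]
  let f' : T' ⟶ XU W := Over.homMk ((f ∣_ W₀) ≫ jj.isoOpensRange.hom) (by
    change ((f ∣_ W₀) ≫ jj.isoOpensRange.hom) ≫ W.ι ≫ B.hom = (f ⁻¹ᵁ W₀).ι ≫ s ≫ U.hom
    have := ejj =≫ B.hom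
    simp only [Category.assoc] at this ⊢
    rw [this, Over.w])
  let s₁ : T' ⟶ U := Over.homMk ((f ⁻¹ᵁ W₀).ι ≫ s) (by
    exact Category.assoc _ _ _)
  have es : s₁ ≫ π = f' ≫ iU W := by
    apply Over.OverMorphism.ext
    change ((f ⁻¹ᵁ W₀).ι ≫ s) ≫ π.left = ((f ∣_ W₀) ≫ jj.isoOpensRange.hom) ≫ W.ι
    rw [Category.assoc, Category.assoc, ejj]
  let s' : T' ⟶ XU (π.left ⁻¹ᵁ W) := (isPullback_resOver π W).lift s₁ f' es
  have hs' : s' ≫ resOver π W = f' := (isPullback_resOver π W).lift_snd _ _ _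
  have hT : IsAffine T'.left := by
    have : IsFinite (f ∣_ W₀) := IsZariskiLocalAtTarget.restrict f1 W₀
    have : IsAffine (W₀ : Scheme.{u}) := hW₀
    exact isAffine_of_isAffineHom (f ∣_ W₀)
  have g1 : IsFinite (f ∣_ W₀) := IsZariskiLocalAtTarget.restrict f1 W₀
  have g2 : Flat (f ∣_ W₀) := IsZariskiLocalAtTarget.restrict f2 W₀
  have g3 : LocallyOfFinitePresentation (f ∣_ W₀) := IsZariskiLocalAtTarget.restrict f3 W₀
  have g4 : Surjective (f ∣_ W₀) := IsZariskiLocalAtTarget.restrict hf W₀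
  have g5 : LocallyOfFiniteType (XU W).hom := by
    change LocallyOfFiniteType (W.ι ≫ B.hom); infer_instance
  have g6 : LocallyOfFiniteType T'.hom := by
    rw [← Over.w f']
    change LocallyOfFiniteType (((f ∣_ W₀) ≫ jj.isoOpensRange.hom) ≫ (XU W).hom)
    infer_instance
  have g7 : LocallyOfFiniteType (XU (π.left ⁻¹ᵁ W)).hom := by
    change LocallyOfFiniteType ((π.left ⁻¹ᵁ W).ι ≫ U.hom); infer_instance
  have g8 : QuasiCompact (XU (π.left ⁻¹ᵁ W)).hom := by
    change QuasiCompact ((π.left ⁻¹ᵁ W).ι ≫ U.hom); infer_instance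
  have key := Diag.hasBundle_local a (Restr.restrict b _ (preimage_inv b H.w W))
    (DescOver.isPullback_resOver_act b H W) s' hs'
    (by
      change Mor2.IsFinLocFree ((f ∣_ W₀) ≫ jj.isoOpensRange.hom)
      exact ⟨inferInstance, inferInstance, inferInstance⟩)
    (by
      change Surjective ((f ∣_ W₀) ≫ jj.isoOpensRange.hom)
      infer_instance)
  have sq := isPullback_left (Diag.isPullback_whisker X (iU (π.left ⁻¹ᵁ W)))
  refine ⟨X ⊗ XU (π.left ⁻¹ᵁ W), _, X ◁ iU _, ?_, ?_, ?_, key⟩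
  · exact MorphismProperty.of_isPullback (P := @IsOpenImmersion) sq.flip inferInstance
  · apply isEquivariant_of_dot
    intro T g x
    apply CartesianMonoidalCategory.hom_ext
    · rw [Category.assoc, whiskerLeft_fst, dot_prod_fst, dot_prod_fst, Category.assoc, whiskerLeft_fst]
    · rw [Category.assoc, whiskerLeft_snd, dot_prod_snd, ← Category.assoc, dot_prod_snd,
        dot_comp _ (restrict_isEquivariant b _ (preimage_inv b H.w W)), Category.assoc, Category.assoc,
        whiskerLeft_snd]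
  · have h1 : (snd X U).left z ∈ π.left ⁻¹ᵁ W := by
      refine ⟨⟨w, hwW⟩, ?_⟩
      exact hw
    obtain ⟨z', hz', -⟩ := Scheme.exists_preimage_of_isPullback sq z ⟨(snd X U).left z, h1⟩ rfl
    exact ⟨z', hz'⟩

end K957.DiagMain
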