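import Groth.Agent.EqInt.K957.MatDesc
import Groth.Agent.EqInt.K957.Invt
import Groth.Agent.Sga3B.GLn
import Mathlib.AlgebraicGeometry.Morphisms.Flat

/-!
# Local equivariant maps from principal bundles to `GL_n`
-/

set_option autoImplicit false
universe u
open CategoryTheory CategoryTheory.Limits MonoidalCategory CartesianMonoidalCategory MonObj GrpObj AlgebraicGeometry
open scoped TensorProduct

namespace K957.EquivGL

open K957.Pts Groth.Agent.Sga3B.GLn

/-- a morphism to an affine open factors through `Spec` -/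
theorem factor {T X : Scheme.{u}} {E : X.Opens} (hE : IsAffineOpen E) (x : T ⟶ X) (hx : ⊤ ≤ x ⁻¹ᵁ E) :
    T.toSpecΓ ≫ Spec.map (x.appLE E ⊤ hx) ≫ hE.fromSpec = x := by
  have h := Scheme.Opens.toSpecΓ_SpecMap_appLE x E ⊤ hx
  rw [Scheme.Opens.toSpecΓ_top] at h
  have h1 := h =≫ hE.fromSpec
  simp only [Category.assoc, IsAffineOpen.toSpecΓ_fromSpec] at h1
  rw [Scheme.Hom.resLE_comp_ι] at h1
  have : IsIso (⊤ : T.Opens).ι :=
    isIso_of_isOpenImmersion_of_opensRange_eq_top _ (Scheme.Opens.opensRange_ι _)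
  exact (cancel_epi (⊤ : T.Opens).ι).mp h1

variable {S : Scheme.{u}} {G U B : Over S} [GrpObj G] (b : AlgGrp.Action G U) {π : U ⟶ B}
  (H : IsPullback b.act (snd G U) π π) {m : Type u} [Fintype m] [DecidableEq m] (i : G ⟶ GLS m S)
  {W : B.left.Opens} (hW : IsAffineOpen W) {E : U.left.Opens} (hE : IsAffineOpen E)
  (hWE : E ≤ π.left ⁻¹ᵁ W)

/-- the spectrum of a `Γ(B, W)`-algebra over `S` -/
noncomputable def sT {T : CommRingCat.{u}} (r : Γ(B.left, W) ⟶ T) : Over S :=
  Over.mk (Spec.map r ≫ hW.fromSpec ≫ B.hom)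

/-- points of `U` from ring maps -/
noncomputable def pt {T : CommRingCat.{u}} (r : Γ(B.left, W) ⟶ T) (x : Γ(U.left, E) ⟶ T)
    (hx : π.left.appLE W E hWE ≫ x = r) : sT hW r ⟶ U :=
  Over.homMk (Spec.map x ≫ hE.fromSpec) (by
    subst hx
    change _ = Spec.map (_ ≫ x) ≫ hW.fromSpec ≫ B.hom
    rw [Spec.map_comp, Category.assoc, Category.assoc, IsAffineOpen.SpecMap_appLE_fromSpec_assoc _ hW hE,
      Over.w]
    rfl)

theorem pt_π {T : CommRingCat.{u}} (r : Γ(B.left, W) ⟶ T) (x : Γ(U.left, E) ⟶ T)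
    (hx : π.left.appLE W E hWE ≫ x = r) :
    pt hW hE hWE r x hx ≫ π = Over.homMk (Spec.map r ≫ hW.fromSpec) (Category.assoc _ _ _) := by
  subst hx
  apply Over.OverMorphism.ext
  change (Spec.map x ≫ hE.fromSpec) ≫ π.left = Spec.map (_ ≫ x) ≫ hW.fromSpec
  rw [Spec.map_comp, Category.assoc, Category.assoc, IsAffineOpen.SpecMap_appLE_fromSpec _ hW hE]

/-- functoriality -/
noncomputable def mapT {T T' : CommRingCat.{u}} (r : Γ(B.left, W) ⟶ T) (t : T ⟶ T') (r' : Γ(B.left, W) ⟶ T')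
    (hr : r ≫ t = r') : sT hW r' ⟶ sT hW r :=
  Over.homMk (Spec.map t) (by
    subst hr
    change Spec.map t ≫ Spec.map r ≫ _ = Spec.map (r ≫ t) ≫ _
    rw [Spec.map_comp, Category.assoc])

theorem mapT_pt {T T' : CommRingCat.{u}} (r : Γ(B.left, W) ⟶ T) (t : T ⟶ T') (r' : Γ(B.left, W) ⟶ T')
    (hr : r ≫ t = r') (x : Γ(U.left, E) ⟶ T) (hx : π.left.appLE W E hWE ≫ x = r) (x' : Γ(U.left, E) ⟶ T')
    (hx' : π.left.appLE W E hWE ≫ x' = r') (e : x ≫ t = x') :
    mapT hW r t r' hr ≫ pt hW hE hWE r x hx = pt hW hE hWE r' x' hx' := by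
  subst e
  apply Over.OverMorphism.ext
  change Spec.map t ≫ Spec.map x ≫ hE.fromSpec = Spec.map (x ≫ t) ≫ hE.fromSpec
  rw [Spec.map_comp, Category.assoc]

section pairs

variable {T : CommRingCat.{u}} {r : Γ(B.left, W) ⟶ T} {x y z : Γ(U.left, E) ⟶ T}
  (hx : π.left.appLE W E hWE ≫ x = r) (hy : π.left.appLE W E hWE ≫ y = r)
  (hz : π.left.appLE W E hWE ≫ z = r)

include H in
theorem exists_gg : ∃ g : sT hW r ⟶ G, dot b g (pt hW hE hWE r y hy) = pt hW hE hWE r x hx :=
  exists_dot b H _ _ (by rw [pt_π, pt_π])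

/-- the element of `G` carrying `y` to `x` -/
noncomputable def gg : sT hW r ⟶ G := (exists_gg b H hW hE hWE hx hy).choose

theorem gg_spec : dot b (gg b H hW hE hWE hx hy) (pt hW hE hWE r y hy) = pt hW hE hWE r x hx :=
  (exists_gg b H hW hE hWE hx hy).choose_spec

theorem gg_mul : gg b H hW hE hWE hx hy * gg b H hW hE hWE hy hz = gg b H hW hE hWE hx hz := by
  apply dot_cancel b H (y := pt hW hE hWE r z hz)
  rw [mul_dot, gg_spec, gg_spec, gg_spec]

theorem gg_self : gg b H hW hE hWE hx hx = 1 := by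
  apply dot_cancel b H (y := pt hW hE hWE r x hx)
  rw [gg_spec, one_dot]

theorem mapT_gg {T' : CommRingCat.{u}} (t : T ⟶ T') {r' : Γ(B.left, W) ⟶ T'}
    (hr : r ≫ t = r') {x' y' : Γ(U.left, E) ⟶ T'}
    (hx' : π.left.appLE W E hWE ≫ x' = r') (hy' : π.left.appLE W E hWE ≫ y' = r')
    (ex : x ≫ t = x') (ey : y ≫ t = y') :
    mapT hW r t r' hr ≫ gg b H hW hE hWE hx hy = gg b H hW hE hWE hx' hy' := by
  apply dot_cancel b H (y := pt hW hE hWE r' y' hy')
  rw [gg_spec, ← mapT_pt hW hE hWE r t r' hr y hy y' hy' ey, ← comp_dot, gg_spec,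
    mapT_pt hW hE hWE r t r' hr x hx x' hx' ex]

/-- matrices over `Γ(Spec T)` and over `T` -/
noncomputable def toT (r : Γ(B.left, W) ⟶ T) : Matrix m m Γ((sT hW r).left, ⊤) →+* Matrix m m T :=
  (Scheme.ΓSpecIso T).hom.hom.mapMatrix

/-- the cocycle -/
noncomputable def phi : Matrix m m T := toT hW r (mat (gg b H hW hE hWE hx hy ≫ i))

theorem phi_mul [IsMonHom i] : phi b H i hW hE hWE hx hy * phi b H i hW hE hWE hy hz =
    phi b H i hW hE hWE hx hz := by
  rw [phi, phi, phi, ← map_mul, ← mat_mul, ← MonObj.mul_comp, gg_mul]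

theorem phi_self [IsMonHom i] : phi b H i hW hE hWE hx hx = 1 := by
  rw [phi, gg_self, MonObj.one_comp, mat_one, map_one]

theorem phi_map {T' : CommRingCat.{u}} (t : T ⟶ T') {r' : Γ(B.left, W) ⟶ T'}
    (hr : r ≫ t = r') {x' y' : Γ(U.left, E) ⟶ T'}
    (hx' : π.left.appLE W E hWE ≫ x' = r') (hy' : π.left.appLE W E hWE ≫ y' = r')
    (ex : x ≫ t = x') (ey : y ≫ t = y') :
    phi b H i hW hE hWE hx' hy' = t.hom.mapMatrix (phi b H i hW hE hWE hx hy) := by
  rw [phi, phi, ← mapT_gg b H hW hE hWE hx hy t hr hx' hy' ex ey, Category.assoc, mat_comp]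
  ext k l
  have h := Scheme.ΓSpecIso_naturality t
  exact congr($(h).hom (mat (gg b H hW hE hWE hx hy ≫ i) k l))

end pairs

/-- the matrix at a point of `U` in `E` -/
noncomputable def Mx (M : Matrix m m Γ(U.left, E)) {T : Over S} (x : T ⟶ U) (hx : ⊤ ≤ x.left ⁻¹ᵁ E) :
    Matrix m m Γ(T.left, ⊤) := (x.left.appLE E ⊤ hx).hom.mapMatrix M

omit [GrpObj G] in
theorem Mx_comp (M : Matrix m m Γ(U.left, E)) {T T' : Over S} (t : T' ⟶ T) (x : T ⟶ U)
    (hx : ⊤ ≤ x.left ⁻¹ᵁ E) (hx' : ⊤ ≤ (t ≫ x).left ⁻¹ᵁ E) :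
    Mx M (t ≫ x) hx' = pull m t.left (Mx M x hx) := by
  ext k l
  have h : (t ≫ x).left.appLE E ⊤ hx' = x.left.appLE E ⊤ hx ≫ t.left.appTop := by
    have h1 := Scheme.Hom.appLE_comp_appLE t.left x.left E ⊤ ⊤ hx le_top
    have h2 : t.left.appLE ⊤ ⊤ le_top = t.left.appTop := Scheme.Hom.appLE_eq_app _
    rw [h2] at h1
    exact h1.symm
  exact congr($(h).hom (M k l))

/-- the main algebraic input: an equivariant matrix, invertible at a given point -/
theorem exists_matrix [IsMonHom i] [Flat π.left] (u₀ : U.left) (hu₀ : u₀ ∈ E) :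
    ∃ M : Matrix m m Γ(U.left, E), u₀ ∈ U.left.basicOpen M.det ∧
      ∀ (T : CommRingCat.{u}) (r : Γ(B.left, W) ⟶ T) (x y : Γ(U.left, E) ⟶ T)
        (hx : π.left.appLE W E hWE ≫ x = r) (hy : π.left.appLE W E hWE ≫ y = r),
        x.hom.mapMatrix M = phi b H i hW hE hWE hx hy * y.hom.mapMatrix M := by
  let R := Γ(B.left, W)
  let C := Γ(U.left, E)
  let _ : Algebra R C := (π.left.appLE W E hWE).hom.toAlgebra
  have hflat : Module.Flat R C := Flat.flat_appLE π.left hW hE hWE
  have hal : ∀ {T : Type u} [CommRing T] [Algebra R T] (x : C →ₐ[R] T),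
      π.left.appLE W E hWE ≫ CommRingCat.ofHom x.toRingHom = CommRingCat.ofHom (algebraMap R T) := by
    intro T _ _ x
    ext c
    exact x.commutes c
  let Φ : Matrix m m (C ⊗[R] C) := phi b H i hW hE hWE
    (hal (Algebra.TensorProduct.includeLeft (R := R) (S := R) (A := C) (B := C)))
    (hal (Algebra.TensorProduct.includeRight (R := R) (A := C) (B := C)))
  have hev : ∀ {T : Type u} [CommRing T] [Algebra R T] (x y : C →ₐ[R] T),
      MatDesc.ev x y Φ = phi b H i hW hE hWE (hal x) (hal y) := by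
    intro T _ _ x y
    rw [phi_map b H i hW hE hWE (hal (Algebra.TensorProduct.includeLeft (R := R) (S := R) (A := C) (B := C)))
      (hal (Algebra.TensorProduct.includeRight (R := R) (A := C) (B := C)))
      (CommRingCat.ofHom (Algebra.TensorProduct.productMap x y).toRingHom) ?_ (hal x) (hal y) ?_ ?_]
    · rfl
    · ext c
      exact (Algebra.TensorProduct.productMap x y).commutes c
    · ext c
      exact Algebra.TensorProduct.productMap_left_apply x y c
    · ext c
      exact Algebra.TensorProduct.productMap_right_apply x y c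
  obtain ⟨M, hM1, hM2⟩ := MatDesc.exists_matrix Φ (by rw [hev, phi_self])
    (fun T _ _ x y z => by rw [hev, hev, hev, phi_mul]) (hE.primeIdealOf ⟨u₀, hu₀⟩).asIdeal
  refine ⟨M, ?_, ?_⟩
  · have h1 : hE.primeIdealOf ⟨u₀, hu₀⟩ ∈ PrimeSpectrum.basicOpen M.det := hM1
    rw [← hE.fromSpec_preimage_basicOpen] at h1
    have h2 : hE.fromSpec (hE.primeIdealOf ⟨u₀, hu₀⟩) ∈ U.left.basicOpen M.det := h1
    rwa [IsAffineOpen.fromSpec_primeIdealOf] at h2
  · intro T r x y hx hy
    let _ : Algebra R T := r.hom.toAlgebra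
    let x' : C →ₐ[R] T := { x.hom with commutes' := fun c => congr($(hx).hom c) }
    let y' : C →ₐ[R] T := { y.hom with commutes' := fun c => congr($(hy).hom c) }
    have h1 := hev x' y'
    have h2 := congrArg (Algebra.TensorProduct.productMap x' y').toRingHom.mapMatrix hM2
    rw [map_mul] at h2
    have h3 : (Algebra.TensorProduct.productMap x' y').toRingHom.mapMatrix
      ((Algebra.TensorProduct.includeLeft (R := R) (S := R) (A := C) (B := C)).toRingHom.mapMatrix M) =
        x.hom.mapMatrix M := by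
      ext k l
      exact Algebra.TensorProduct.productMap_left_apply x' y' (M k l)
    have h4 : (Algebra.TensorProduct.productMap x' y').toRingHom.mapMatrix
      ((Algebra.TensorProduct.includeRight (R := R) (A := C) (B := C)).toRingHom.mapMatrix M) =
        y.hom.mapMatrix M := by
      ext k l
      exact Algebra.TensorProduct.productMap_right_apply x' y' (M k l)
    have h5 : (Algebra.TensorProduct.productMap x' y').toRingHom.mapMatrix Φ =
        phi b H i hW hE hWE hx hy := h1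
    rw [h3, h4, h5] at h2
    exact h2

end K957.EquivGL
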