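import Groth.Agent.EqInt.K957.EquivGL
import Mathlib.AlgebraicGeometry.Morphisms.Affine

/-!
# Local equivariant maps from principal bundles to `GL_n`: the theorem
-/

set_option autoImplicit false
universe u
open CategoryTheory CategoryTheory.Limits MonoidalCategory CartesianMonoidalCategory MonObj GrpObj AlgebraicGeometry

namespace K957.EquivGL

open K957.Pts K957.Restr K957.Invt Groth.Agent.Sga3B.GLn

variable {S : Scheme.{u}} {G U B : Over S} [GrpObj G] (b : AlgGrp.Action G U) {π : U ⟶ B}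
  (H : IsPullback b.act (snd G U) π π) {m : Type u} [Fintype m] [DecidableEq m] (i : G ⟶ GLS m S)
  {W : B.left.Opens} (hW : IsAffineOpen W) {E : U.left.Opens} (hE : IsAffineOpen E)
  (hWE : E ≤ π.left ⁻¹ᵁ W)

/-- the matrix is equivariant on arbitrary points -/
theorem Mx_dot (M : Matrix m m Γ(U.left, E))
    (hM : ∀ (T : CommRingCat.{u}) (r : Γ(B.left, W) ⟶ T) (x y : Γ(U.left, E) ⟶ T)
        (hx : π.left.appLE W E hWE ≫ x = r) (hy : π.left.appLE W E hWE ≫ y = r),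
        x.hom.mapMatrix M = phi b H i hW hE hWE hx hy * y.hom.mapMatrix M)
    {T : Over S} (g : T ⟶ G) (x y : T ⟶ U) (hxy : dot b g y = x) (hy : ⊤ ≤ y.left ⁻¹ᵁ E)
    (hx : ⊤ ≤ x.left ⁻¹ᵁ E) : Mx M x hx = mat (g ≫ i) * Mx M y hy := by
  have hπ : GIT.IsInvariant b π := H.w
  have hxyπ : x ≫ π = y ≫ π := by rw [← hxy, dot_inv b hπ]
  let r : Γ(B.left, W) ⟶ Γ(T.left, ⊤) := π.left.appLE W E hWE ≫ x.left.appLE E ⊤ hx
  have e1 : π.left.appLE W E hWE ≫ y.left.appLE E ⊤ hy = r := by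
    have e3 := Scheme.Hom.appLE_comp_appLE x.left π.left W E ⊤ hWE hx
    have e4 := Scheme.Hom.appLE_comp_appLE y.left π.left W E ⊤ hWE hy
    have e5 : x.left ≫ π.left = y.left ≫ π.left := congrArg CommaMorphism.left hxyπ
    simp only [r, e3, e4, e5]
  let t : T ⟶ sT hW r := Over.homMk T.left.toSpecΓ (by
    change T.left.toSpecΓ ≫ Spec.map (_ ≫ _) ≫ _ ≫ _ = T.hom
    rw [Spec.map_comp, Category.assoc, IsAffineOpen.SpecMap_appLE_fromSpec_assoc _ hW hE]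
    have := factor hE x.left hx
    rw [← Category.assoc (Spec.map _), ← Category.assoc T.left.toSpecΓ, this, Over.w, Over.w])
  have t1 : t ≫ pt hW hE hWE r (x.left.appLE E ⊤ hx) rfl = x := Over.OverMorphism.ext (factor hE x.left hx)
  have t2 : t ≫ pt hW hE hWE r (y.left.appLE E ⊤ hy) e1 = y := Over.OverMorphism.ext (factor hE y.left hy)
  have t3 : t ≫ gg b H hW hE hWE (r := r) rfl e1 = g := by
    apply dot_cancel b H (y := y)
    have t5 := comp_dot b t (gg b H hW hE hWE (r := r) rfl e1) (pt hW hE hWE r (y.left.appLE E ⊤ hy) e1)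
    rw [t2, gg_spec, t1] at t5
    rw [hxy, ← t5]
  have t4 : mat (g ≫ i) = phi b H i hW hE hWE (r := r) rfl e1 := by
    rw [phi, ← t3, Category.assoc, mat_comp]
    have h := Scheme.toSpecΓ_appTop T.left
    ext k l
    exact congr($(h).hom (mat (gg b H hW hE hWE (r := r) rfl e1 ≫ i) k l))
  rw [t4]
  exact hM _ _ _ _ _ _

theorem basicOpen_eq_of_mul {X : Scheme.{u}} (f g v : Γ(X, ⊤)) (hv : IsUnit v) (h : f = v * g) :
    X.basicOpen f = X.basicOpen g := by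
  rw [h, Scheme.basicOpen_mul, Scheme.basicOpen_of_isUnit _ hv, top_inf_eq]

include H in
/-- Locally on the base there are equivariant maps to `GL_n`. -/
theorem exists_equivariant [IsMonHom i] [Flat π.left] [Surjective π.left] [IsAffineHom π.left]
    (y : B.left) : ∃ (W : B.left.Opens) (_ : y ∈ W) (δ : XU (π.left ⁻¹ᵁ W) ⟶ GLS m S),
      ∀ (T : Over S) (g : T ⟶ G) (z : T ⟶ XU (π.left ⁻¹ᵁ W)),
        dot (Restr.restrict b _ (preimage_inv b H.w W)) g z ≫ δ = (g ≫ i) * (z ≫ δ) := by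
  have hπ : GIT.IsInvariant b π := H.w
  obtain ⟨_, ⟨W₁, hW₁, rfl⟩, hyW, -⟩ := (B.left.isBasis_affineOpens).exists_subset_of_mem_open
    (Set.mem_univ y) isOpen_univ
  let E : U.left.Opens := π.left ⁻¹ᵁ W₁
  have hE : IsAffineOpen E := hW₁.preimage π.left
  obtain ⟨u₀, hu₀⟩ := π.left.surjective y
  have hu₀E : u₀ ∈ E := by
    change π.left u₀ ∈ W₁
    rw [hu₀]; exact hyW
  obtain ⟨M, hM1, hM2⟩ := exists_matrix b H i hW₁ hE le_rfl u₀ hu₀E
  let E₁ : U.left.Opens := U.left.basicOpen M.det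
  have hE₁ : E₁ ≤ E := U.left.basicOpen_le _
  -- invariance
  have hinv : (snd G U).left ⁻¹ᵁ E₁ = b.act.left ⁻¹ᵁ E₁ := by
    let F : (G ⊗ U).left.Opens := (snd G U).left ⁻¹ᵁ E
    have hF : b.act.left ⁻¹ᵁ E = F := preimage_inv b hπ W₁
    let j := iU (X := G ⊗ U) F
    have hmemF : ∀ t : (F : Scheme.{u}), F.ι t ∈ F := fun t => t.2
    have hy : ⊤ ≤ (j ≫ snd G U).left ⁻¹ᵁ E := fun t _ => hmemF t
    have hx : ⊤ ≤ (j ≫ b.act).left ⁻¹ᵁ E := fun t _ => by
      have : F.ι t ∈ b.act.left ⁻¹ᵁ E := by rw [hF]; exact hmemF t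
      exact this
    have key := Mx_dot b H i hW₁ hE le_rfl M hM2 (j ≫ fst G U) (j ≫ b.act) (j ≫ snd G U)
      (by rw [dot, ← comp_lift_assoc, lift_fst_snd, Category.id_comp]) hy hx
    have kdet := congrArg Matrix.det key
    rw [Matrix.det_mul] at kdet
    have d1 : ∀ (x : XU (X := G ⊗ U) F ⟶ U) (hx : ⊤ ≤ x.left ⁻¹ᵁ E), (Mx M x hx).det =
        x.left.appLE E ⊤ hx M.det := fun x hx => (RingHom.map_det (x.left.appLE E ⊤ hx).hom M).symm
    rw [d1, d1] at kdet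
    have kb := basicOpen_eq_of_mul _ _ _ (isUnit_det_mat ((j ≫ fst G U) ≫ i)) kdet
    rw [Scheme.basicOpen_appLE, Scheme.basicOpen_appLE, top_inf_eq, top_inf_eq] at kb
    ext p
    constructor
    · intro hp
      have hpF : p ∈ F := hE₁ hp
      have : (⟨p, hpF⟩ : (F : Scheme.{u})) ∈ (j ≫ snd G U).left ⁻¹ᵁ U.left.basicOpen M.det := hp
      rw [← kb] at this
      exact this
    · intro hp
      have hpF : p ∈ F := by rw [← hF]; exact hE₁ hp
      have : (⟨p, hpF⟩ : (F : Scheme.{u})) ∈ (j ≫ b.act).left ⁻¹ᵁ U.left.basicOpen M.det := hp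
      rw [kb] at this
      exact this
  have hgq := Glue.isGeomQuot_of_bundle b π hπ (isIso_of_isPullback b hπ H)
  obtain ⟨W, hW⟩ := Groth.Agent.GrpQ.H765.Glue.exists_opens hgq E₁ hinv
  have hyW' : y ∈ W := by
    have : u₀ ∈ π.left ⁻¹ᵁ W := by rw [hW]; exact hM1
    rw [← hu₀]; exact this
  have hle : π.left ⁻¹ᵁ W ≤ E := by rw [hW]; exact hE₁
  have htop : ∀ {T : Over S} (z : T ⟶ XU (π.left ⁻¹ᵁ W)), ⊤ ≤ (z ≫ iU (π.left ⁻¹ᵁ W)).left ⁻¹ᵁ E :=
    fun z t _ => hle (z.left t).2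
  have htop' : ⊤ ≤ (iU (π.left ⁻¹ᵁ W)).left ⁻¹ᵁ E := fun t _ => hle t.2
  have hdet : IsUnit (Mx M (iU (π.left ⁻¹ᵁ W)) htop').det := by
    have d1 : (Mx M (iU (π.left ⁻¹ᵁ W)) htop').det =
        (iU (π.left ⁻¹ᵁ W)).left.appLE E ⊤ htop' M.det :=
      (RingHom.map_det ((iU (π.left ⁻¹ᵁ W)).left.appLE E ⊤ htop').hom M).symm
    rw [d1]
    apply isUnit_of_basicOpen_eq
    rw [Scheme.basicOpen_appLE, top_inf_eq]
    rw [eq_top_iff]
    intro t _
    have h1 : (π.left ⁻¹ᵁ W).ι t ∈ π.left ⁻¹ᵁ W := t.2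
    exact hW.le h1
  refine ⟨W, hyW', ofMat _ hdet, ?_⟩
  intro T g z
  apply mat_injective
  rw [mat_comp, mat_ofMat, mat_mul, mat_comp z, mat_ofMat, ← Mx_comp M _ _ _ (htop _), ← Mx_comp M _ _ _ (htop z)]
  refine Mx_dot b H i hW₁ hE le_rfl M hM2 g _ _ ?_ (htop z) (htop _)
  rw [dot_comp _ (restrict_isEquivariant b _ (preimage_inv b H.w W))]

end K957.EquivGL
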