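import Groth.Agent.EqInt.K957.Bundle
import Mathlib.AlgebraicGeometry.ZariskisMainTheorem

/-!
# Stabilizers and freeness
-/

set_option autoImplicit false
universe u
open CategoryTheory CategoryTheory.Limits MonoidalCategory CartesianMonoidalCategory MonObj GrpObj AlgebraicGeometry

namespace K957.Free

variable {S : Scheme.{u}} {G X : Over S} [GrpObj G] (a : AlgGrp.Action G X)

/-- the stabilizer group scheme `Stab → X` -/
noncomputable abbrev stabSnd : pullback (GIT.psi a (𝟙 X)).left (CartesianMonoidalCategory.lift (𝟙 X) (𝟙 X)).left ⟶ X.left :=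
  pullback.snd (GIT.psi a (𝟙 X)).left (CartesianMonoidalCategory.lift (𝟙 X) (𝟙 X)).left

theorem lift_psi {T : Over S} (g : T ⟶ G) (x : T ⟶ X) :
    lift g x ≫ GIT.psi a (𝟙 X) = lift (lift g x ≫ a.act) x := by
  rw [Bundle.psi_eq]
  apply CartesianMonoidalCategory.hom_ext <;> simp

theorem comp_diag {T : Over S} (x : T ⟶ X) : x ≫ lift (𝟙 X) (𝟙 X) = lift x x := by
  apply CartesianMonoidalCategory.hom_ext <;> simp

/-- two points of the stabilizer over the same point of `X` agree when `Stab → X` is a monomorphism -/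
theorem eq_one_of_mono [Mono (stabSnd a)] {T : Over S} (h : T ⟶ G) (x : T ⟶ X)
    (hx : lift h x ≫ a.act = x) : h = 1 := by
  have c1 : (lift h x).left ≫ (GIT.psi a (𝟙 X)).left = x.left ≫ (lift (𝟙 X) (𝟙 X)).left := by
    rw [← Over.comp_left, ← Over.comp_left, lift_psi, comp_diag, hx]
  have c2 : (lift (1 : T ⟶ G) x).left ≫ (GIT.psi a (𝟙 X)).left = x.left ≫ (lift (𝟙 X) (𝟙 X)).left := by
    rw [← Over.comp_left, ← Over.comp_left, lift_psi, comp_diag, a.lift_one_act]
  have h1 : pullback.lift _ _ c1 = pullback.lift _ _ c2 := by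
    rw [← cancel_mono (stabSnd a), pullback.lift_snd, pullback.lift_snd]
  have h2 := h1 =≫ pullback.fst _ _
  rw [pullback.lift_fst, pullback.lift_fst] at h2
  have h3 : lift h x = lift (1 : T ⟶ G) x := Over.OverMorphism.ext h2
  have h4 := h3 =≫ fst G X
  simpa using h4

theorem mono_psi [Mono (stabSnd a)] : Mono (GIT.psi a (𝟙 X)) := by
  constructor
  intro T u v huv
  have hu : u = lift (u ≫ fst G X) (u ≫ snd G X) := by
    apply CartesianMonoidalCategory.hom_ext <;> simp
  have hv : v = lift (v ≫ fst G X) (v ≫ snd G X) := by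
    apply CartesianMonoidalCategory.hom_ext <;> simp
  rw [hu, hv, lift_psi, lift_psi] at huv
  have e1 := huv =≫ fst X X
  have e2 := huv =≫ snd X X
  simp only [lift_fst, lift_snd] at e1 e2
  generalize u ≫ fst G X = g at *
  generalize v ≫ fst G X = g' at *
  generalize u ≫ snd G X = x at *
  generalize v ≫ snd G X = x' at *
  subst e2
  have e3 : lift (g'⁻¹ * g) x ≫ a.act = x := by
    rw [a.lift_mul_act, e1, ← a.lift_mul_act, inv_mul_cancel, a.lift_one_act]
  have e4 := eq_one_of_mono a _ _ e3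
  rw [hu, hv, inv_mul_eq_one.1 e4]

theorem mono_psi_left [Mono (stabSnd a)] : Mono (GIT.psi a (𝟙 X)).left := by
  have := mono_psi a
  infer_instance

/-- if `Ψ` is a monomorphism then the stabilizer is trivial -/
theorem isIso_stabSnd [Mono (GIT.psi a (𝟙 X)).left] : IsIso (stabSnd a) := by
  have hm : Mono (stabSnd a) := inferInstance
  have c2 : (lift (1 : X ⟶ G) (𝟙 X)).left ≫ (GIT.psi a (𝟙 X)).left = (𝟙 X.left) ≫ (lift (𝟙 X) (𝟙 X)).left := by
    rw [← Over.comp_left, lift_psi, a.lift_one_act, Category.id_comp]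
  have h1 : pullback.lift _ _ c2 ≫ stabSnd a = 𝟙 _ := pullback.lift_snd _ _ _
  refine ⟨pullback.lift _ _ c2, ?_, h1⟩
  rw [← cancel_mono (stabSnd a), Category.assoc, h1, Category.comp_id, Category.id_comp]

end K957.Free
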