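import Groth.Agent.Sga3B.GLn
import Groth.Agent.Sga3B.AffPts
import Groth.Prelude.Def_GLin4

/-!
# The homomorphism `Spec A ⟶ GL_n` attached to a surjection of the coordinate ring of `GL_n` onto `A`
-/

set_option autoImplicit false
universe u
open CategoryTheory CategoryTheory.Limits MonoidalCategory CartesianMonoidalCategory MonObj GrpObj AlgebraicGeometry

namespace K957.GLEmb

open Groth.Agent.Sga3B.GLn Groth.Agent.Sga3B.AffPts Groth.Agent.Books.AffBridge

variable {k : Type u} [CommRing k] {A : Type u} [CommRing A] [HopfAlgebra k A] {n : ℕ}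
  (π : CoordGrp.GLn n k →ₐc[k] A)

/-- matrix of a point -/
noncomputable def mt {B : Type u} [CommRing B] [Algebra k B] (f : A →ₐ[k] B) :
    Matrix (ULift.{u} (Fin n)) (ULift.{u} (Fin n)) B :=
  Matrix.of fun a b => f (π (CoordGrp.GLn.X a.down b.down))

theorem isUnit_det_mt {B : Type u} [CommRing B] [Algebra k B] (f : A →ₐ[k] B) : IsUnit (mt π f).det := by
  have h1 : (mt π f).det = f (π CoordGrp.GLn.det) := by
    rw [CoordGrp.GLn.det_eq]
    have h2 : f (π (CoordGrp.GLn.genMat n k).det) =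
      ((f : A →+* B).comp (π : CoordGrp.GLn n k →+* A)) (CoordGrp.GLn.genMat n k).det := rfl
    rw [h2, RingHom.map_det]
    have h3 : mt π f = Matrix.reindex Equiv.ulift.symm Equiv.ulift.symm
      (((f : A →+* B).comp (π : CoordGrp.GLn n k →+* A)).mapMatrix (CoordGrp.GLn.genMat n k)) := rfl
    rw [h3, Matrix.det_reindex_self]
  rw [h1]
  have h4 : IsUnit (CoordGrp.GLn.det : CoordGrp.GLn n k) :=
    IsUnit.of_mul_eq_one _ CoordGrp.GLn.det_mul_Dinv
  exact (h4.map π).map f

/-- the generic matrix -/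
noncomputable def gen : Matrix (ULift.{u} (Fin n)) (ULift.{u} (Fin n)) Γ((SpecOver k A).left, ⊤) :=
  mt (B := Fn (SpecOver k A)) π (fnSpec (R := k) A).symm.toAlgHom

theorem isUnit_det_gen : IsUnit (gen π).det := isUnit_det_mt (B := Fn (SpecOver k A)) π _

/-- the homomorphism -/
noncomputable def hom : SpecOver k A ⟶ GLS (ULift.{u} (Fin n)) (Spec (CommRingCat.of k)) :=
  ofMat (T := SpecOver k A) (gen π) (isUnit_det_gen π)

theorem mat_hom {T : Over (Spec (CommRingCat.of k))} (f : A →ₐ[k] Fn T) :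
    mat (affPt T f ≫ hom π) = mt (B := Fn T) π f := by
  rw [mat_comp, hom, mat_ofMat]
  ext a b
  have h : affPt T f = affPt T f ≫ affPt (SpecOver k A) (fnSpec (R := k) A).symm.toAlgHom := by
    have : affPt (SpecOver k A) (fnSpec (R := k) A).symm.toAlgHom = 𝟙 _ := by
      rw [affPt_spec]
      have : (fnSpec (R := k) A).toAlgHom.comp (fnSpec (R := k) A).symm.toAlgHom = AlgHom.id k A := by
        ext x
        exact (fnSpec (R := k) A).apply_symm_apply x
      rw [this]
      exact Over.OverMorphism.ext (Spec.map_id _)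
    rw [this, Category.comp_id]
  have h2 := h
  rw [comp_affPt] at h2
  have h3 := (affPt_bijective T).1 h2
  exact congr($h3 (π (CoordGrp.GLn.X a.down b.down))).symm

theorem mt_mul {B : Type u} [CommRing B] [Algebra k B] (f g : WithConv (A →ₐ[k] B)) :
    mt π (f * g).ofConv = mt π f.ofConv * mt π g.ofConv := by
  ext a b
  rw [Matrix.mul_apply]
  change (f * g) (π (CoordGrp.GLn.X a.down b.down)) = ∑ l, _ * _
  have h1 : CoalgebraStruct.comul (R := k) (π (CoordGrp.GLn.X a.down b.down)) =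
      ∑ l : Fin n, π (CoordGrp.GLn.X a.down l) ⊗ₜ[k] π (CoordGrp.GLn.X l b.down) := by
    have := CoalgHomClass.map_comp_comul_apply π (CoordGrp.GLn.X a.down b.down : CoordGrp.GLn n k)
    rw [← this, CoordGrp.GLn.comul_X, map_sum]
    rfl
  rw [AlgHom.convMul_apply, h1]
  simp only [map_sum]
  rw [← Equiv.sum_comp Equiv.ulift.symm]
  rfl

instance isMonHom_hom : IsMonHom (hom π) := by
  apply isMonHom_of_mat
  intro T x y
  obtain ⟨f, rfl⟩ := (affEquiv (A := A) T).surjective x
  obtain ⟨g, rfl⟩ := (affEquiv (A := A) T).surjective y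
  rw [← map_mul, affEquiv_apply, affEquiv_apply, affEquiv_apply, mat_hom, mat_hom, mat_hom, mt_mul]
  rfl

theorem mono_hom (hπ : Function.Surjective π) : Mono (hom π) := by
  refine ⟨fun {T} x y hxy => ?_⟩
  obtain ⟨f, rfl⟩ := (affPt_bijective (A := A) T).2 x
  obtain ⟨g, rfl⟩ := (affPt_bijective (A := A) T).2 y
  congr 1
  have h1 := congrArg mat hxy
  rw [mat_hom, mat_hom] at h1
  have h2 : ∀ i j, f (π (CoordGrp.GLn.X i j)) = g (π (CoordGrp.GLn.X i j)) := fun i j =>
    congrFun (congrFun h1 ⟨i⟩) ⟨j⟩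
  have h3 : f (π CoordGrp.GLn.det) = g (π CoordGrp.GLn.det) := by
    have e : ∀ f : A →ₐ[k] Fn T, f (π CoordGrp.GLn.det) =
        (((f : A →+* Fn T).comp (π : CoordGrp.GLn n k →+* A)).mapMatrix (CoordGrp.GLn.genMat n k)).det := by
      intro f
      rw [← RingHom.map_det, CoordGrp.GLn.det_eq]
      rfl
    rw [e, e]
    congr 1
    ext i j
    exact h2 i j
  have h4 : f (π CoordGrp.GLn.Dinv) = g (π CoordGrp.GLn.Dinv) := by
    have e : ∀ f : A →ₐ[k] Fn T, f (π CoordGrp.GLn.det) * f (π CoordGrp.GLn.Dinv) = 1 := by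
      intro f
      rw [← map_mul, ← map_mul, CoordGrp.GLn.det_mul_Dinv, map_one, map_one]
    have e1 := e f
    have e2 := e g
    rw [← h3] at e2
    have hu : IsUnit (f (π CoordGrp.GLn.det)) := IsUnit.of_mul_eq_one _ e1
    exact hu.mul_left_cancel (e1.trans e2.symm)
  have h5 : f.comp (π : CoordGrp.GLn n k →ₐ[k] A) = g.comp (π : CoordGrp.GLn n k →ₐ[k] A) :=
    CoordGrp.GLn.algHom_ext h2 h4
  ext a
  obtain ⟨c, rfl⟩ := hπ a
  exact congr($h5 c)

end K957.GLEmb
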