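import Groth.Prelude.Def_W4bk4git07Quot
import Mathlib.AlgebraicGeometry.Morphisms.UniversallyOpen
import Mathlib.AlgebraicGeometry.Morphisms.FlatDescent

/-!
# Universally submersive quotients with open orbit relation are universally open
-/

set_option autoImplicit false
universe u
open CategoryTheory CategoryTheory.Limits MonoidalCategory CartesianMonoidalCategory MonObj GrpObj AlgebraicGeometry

namespace K957.UnivOpen

section

variable {X Y X' Y' : Scheme.{u}} {f : X ⟶ Y} {f' : X' ⟶ Y'} {i₁ : X' ⟶ X} {i₂ : Y' ⟶ Y}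

/-- `X' ×_{Y'} X' ⟶ X ×_Y X` -/
noncomputable def mapKer (w : i₁ ≫ f = f' ≫ i₂) : pullback f' f' ⟶ pullback f f :=
  pullback.lift (pullback.fst f' f' ≫ i₁) (pullback.snd f' f' ≫ i₁) (by
    rw [Category.assoc, Category.assoc, w, pullback.condition_assoc])

@[reassoc]
theorem mapKer_fst (w : i₁ ≫ f = f' ≫ i₂) : mapKer w ≫ pullback.fst f f = pullback.fst f' f' ≫ i₁ :=
  pullback.lift_fst _ _ _

@[reassoc]
theorem mapKer_snd (w : i₁ ≫ f = f' ≫ i₂) : mapKer w ≫ pullback.snd f f = pullback.snd f' f' ≫ i₁ :=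
  pullback.lift_snd _ _ _

/-- `X' ×_{Y'} X' = (X ×_Y X) ×_X X'` (second projection) -/
theorem isPullback_mapKer_snd (H : IsPullback i₁ f' f i₂) :
    IsPullback (mapKer H.w) (pullback.snd f' f') (pullback.snd f f) i₁ := by
  have h1 : IsPullback (pullback.fst f' f' ≫ i₁) (pullback.snd f' f') f (f' ≫ i₂) :=
    (IsPullback.of_hasPullback f' f').paste_horiz H
  rw [← H.w] at h1
  refine IsPullback.of_right (h₁₂ := pullback.fst f f) (h₂₂ := f) (v₁₃ := f) ?_ (mapKer_snd _)
    (IsPullback.of_hasPullback f f)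
  rwa [mapKer_fst]

theorem isPullback_mapKer_fst (H : IsPullback i₁ f' f i₂) :
    IsPullback (mapKer H.w) (pullback.fst f' f') (pullback.fst f f) i₁ := by
  have h1 : IsPullback (pullback.snd f' f' ≫ i₁) (pullback.fst f' f') f (f' ≫ i₂) :=
    (IsPullback.of_hasPullback f' f').flip.paste_horiz H
  rw [← H.w] at h1
  refine IsPullback.of_right (h₁₂ := pullback.snd f f) (h₂₂ := f) (v₁₃ := f) ?_ (mapKer_fst _)
    (IsPullback.of_hasPullback f f).flip
  rwa [mapKer_snd]

end

theorem universallyOpen {R X Y : Scheme.{u}} {σ p : R ⟶ X} {f : X ⟶ Y} (w : σ ≫ f = p ≫ f)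
    (hs : Surjective (pullback.lift σ p w)) [UniversallyOpen p] (hf : GIT.IsUnivSubmersive f) :
    UniversallyOpen f := by
  refine ⟨fun {X' Y'} i₁ i₂ f' H => ?_⟩
  have hq : Topology.IsQuotientMap f' := hf i₁ i₂ f' H
  let m := mapKer H.flip.w
  let L := pullback.lift σ p w
  have h2 : IsPullback (pullback.fst L m) (pullback.snd L m ≫ pullback.snd f' f')
      (L ≫ pullback.snd f f) i₁ :=
    (IsPullback.of_hasPullback L m).paste_vert (isPullback_mapKer_snd H.flip)
  rw [pullback.lift_snd] at h2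
  have h3 : UniversallyOpen (pullback.snd L m ≫ pullback.snd f' f') :=
    MorphismProperty.of_isPullback h2 ‹_›
  intro U hU
  rw [← hq.isOpen_preimage]
  have key : f' ⁻¹' (f' '' U) = (pullback.snd L m ≫ pullback.snd f' f') ''
      ((pullback.snd L m ≫ pullback.fst f' f') ⁻¹' U) := by
    ext x
    constructor
    · rintro ⟨u, hu, hux⟩
      obtain ⟨z, hz1, hz2⟩ := Scheme.Pullback.exists_preimage_pullback u x hux
      obtain ⟨r, hr⟩ := (pullback.snd L m).surjective z
      refine ⟨r, ?_, ?_⟩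
      · change (pullback.snd L m ≫ pullback.fst f' f') r ∈ U
        rw [Scheme.Hom.comp_apply, hr, hz1]; exact hu
      · rw [Scheme.Hom.comp_apply, hr, hz2]
    · rintro ⟨r, hr, rfl⟩
      refine ⟨_, hr, ?_⟩
      rw [← Scheme.Hom.comp_apply, ← Scheme.Hom.comp_apply, Category.assoc, Category.assoc,
        pullback.condition]
  rw [key]
  exact (pullback.snd L m ≫ pullback.snd f' f').isOpenMap _
    (hU.preimage (pullback.snd L m ≫ pullback.fst f' f').continuous)

end K957.UnivOpen
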