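import Groth.Agent.EqInt.K957.Bundle
import Groth.Agent.EqInt.K957.UnivOpen
import Mathlib.AlgebraicGeometry.Morphisms.SchemeTheoreticallyDominant

/-!
# fpqc descent of geometric quotients
-/

set_option autoImplicit false
universe u
open CategoryTheory CategoryTheory.Limits MonoidalCategory CartesianMonoidalCategory MonObj GrpObj AlgebraicGeometry

namespace K957.GeomDesc

theorem appLE_appLE {X Y Z : Scheme.{u}} (f : X ⟶ Y) (g : Y ⟶ Z) {h : X ⟶ Z} (hh : f ≫ g = h)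
    {U : Z.Opens} {V : Y.Opens} {W : X.Opens} (e₁ : V ≤ g ⁻¹ᵁ U) (e₂ : W ≤ f ⁻¹ᵁ V) (e₃ : W ≤ h ⁻¹ᵁ U)
    (x : Γ(Z, U)) : (f.appLE V W e₂).hom ((g.appLE U V e₁).hom x) = (h.appLE U W e₃).hom x := by
  subst hh
  have := Scheme.Hom.appLE_comp_appLE f g U V W e₁ e₂
  rw [← this]
  rfl

theorem isSchemeTheoreticallyDominant_iff {X Y : Scheme.{u}} (f : X ⟶ Y) [QuasiCompact f] :
    IsSchemeTheoreticallyDominant f ↔ ∀ U : Y.Opens, Function.Injective (f.app U) := by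
  constructor
  · intro h U
    exact f.app_injective U
  · intro h
    refine ⟨Scheme.IdealSheafData.ext (funext fun U => ?_)⟩
    rw [f.ker_apply]
    simpa [RingHom.injective_iff_ker_eq_bot] using (RingHom.injective_iff_ker_eq_bot _).1 (h U)

/-- universally submersive morphisms compose -/
theorem isUnivSubmersive_comp {X Y Z : Scheme.{u}} {f : X ⟶ Y} {g : Y ⟶ Z} (hf : GIT.IsUnivSubmersive f)
    (hg : GIT.IsUnivSubmersive g) : GIT.IsUnivSubmersive (f ≫ g) := by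
  intro X' Z' i₁ i₂ h H
  -- `H : IsPullback h i₁ i₂ (f ≫ g)`
  have h1 := IsPullback.of_hasPullback g i₂
  have h2 : IsPullback (pullback.lift (i₁ ≫ f) h (by rw [Category.assoc, H.w])) i₁ (pullback.fst g i₂) f := by
    have := IsPullback.of_right (h₁₂ := pullback.snd g i₂) (h₂₂ := g) (v₁₃ := i₂)
      (h₁₁ := pullback.lift (i₁ ≫ f) h (by rw [Category.assoc, H.w])) (h₂₁ := f) (v₁₁ := i₁)
      (v₁₂ := pullback.fst g i₂) (by rw [pullback.lift_snd]; exact H) (by rw [pullback.lift_fst])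
      h1.flip
    exact this
  have q1 := hf _ _ _ h2
  have q2 := hg _ _ _ h1.flip
  have e : pullback.lift (i₁ ≫ f) h (by rw [Category.assoc, H.w]) ≫ pullback.snd g i₂ = h :=
    pullback.lift_snd _ _ _
  have q3 : Topology.IsQuotientMap (pullback.lift (i₁ ≫ f) h (by rw [Category.assoc, H.w]) ≫
      pullback.snd g i₂) := q2.comp q1
  rwa [e] at q3

/-- right cancellation for universally submersive morphisms -/
theorem isUnivSubmersive_of_comp {X Y Z : Scheme.{u}} {f : X ⟶ Y} {g : Y ⟶ Z}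
    (hfg : GIT.IsUnivSubmersive (f ≫ g)) : GIT.IsUnivSubmersive g := by
  intro Y' Z' i₁ i₂ g' H
  -- `H : IsPullback g' i₁ i₂ g`
  have h2 := (IsPullback.of_hasPullback f i₁).flip.paste_horiz H
  have h3 := hfg _ _ _ h2
  exact Topology.IsQuotientMap.of_comp (pullback.snd f i₁).continuous g'.continuous h3

variable {S : Scheme.{u}} {G X Y X' Y' : Over S} [GrpObj G] {a : AlgGrp.Action G X} {φ : X ⟶ Y}
  {α : Y' ⟶ Y} {pr : X' ⟶ X} {φ' : X' ⟶ Y'} {a' : AlgGrp.Action G X'}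

theorem surjective_left [Surjective α.left] (hpb : IsPullback pr φ' φ α) (h : GIT.IsGeomQuot a' φ') :
    Function.Surjective φ.left.base := by
  intro y
  obtain ⟨y', rfl⟩ := α.left.surjective y
  obtain ⟨x', rfl⟩ := h.surj y'
  refine ⟨pr.left x', ?_⟩
  rw [← Scheme.Hom.comp_apply, ← Scheme.Hom.comp_apply, ← Over.comp_left, ← Over.comp_left, hpb.w]

omit [GrpObj G] in
theorem whisker_left_comm : (snd G X').left ≫ pr.left = (G ◁ pr).left ≫ (snd G X).left := by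
  rw [← Over.comp_left, ← Over.comp_left, whiskerLeft_snd]

theorem surjective_PsiY [Surjective α.left] (hpb : IsPullback pr φ' φ α)
    (heq : a'.act ≫ pr = (G ◁ pr) ≫ a.act) (hinv : GIT.IsInvariant a φ)
    (h : GIT.IsGeomQuot a' φ') :
    Function.Surjective (GIT.PsiY a φ hinv).base := by
  have H : IsPullback pr.left φ'.left φ.left α.left := hpb.map (Over.forget S)
  have h1 : Surjective pr.left := MorphismProperty.of_isPullback H.flip ‹_›
  have h2 : Surjective (UnivOpen.mapKer H.w) :=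
    MorphismProperty.of_isPullback (UnivOpen.isPullback_mapKer_fst H).flip h1
  intro z
  obtain ⟨z', rfl⟩ := (UnivOpen.mapKer H.w).surjective z
  obtain ⟨r, rfl⟩ := h.orbit z'
  refine ⟨(G ◁ pr).left r, ?_⟩
  have key : (G ◁ pr).left ≫ GIT.PsiY a φ hinv = GIT.PsiY a' φ' h.inv ≫ UnivOpen.mapKer H.w := ?_
  · change GIT.PsiY a φ hinv ((G ◁ pr).left r) = UnivOpen.mapKer H.w (GIT.PsiY a' φ' h.inv r)
    rw [← Scheme.Hom.comp_apply, ← Scheme.Hom.comp_apply, key]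
  apply pullback.hom_ext
  · rw [Category.assoc, Category.assoc, UnivOpen.mapKer_fst, Bundle.psiY_fst, ← Category.assoc,
      Bundle.psiY_fst, ← Over.comp_left, ← Over.comp_left, heq]
  · rw [Category.assoc, Category.assoc, UnivOpen.mapKer_snd, Bundle.psiY_snd, ← Category.assoc,
      Bundle.psiY_snd, whisker_left_comm]

theorem isUnivSubmersive_left [Flat α.left] [Surjective α.left] [QuasiCompact α.left]
    (hpb : IsPullback pr φ' φ α) (h : GIT.IsGeomQuot a' φ') : GIT.IsUnivSubmersive φ.left := by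
  have h1 := isUnivSubmersive_comp h.subm (Bundle.isUnivSubmersive α.left)
  have h2 : φ'.left ≫ α.left = pr.left ≫ φ.left := by
    rw [← Over.comp_left, ← Over.comp_left, hpb.w]
  rw [h2] at h1
  exact isUnivSubmersive_of_comp h1

theorem app_injective [Flat α.left] [Surjective α.left] [QuasiCompact α.left]
    (hpb : IsPullback pr φ' φ α) (h : GIT.IsGeomQuot a' φ') (U : Y.left.Opens) :
    Function.Injective (φ.left.app U) := by
  have e : φ'.left ≫ α.left = pr.left ≫ φ.left := by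
    rw [← Over.comp_left, ← Over.comp_left, hpb.w]
  have h2 : Surjective (α.left ∣_ U) := IsZariskiLocalAtTarget.restrict ‹_› U
  intro s t hst
  apply Sections.app_injective α.left U
  apply (h.sections (α.left ⁻¹ᵁ U)).1
  have e1 : φ'.left ⁻¹ᵁ (α.left ⁻¹ᵁ U) ≤ pr.left ⁻¹ᵁ (φ.left ⁻¹ᵁ U) := by
    change (φ'.left ≫ α.left) ⁻¹ᵁ U ≤ (pr.left ≫ φ.left) ⁻¹ᵁ U
    rw [e]
  have key : ∀ s, φ'.left.app (α.left ⁻¹ᵁ U) (α.left.app U s) =
      (pr.left.appLE (φ.left ⁻¹ᵁ U) (φ'.left ⁻¹ᵁ (α.left ⁻¹ᵁ U)) e1).hom (φ.left.app U s) := by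
    intro s
    rw [Scheme.Hom.app_eq_appLE, Scheme.Hom.app_eq_appLE, Scheme.Hom.app_eq_appLE]
    exact (appLE_appLE φ'.left α.left e le_rfl le_rfl (by exact e1) s).trans
      (appLE_appLE pr.left φ.left rfl le_rfl e1 (by exact e1) s).symm
  rw [key, key, hst]


theorem exists_of_isInvSection [Flat α.left] [Surjective α.left] [QuasiCompact α.left]
    [QuasiCompact φ.left]
    (hpb : IsPullback pr φ' φ α) (heq : a'.act ≫ pr = (G ◁ pr) ≫ a.act)
    (h : GIT.IsGeomQuot a' φ') (U : Y.left.Opens) (f : Γ(X.left, φ.left ⁻¹ᵁ U))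
    (hf : GIT.IsInvSection a φ U f) : ∃ s, φ.left.app U s = f := by
  have H : IsPullback pr.left φ'.left φ.left α.left := hpb.map (Over.forget S)
  have e : φ'.left ≫ α.left = pr.left ≫ φ.left := H.w.symm
  have hqc' : QuasiCompact φ'.left := MorphismProperty.of_isPullback H ‹_›
  have hfl : Flat pr.left := MorphismProperty.of_isPullback H.flip ‹_›
  have hsu : Surjective pr.left := MorphismProperty.of_isPullback H.flip ‹_›
  have hqc : QuasiCompact pr.left := MorphismProperty.of_isPullback H.flip ‹_›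
  have e1 : φ'.left ⁻¹ᵁ (α.left ⁻¹ᵁ U) ≤ pr.left ⁻¹ᵁ (φ.left ⁻¹ᵁ U) := by
    change (φ'.left ≫ α.left) ⁻¹ᵁ U ≤ (pr.left ≫ φ.left) ⁻¹ᵁ U
    rw [e]
  let f' : Γ(X'.left, φ'.left ⁻¹ᵁ (α.left ⁻¹ᵁ U)) :=
    (pr.left.appLE (φ.left ⁻¹ᵁ U) (φ'.left ⁻¹ᵁ (α.left ⁻¹ᵁ U)) e1).hom f
  -- `f'` is invariant
  have hf' : GIT.IsInvSection a' φ' (α.left ⁻¹ᵁ U) f' := by
    have w1 : a'.act.left ≫ pr.left = (G ◁ pr).left ≫ a.act.left := by
      rw [← Over.comp_left, ← Over.comp_left, heq]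
    have w2 : (snd G X').left ≫ pr.left = (G ◁ pr).left ≫ (snd G X).left := whisker_left_comm
    have l1 : a'.act.left ⁻¹ᵁ (φ'.left ⁻¹ᵁ (α.left ⁻¹ᵁ U)) ⊓
        (snd G X').left ⁻¹ᵁ (φ'.left ⁻¹ᵁ (α.left ⁻¹ᵁ U)) ≤
        (a'.act.left ≫ pr.left) ⁻¹ᵁ (φ.left ⁻¹ᵁ U) :=
      inf_le_left.trans (a'.act.left.preimage_mono e1)
    have l2 : a'.act.left ⁻¹ᵁ (φ'.left ⁻¹ᵁ (α.left ⁻¹ᵁ U)) ⊓
        (snd G X').left ⁻¹ᵁ (φ'.left ⁻¹ᵁ (α.left ⁻¹ᵁ U)) ≤
        ((snd G X').left ≫ pr.left) ⁻¹ᵁ (φ.left ⁻¹ᵁ U) :=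
      inf_le_right.trans ((snd G X').left.preimage_mono e1)
    have l3 : a'.act.left ⁻¹ᵁ (φ'.left ⁻¹ᵁ (α.left ⁻¹ᵁ U)) ⊓
        (snd G X').left ⁻¹ᵁ (φ'.left ⁻¹ᵁ (α.left ⁻¹ᵁ U)) ≤
        (G ◁ pr).left ⁻¹ᵁ (a.act.left ⁻¹ᵁ (φ.left ⁻¹ᵁ U) ⊓ (snd G X).left ⁻¹ᵁ (φ.left ⁻¹ᵁ U)) := by
      rw [Scheme.Hom.preimage_inf]
      refine le_inf ?_ ?_
      · rw [w1] at l1; exact l1
      · rw [w2] at l2; exact l2
    unfold GIT.IsInvSection at hf ⊢
    have a1 := appLE_appLE a'.act.left pr.left rfl e1 inf_le_left l1 f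
    have a2 := appLE_appLE (snd G X').left pr.left rfl e1 inf_le_right l2 f
    have b1 := appLE_appLE (G ◁ pr).left a.act.left w1.symm (U := φ.left ⁻¹ᵁ U)
      (V := a.act.left ⁻¹ᵁ (φ.left ⁻¹ᵁ U) ⊓ (snd G X).left ⁻¹ᵁ (φ.left ⁻¹ᵁ U))
      inf_le_left l3 l1 f
    have b2 := appLE_appLE (G ◁ pr).left (snd G X).left w2.symm (U := φ.left ⁻¹ᵁ U)
      (V := a.act.left ⁻¹ᵁ (φ.left ⁻¹ᵁ U) ⊓ (snd G X).left ⁻¹ᵁ (φ.left ⁻¹ᵁ U))
      inf_le_right l3 l2 f
    refine a1.trans (b1.symm.trans ?_)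
    refine Eq.trans ?_ (b2.trans a2.symm)
    exact congr(((G ◁ pr).left.appLE _ _ l3).hom $hf)
  obtain ⟨g, hg⟩ : f' ∈ Set.range (φ'.left.app (α.left ⁻¹ᵁ U)) := by
    rw [(h.sections (α.left ⁻¹ᵁ U)).2]; exact hf'
  -- descend `g` along `α`
  have hdom : IsSchemeTheoreticallyDominant φ'.left :=
    (isSchemeTheoreticallyDominant_iff φ'.left).2 fun V => (h.sections V).1
  have h2 : Surjective (α.left ∣_ U) := IsZariskiLocalAtTarget.restrict ‹_› U
  obtain ⟨s, hs⟩ := Sections.exists_app_eq α.left (IsPullback.of_hasPullback α.left α.left) U g (by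
    have K := UnivOpen.isPullback_mapKer_fst H.flip
    have hd2 : IsSchemeTheoreticallyDominant (UnivOpen.mapKer H.flip.w) :=
      IsSchemeTheoreticallyDominant.of_isPullback K.flip
    have hq2 : QuasiCompact (UnivOpen.mapKer H.flip.w) := MorphismProperty.of_isPullback K.flip ‹_›
    apply (UnivOpen.mapKer H.flip.w).app_injective
    rw [Scheme.Hom.app_eq_appLE]
    have m1 := UnivOpen.mapKer_fst H.flip.w
    have m2 := UnivOpen.mapKer_snd H.flip.w
    set m := UnivOpen.mapKer H.flip.w with hm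
    set p := pullback.fst α.left α.left
    set q := pullback.snd α.left α.left
    set W := p ⁻¹ᵁ (α.left ⁻¹ᵁ U) ⊓ q ⁻¹ᵁ (α.left ⁻¹ᵁ U)
    have l1 : m ⁻¹ᵁ W ≤ (pullback.fst pr.left pr.left ≫ φ'.left) ⁻¹ᵁ (α.left ⁻¹ᵁ U) := by
      rw [← m1]
      exact m.preimage_mono inf_le_left
    have l2 : m ⁻¹ᵁ W ≤ (pullback.snd pr.left pr.left ≫ φ'.left) ⁻¹ᵁ (α.left ⁻¹ᵁ U) := by
      rw [← m2]
      exact m.preimage_mono inf_le_right
    have a1 := appLE_appLE m p m1 (inf_le_left : W ≤ _) le_rfl l1 g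
    have a2 := appLE_appLE m q m2 (inf_le_right : W ≤ _) le_rfl l2 g
    refine a1.trans (Eq.trans ?_ a2.symm)
    have b1 := appLE_appLE (pullback.fst pr.left pr.left) φ'.left rfl le_rfl l1 l1 g
    have b2 := appLE_appLE (pullback.snd pr.left pr.left) φ'.left rfl le_rfl l2 l2 g
    rw [← b1, ← b2, ← Scheme.Hom.app_eq_appLE]
    have hg' : (φ'.left.app (α.left ⁻¹ᵁ U)).hom g = f' := hg
    rw [hg']
    have c : pullback.fst pr.left pr.left ≫ pr.left = pullback.snd pr.left pr.left ≫ pr.left :=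
      pullback.condition
    have l3 : m ⁻¹ᵁ W ≤ (pullback.fst pr.left pr.left ≫ pr.left) ⁻¹ᵁ (φ.left ⁻¹ᵁ U) :=
      le_trans l1 ((pullback.fst pr.left pr.left).preimage_mono e1)
    exact (appLE_appLE (pullback.fst pr.left pr.left) pr.left rfl e1 l1 l3 f).trans
      (appLE_appLE (pullback.snd pr.left pr.left) pr.left c.symm e1 l2 l3 f).symm)
  refine ⟨s, ?_⟩
  have h3 : Surjective (pr.left ∣_ (φ.left ⁻¹ᵁ U)) := IsZariskiLocalAtTarget.restrict ‹_› _
  apply Sections.app_injective pr.left (φ.left ⁻¹ᵁ U)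
  have e2 : pr.left ⁻¹ᵁ (φ.left ⁻¹ᵁ U) ≤ φ'.left ⁻¹ᵁ (α.left ⁻¹ᵁ U) := by
    change (pr.left ≫ φ.left) ⁻¹ᵁ U ≤ (φ'.left ≫ α.left) ⁻¹ᵁ U
    rw [e]
  have r1 := Scheme.Hom.appLE_map φ'.left (U := α.left ⁻¹ᵁ U) le_rfl (homOfLE e2).op
  have r2 := Scheme.Hom.appLE_map pr.left (U := φ.left ⁻¹ᵁ U) e1 (homOfLE e2).op
  have r3 := congr((X'.left.presheaf.map (homOfLE e2).op).hom $hg)
  have r4 : (φ'.left.appLE (α.left ⁻¹ᵁ U) (pr.left ⁻¹ᵁ (φ.left ⁻¹ᵁ U)) e2).hom g =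
      (pr.left.appLE (φ.left ⁻¹ᵁ U) (pr.left ⁻¹ᵁ (φ.left ⁻¹ᵁ U)) le_rfl).hom f := by
    rw [← r1, ← r2, ← Scheme.Hom.app_eq_appLE]
    exact r3
  rw [Scheme.Hom.app_eq_appLE pr.left]
  refine Eq.trans ?_ r4
  rw [← hs, Scheme.Hom.app_eq_appLE, Scheme.Hom.app_eq_appLE]
  exact (appLE_appLE pr.left φ.left rfl le_rfl le_rfl le_rfl s).trans
    (appLE_appLE φ'.left α.left e le_rfl e2 le_rfl s).symm

/-- fpqc descent of geometric quotients -/
theorem isGeomQuot [Flat α.left] [Surjective α.left] [QuasiCompact α.left] [QuasiCompact φ.left]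
    (hinv : GIT.IsInvariant a φ) (hpb : IsPullback pr φ' φ α) (heq : a'.act ≫ pr = (G ◁ pr) ≫ a.act)
    (h : GIT.IsGeomQuot a' φ') : GIT.IsGeomQuot a φ where
  inv := hinv
  surj := surjective_left hpb h
  orbit := surjective_PsiY hpb heq hinv h
  subm := isUnivSubmersive_left hpb h
  sections U := by
    refine ⟨app_injective hpb h U, Set.Subset.antisymm ?_ ?_⟩
    · rintro _ ⟨s, rfl⟩
      exact Bundle.isInvSection_app a φ hinv U s
    · intro f hf
      exact exists_of_isInvSection hpb heq h U f hf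

end K957.GeomDesc
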