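import Groth.Agent.EqInt.K957.Bundle
import Groth.Agent.EqInt.K957.BaseChange
import Groth.Agent.EqInt.K957.Restr
import Groth.Agent.GrpQ.H765.GlueProps
import Mathlib.AlgebraicGeometry.Noetherian

/-!
# Gluing of principal bundle quotients

`HasBundle a`: the action has a (quasi-compact) principal bundle quotient.
`HasBundle.glue`: this can be checked on an invariant open cover.
-/

set_option autoImplicit false
universe u
open CategoryTheory CategoryTheory.Limits MonoidalCategory CartesianMonoidalCategory MonObj GrpObj AlgebraicGeometry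

namespace K957.Glue

open Groth.Agent.GrpQ.H766.GeomQuotDef Groth.Agent.GrpQ.H765.Glue Groth.Agent.GrpQ.H765.GlueProps
open Groth.Agent.Grpsch.PtRestrict

variable {S : Scheme.{u}} {G Z : Over S} [GrpObj G]

/-- a quasi-compact principal bundle quotient exists -/
def HasBundle (a : AlgGrp.Action G Z) : Prop :=
  ∃ (Q : Over S) (ρ : Z ⟶ Q) (hρ : GIT.IsInvariant a ρ), QuasiCompact ρ.left ∧ Flat ρ.left ∧
    Surjective ρ.left ∧ IsIso (GIT.PsiY a ρ hρ)

variable (a : AlgGrp.Action G Z)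

/-- bundles are geometric quotients of the action groupoid -/
theorem isGeomQuot_of_bundle {Q : Over S} (ρ : Z ⟶ Q) (h : GIT.IsInvariant a ρ)
    (hc : IsIso (GIT.PsiY a ρ h)) [Flat ρ.left] [Surjective ρ.left] [QuasiCompact ρ.left] :
    Groth.Agent.GrpQ.H766.GeomQuotDef.IsGeomQuot (snd G Z).left a.act.left ρ.left where
  w := h.left
  isQuotientMap := Flat.isQuotientMap_of_surjective ρ.left
  rel x y hxy := by
    have H := Bundle.isPullback_left a ρ h hc
    obtain ⟨r, h1, h2⟩ := Scheme.exists_preimage_of_isPullback H x y hxy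
    exact ⟨r, h1, h2⟩
  inj W := by
    have h2 : Surjective (ρ.left ∣_ W) := IsZariskiLocalAtTarget.restrict ‹_› W
    exact Sections.app_injective ρ.left W
  sec W f hf := by
    have h2 : Surjective (ρ.left ∣_ W) := IsZariskiLocalAtTarget.restrict ‹_› W
    refine Sections.exists_app_eq ρ.left (Bundle.isPullback_left a ρ h hc) W f ?_
    rw [invSec_iff _ _ _ _ (a.act.left ⁻¹ᵁ (ρ.left ⁻¹ᵁ W) ⊓ (snd G Z).left ⁻¹ᵁ (ρ.left ⁻¹ᵁ W))
      (inf_comm _ _)] at hf
    exact hf.symm

/-- the local hypothesis in terms of bundles -/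
theorem locallyGood (h : ∀ z : Z.left, ∃ (V : Z.left.Opens)
    (hV : a.act.left ⁻¹ᵁ V = (snd G Z).left ⁻¹ᵁ V), z ∈ V ∧ HasBundle (Restr.restrict a V hV)) :
    LocallyGood (snd G Z).left a.act.left (fun V hV _ p' => QuasiCompact p' ∧ Flat p' ∧
      IsPullback (tRes (snd G Z).left a.act.left V hV) ((snd G Z).left ∣_ V) p' p') := by
  intro z
  obtain ⟨V, hV, hz, Q, ρ, hρ, h1, h2, h3, h4⟩ := h z
  have hq := isGeomQuot_of_bundle (Restr.restrict a V hV) ρ hρ h4
  refine ⟨V, hV.symm, Q.left, ρ.left, hz, ?_, h1, h2, ?_⟩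
  · refine hq.restrict (Restr.eR (G := G) V).hom (𝟙 _) (𝟙 _) _ _ _ ?_ ?_ ?_ ?_ ?_
    · rw [Restr.eR_snd, Category.comp_id]
    · rw [Restr.eR_act, Category.comp_id]
    · rw [Category.id_comp, Category.comp_id]
    · rw [Scheme.Hom.opensRange_of_isIso, Scheme.Hom.opensRange_of_isIso]
      rfl
    · rw [Scheme.Hom.opensRange_of_isIso, Scheme.Hom.opensRange_of_isIso]
      rfl
  · have H := Bundle.isPullback_left (Restr.restrict a V hV) ρ hρ h4
    refine IsPullback.of_iso H (Restr.eR (G := G) V).symm (Iso.refl _) (Iso.refl _) (Iso.refl _)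
      ?_ ?_ ?_ ?_
    · rw [Iso.symm_hom, Iso.eq_inv_comp, Iso.refl_hom, Category.comp_id, Restr.eR_act]
    · rw [Iso.symm_hom, Iso.eq_inv_comp, Iso.refl_hom, Category.comp_id, Restr.eR_snd]
    · simp
    · simp

/-- Principal bundle quotients glue. -/
theorem HasBundle.glue (h : ∀ z : Z.left, ∃ (V : Z.left.Opens)
    (hV : a.act.left ⁻¹ᵁ V = (snd G Z).left ⁻¹ᵁ V), z ∈ V ∧ HasBundle (Restr.restrict a V hV)) :
    HasBundle a := by
  have H := locallyGood a h
  obtain ⟨Y, p, hp⟩ := H.exists_isGeomQuot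
  have h1 : QuasiCompact p := of_local @QuasiCompact hp (fun x => by
    obtain ⟨V, hV, Y', p', hx, hp', hQ⟩ := H x
    exact ⟨V, hV, Y', p', hx, hp', hQ.1⟩)
  have h2 : Flat p := of_local @Flat hp (fun x => by
    obtain ⟨V, hV, Y', p', hx, hp', hQ⟩ := H x
    exact ⟨V, hV, Y', p', hx, hp', hQ.2.1⟩)
  have h3 : IsPullback a.act.left (snd G Z).left p p := isPullback_of_local hp (fun x => by
    obtain ⟨V, hV, Y', p', hx, hp', hQ⟩ := H x
    exact ⟨V, hV, Y', p', hx, hp', hQ.2.2⟩)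
  obtain ⟨q, hq, -⟩ := hp.existsUnique_desc Z.hom (by rw [Over.w, Over.w])
  let Q : Over S := Over.mk q
  let ρ : Z ⟶ Q := Over.homMk p hq
  have hρ : GIT.IsInvariant a ρ := Over.OverMorphism.ext hp.w
  exact ⟨Q, ρ, hρ, h1, h2, ⟨hp.surjective⟩, Bundle.isIso_PsiY a ρ hρ h3⟩

end K957.Glue
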