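import Groth.Agent.EqInt.K957.QSec
import Groth.Agent.Books.AlgPts
import Mathlib.AlgebraicGeometry.Noetherian

/-!
# Local isotriviality of torsors under affine groups over an algebraically closed field
-/

set_option autoImplicit false
universe u
open CategoryTheory CategoryTheory.Limits MonoidalCategory CartesianMonoidalCategory MonObj GrpObj AlgebraicGeometry

namespace K957.Isotriv

open K957.Pts K957.Restr K957.Invt K957.QSec Groth.Agent.Books.AlgPts

section trans

variable {S : Scheme.{u}} {G Γ Z : Over S} [GrpObj G] [GrpObj Γ] (u : G ⟶ Γ) [IsMonHom u]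

/-- right translation -/
noncomputable def rtr (c : 𝟙_ (Over S) ⟶ Γ) : Γ ⟶ Γ := 𝟙 Γ * (toUnit Γ ≫ c)

omit [GrpObj G] in
theorem comp_rtr (c : 𝟙_ (Over S) ⟶ Γ) {T : Over S} (x : T ⟶ Γ) : x ≫ rtr c = x * (toUnit T ≫ c) := by
  rw [rtr, MonObj.comp_mul, Category.comp_id, ← Category.assoc, toUnit_unique (x ≫ toUnit Γ) (toUnit T)]

theorem rtr_equivariant (c : 𝟙_ (Over S) ⟶ Γ) :
    AlgGrp.Action.IsEquivariant ((NonAbH1.trivialAction Γ).restrict u)
      ((NonAbH1.trivialAction Γ).restrict u) (rtr c) := by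
  apply isEquivariant_of_dot
  intro T g x
  have e : ∀ y : T ⟶ Γ, dot ((NonAbH1.trivialAction Γ).restrict u) g y = (g ≫ u) * y := by
    intro y
    rw [dot, AlgGrp.Action.lift_restrict_act]
    rfl
  rw [e, e, comp_rtr, comp_rtr, _root_.mul_assoc]

/-- translations of the quotient -/
theorem exists_trans {p : Γ ⟶ Z} (Hp : IsPullback ((u ▷ Γ) ≫ μ[Γ]) (snd G Γ) p p)
    [Flat p.left] [Surjective p.left] [QuasiCompact p.left] (c : 𝟙_ (Over S) ⟶ Γ) :
    ∃ β : Z ⟶ Z, IsPullback (rtr c) p p β :=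
  DescOver.exists_cartesian _ _ Hp Hp (rtr c) (rtr_equivariant u c)

end trans

variable {k : Type u} [Field k] [IsAlgClosed k] {G Γ Z : Over (Spec (CommRingCat.of k))} [GrpObj G]
  [GrpObj Γ] (u : G ⟶ Γ) [IsMonHom u]

theorem QS_quotient {p : Γ ⟶ Z} (Hp : IsPullback ((u ▷ Γ) ≫ μ[Γ]) (snd G Γ) p p)
    [Flat p.left] [Surjective p.left] [QuasiCompact p.left] [LocallyOfFinitePresentation p.left]
    [LocallyOfFiniteType Γ.hom] [LocallyOfFiniteType Z.hom] [CompactSpace Z.left]
    (z : Z.left) : QS p.left z := by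
  have : IsNoetherianRing (CommRingCat.of k) := inferInstanceAs (IsNoetherianRing k)
  have h1 : IsLocallyNoetherian Z.left := LocallyOfFiniteType.isLocallyNoetherian Z.hom
  have h2 := LocallyOfFiniteType.jacobsonSpace Z.hom
  obtain ⟨V, hV, hVQ⟩ := exists_dense (π := p.left)
  refine forall_of_closedPoints (QS.isOpen p.left) (fun z hz => ?_) z
  have hne : (V : Set Z.left).Nonempty := by
    have : Nonempty Z.left := ⟨z⟩
    exact hV.nonempty
  obtain ⟨z₀, hz₀⟩ := exists_pt_mem (X := Z) hne V.isOpen.isLocallyClosed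
  obtain ⟨z', rfl⟩ := exists_pt z hz
  obtain ⟨c₁, hc₁⟩ := exists_comp_eq_of_pt_mem_range p z' (p.left.surjective _)
  obtain ⟨c₀, hc₀⟩ := exists_comp_eq_of_pt_mem_range p z₀ (p.left.surjective _)
  obtain ⟨β, hβ⟩ := exists_trans u Hp (c₁⁻¹ * c₀)
  have e : z' ≫ β = z₀ := by
    rw [← hc₁, Category.assoc, ← hβ.w, ← Category.assoc, comp_rtr, ← hc₀]
    congr 1
    rw [toUnit_unique (toUnit (𝟙_ (Over (Spec (CommRingCat.of k))))) (𝟙 _), Category.id_comp,
      mul_inv_cancel_left]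
  apply QS.of_isPullback (isPullback_left hβ)
  apply hVQ
  rw [← pt_comp, e]
  exact hz₀

end K957.Isotriv
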