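import Groth.Agent.EqInt.K957.DescOver
import Groth.Agent.EqInt.K957.EquivGL2

/-!
# Principal bundles are locally pulled back from `GL_m ⟶ G \ GL_m`
-/

set_option autoImplicit false
universe u
open CategoryTheory CategoryTheory.Limits MonoidalCategory CartesianMonoidalCategory MonObj GrpObj AlgebraicGeometry

namespace K957.LocCart

open K957.Pts K957.Restr K957.Invt Groth.Agent.Sga3B.GLn

variable {S : Scheme.{u}} {G U B Z : Over S} [GrpObj G] (b : AlgGrp.Action G U) {π : U ⟶ B}
  (H : IsPullback b.act (snd G U) π π)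

omit [GrpObj G] in
theorem resOver_props (W : B.left.Opens) [Flat π.left] [Surjective π.left] [QuasiCompact π.left] :
    Flat (resOver π W).left ∧ Surjective (resOver π W).left ∧ QuasiCompact (resOver π W).left := by
  obtain ⟨h1, h2, h3⟩ := bundle_props (isPullback_resOver π W)
  exact ⟨h2, h3, h1⟩

/-- Locally on the base, principal bundles are pulled back from `GL_m ⟶ G \ GL_m`. -/
theorem exists_local_cart {m : Type u} [Fintype m] [DecidableEq m] (i : G ⟶ GLS m S) [IsMonHom i]
    {p : GLS m S ⟶ Z} (Hp : IsPullback ((i ▷ GLS m S) ≫ μ[GLS m S]) (snd G (GLS m S)) p p)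
    [Flat π.left] [Surjective π.left] [IsAffineHom π.left] (y : B.left) :
    ∃ (W : B.left.Opens) (_ : y ∈ W) (δ : XU (π.left ⁻¹ᵁ W) ⟶ GLS m S) (f : XU W ⟶ Z),
      IsPullback δ (resOver π W) p f ∧
      AlgGrp.Action.IsEquivariant (Restr.restrict b _ (preimage_inv b H.w W))
        ((NonAbH1.trivialAction (GLS m S)).restrict i) δ := by
  obtain ⟨W, hy, δ, hδ⟩ := EquivGL.exists_equivariant b H i y
  obtain ⟨h1, h2, h3⟩ := resOver_props (π := π) W
  have hδ' : AlgGrp.Action.IsEquivariant (Restr.restrict b _ (preimage_inv b H.w W))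
        ((NonAbH1.trivialAction (GLS m S)).restrict i) δ := by
    apply isEquivariant_of_dot
    intro T g x
    rw [hδ, dot, AlgGrp.Action.lift_restrict_act]
    rfl
  obtain ⟨f, hf⟩ := DescOver.exists_cartesian (Restr.restrict b _ (preimage_inv b H.w W))
    ((NonAbH1.trivialAction (GLS m S)).restrict i) (DescOver.isPullback_resOver_act b H W) Hp δ hδ'
  exact ⟨W, hy, δ, f, hf, hδ'⟩

end K957.LocCart
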