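import Mathlib.RingTheory.Flat.Basic
import Mathlib.RingTheory.TensorProduct.Basic
import Mathlib.RingTheory.TensorProduct.Maps
import Mathlib.LinearAlgebra.TensorProduct.Pi
import Mathlib.LinearAlgebra.Basis.VectorSpace
import Mathlib.LinearAlgebra.Matrix.NonsingularInverse
import Mathlib.LinearAlgebra.Matrix.Basis
import Mathlib.LinearAlgebra.Determinant
import Mathlib.RingTheory.LocalRing.ResidueField.Ideal
import Mathlib.LinearAlgebra.Dimension.Constructions

/-!
# Descent of matrix cocycles (`GL_n`-torsors are Zariski-locally trivial), algebraic part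
-/

set_option autoImplicit false
universe u
open TensorProduct

namespace K957.MatDesc

variable {R C : Type u} [CommRing R] [CommRing C] [Algebra R C] {ι : Type*} [Fintype ι] [DecidableEq ι]

/-- evaluation of a matrix over `C ⊗ C` at a pair of points -/
noncomputable def ev {T : Type u} [CommRing T] [Algebra R T] (x y : C →ₐ[R] T)
    (Φ : Matrix ι ι (C ⊗[R] C)) : Matrix ι ι T :=
  (Algebra.TensorProduct.productMap x y).toRingHom.mapMatrix Φ

omit [Fintype ι] [DecidableEq ι] in
theorem ev_apply [Fintype ι] [DecidableEq ι] {T : Type u} [CommRing T] [Algebra R T] (x y : C →ₐ[R] T)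
    (Φ : Matrix ι ι (C ⊗[R] C)) (i j : ι) : ev x y Φ i j = Algebra.TensorProduct.productMap x y (Φ i j) := rfl

variable (Φ : Matrix ι ι (C ⊗[R] C))

omit [DecidableEq ι] in
/-- `m ↦ m ⊗ 1 - Φ (1 ⊗ m)` -/
noncomputable def f : (ι → C) →ₗ[R] (ι → C ⊗[R] C) :=
  LinearMap.pi fun i => (Algebra.TensorProduct.includeLeft (S := R) (R := R) (A := C) (B := C)).toLinearMap ∘ₗ
    LinearMap.proj i - ∑ j, LinearMap.mulLeft R (Φ i j) ∘ₗ
      (Algebra.TensorProduct.includeRight (R := R) (A := C) (B := C)).toLinearMap ∘ₗ LinearMap.proj j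

omit [DecidableEq ι] in
theorem f_apply (m : ι → C) (i : ι) : f Φ m i = m i ⊗ₜ 1 - ∑ j, Φ i j * (1 ⊗ₜ m j) := by
  simp [f]

omit [DecidableEq ι] in
/-- The equivariant vectors. -/
noncomputable def N : Submodule R (ι → C) := LinearMap.ker (f Φ)

omit [DecidableEq ι] in
theorem mem_N (m : ι → C) : m ∈ N Φ ↔ ∀ i, m i ⊗ₜ[R] (1 : C) = ∑ j, Φ i j * (1 ⊗ₜ m j) := by
  rw [N, LinearMap.mem_ker, funext_iff]
  exact forall_congr' fun i => by rw [f_apply, Pi.zero_apply, sub_eq_zero]

/-- three points -/
noncomputable abbrev T3 (R C : Type u) [CommRing R] [CommRing C] [Algebra R C] : Type u := C ⊗[R] (C ⊗[R] C)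

noncomputable def pz : C →ₐ[R] T3 R C := Algebra.TensorProduct.includeLeft
noncomputable def px : C →ₐ[R] T3 R C :=
  (Algebra.TensorProduct.includeRight).comp (Algebra.TensorProduct.includeLeft)
noncomputable def py : C →ₐ[R] T3 R C :=
  (Algebra.TensorProduct.includeRight).comp (Algebra.TensorProduct.includeRight)

theorem productMap_px_py (t : C ⊗[R] C) :
    Algebra.TensorProduct.productMap (px (R := R) (C := C)) py t = 1 ⊗ₜ t := by
  induction t with
  | zero => simp
  | add a b ha hb => rw [map_add, ha, hb, tmul_add]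
  | tmul a b => simp [px, py]

theorem lTensor_inl_comm (t : C ⊗[R] C) : Algebra.TensorProduct.map (AlgHom.id R C)
    (Algebra.TensorProduct.includeLeft (R := R) (S := R) (A := C) (B := C)) (Algebra.TensorProduct.comm R C C t) =
      Algebra.TensorProduct.productMap px pz t := by
  induction t with
  | zero => simp
  | add a b ha hb => rw [map_add, map_add, ha, hb, map_add]
  | tmul a b => simp [px, pz]

theorem lTensor_inr_comm (t : C ⊗[R] C) : Algebra.TensorProduct.map (AlgHom.id R C)
    (Algebra.TensorProduct.includeRight (R := R) (A := C) (B := C)) (Algebra.TensorProduct.comm R C C t) =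
      Algebra.TensorProduct.productMap py pz t := by
  induction t with
  | zero => simp
  | add a b ha hb => rw [map_add, map_add, ha, hb, map_add]
  | tmul a b => simp [py, pz]

/-- components of `(id ⊗ f) v` -/
theorem lTensor_f (v : C ⊗[R] (ι → C)) (i : ι) :
    piRight R R C (fun _ : ι => C ⊗[R] C) ((f Φ).lTensor C v) i =
      Algebra.TensorProduct.map (AlgHom.id R C) (Algebra.TensorProduct.includeLeft (R := R) (S := R) (A := C) (B := C))
        (piRight R R C (fun _ : ι => C) v i) -
      ∑ j, ((1 : C) ⊗ₜ Φ i j) * Algebra.TensorProduct.map (AlgHom.id R C)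
        (Algebra.TensorProduct.includeRight (R := R) (A := C) (B := C)) (piRight R R C (fun _ : ι => C) v j) := by
  induction v with
  | zero => simp
  | add a b ha hb =>
    simp only [map_add, Pi.add_apply, ha, hb, mul_add, Finset.sum_add_distrib]
    abel
  | tmul c m =>
    rw [LinearMap.lTensor_tmul, piRight_apply, piRightHom_tmul, piRight_apply, piRightHom_tmul]
    simp only [f_apply, tmul_sub, Algebra.TensorProduct.map_tmul, AlgHom.id_apply,
      Algebra.TensorProduct.includeLeft_apply, Algebra.TensorProduct.includeRight_apply,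
      Algebra.TensorProduct.tmul_mul_tmul, one_mul, tmul_sum]

/-- multiplication `C ⊗ (ι → C) → (ι → C)` -/
noncomputable def mult : C ⊗[R] (ι → C) →ₗ[R] (ι → C) :=
  LinearMap.pi fun i => (LinearMap.mul' R C) ∘ₗ LinearMap.proj i ∘ₗ
    (piRight R R C (fun _ : ι => C)).toLinearMap

omit [Fintype ι] in
theorem mult_tmul [Fintype ι] (c : C) (m : ι → C) : mult (R := R) (c ⊗ₜ m) = c • m := by
  ext i
  simp [mult, piRight_apply]

theorem mult_mem (w : C ⊗[R] N Φ) : mult ((N Φ).subtype.lTensor C w) ∈
    Submodule.span C (N Φ : Set (ι → C)) := by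
  induction w with
  | zero => simp
  | add a b ha hb => rw [map_add, map_add]; exact Submodule.add_mem _ ha hb
  | tmul c m =>
    rw [LinearMap.lTensor_tmul, mult_tmul]
    exact Submodule.smul_mem _ _ (Submodule.subset_span m.2)

/-- The equivariant vectors span `C ^ n`. -/
theorem span_N [Module.Flat R C]
    (h1 : ev (AlgHom.id R C) (AlgHom.id R C) Φ = 1)
    (h2 : ∀ (T : Type u) [CommRing T] [Algebra R T] (x y z : C →ₐ[R] T), ev x y Φ * ev y z Φ = ev x z Φ) :
    Submodule.span C (N Φ : Set (ι → C)) = ⊤ := by
  rw [eq_top_iff]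
  intro y _
  let v : C ⊗[R] (ι → C) := (piRight R R C (fun _ : ι => C)).symm
    (fun i => ∑ j, Algebra.TensorProduct.comm R C C (Φ i j) * (y j ⊗ₜ 1))
  have hv : piRight R R C (fun _ : ι => C) v =
      (fun i => ∑ j, Algebra.TensorProduct.comm R C C (Φ i j) * (y j ⊗ₜ 1)) :=
    LinearEquiv.apply_symm_apply _ _
  have hfv : (f Φ).lTensor C v = 0 := by
    apply (piRight R R C (fun _ : ι => C ⊗[R] C)).injective
    rw [map_zero]
    ext i
    rw [lTensor_f, hv, Pi.zero_apply, sub_eq_zero]
    simp only [map_sum, map_mul, Algebra.TensorProduct.map_tmul, AlgHom.id_apply, map_one, Finset.mul_sum,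
      lTensor_inl_comm, lTensor_inr_comm]
    have h3 := h2 (T3 R C) px py pz
    have h4 : ∀ i l, ∑ j, (1 : C) ⊗ₜ[R] Φ i j * Algebra.TensorProduct.productMap py pz (Φ j l) =
        Algebra.TensorProduct.productMap px pz (Φ i l) := by
      intro i l
      have := congrFun (congrFun h3 i) l
      rw [Matrix.mul_apply] at this
      simp only [ev_apply, productMap_px_py] at this
      exact this
    rw [Finset.sum_comm]
    refine Finset.sum_congr rfl fun l _ => ?_
    rw [← h4 i l, Finset.sum_mul]
    refine Finset.sum_congr rfl fun j _ => ?_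
    rw [mul_assoc]
  have hex := Module.Flat.lTensor_exact (R := R) C (LinearMap.exact_subtype_ker_map (f Φ))
  obtain ⟨w, hw⟩ := (hex v).mp hfv
  have hmult : mult v = y := by
    ext i
    simp only [mult, LinearMap.pi_apply, LinearMap.comp_apply, LinearMap.proj_apply, LinearEquiv.coe_coe, hv,
      map_sum]
    have h3 : ∀ t : C ⊗[R] C, LinearMap.mul' R C (Algebra.TensorProduct.comm R C C t) =
        Algebra.TensorProduct.productMap (AlgHom.id R C) (AlgHom.id R C) t := by
      intro t
      induction t with
      | zero => simp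
      | add a b ha hb => simp only [map_add, ha, hb]
      | tmul a b => simp [mul_comm]
    have h4 : ∀ (t : C ⊗[R] C) (c : C), LinearMap.mul' R C (t * (c ⊗ₜ 1)) = LinearMap.mul' R C t * c := by
      intro t c
      induction t with
      | zero => simp
      | add a b ha hb => rw [add_mul, map_add, ha, hb, map_add, add_mul]
      | tmul a b => simp [mul_right_comm]
    simp only [h4, h3]
    have h5 : ∀ i j, Algebra.TensorProduct.productMap (AlgHom.id R C) (AlgHom.id R C) (Φ i j) =
        (1 : Matrix ι ι C) i j := fun i j => congrFun (congrFun h1 i) j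
    simp only [h5]
    have := congrFun (Matrix.one_mulVec y) i
    rw [Matrix.mulVec, dotProduct] at this
    exact this
  rw [← hmult, ← hw]
  exact mult_mem Φ w

/-- an equivariant matrix which is invertible at a given prime -/
theorem exists_matrix [Module.Flat R C]
    (h1 : ev (AlgHom.id R C) (AlgHom.id R C) Φ = 1)
    (h2 : ∀ (T : Type u) [CommRing T] [Algebra R T] (x y z : C →ₐ[R] T), ev x y Φ * ev y z Φ = ev x z Φ)
    (q : Ideal C) [q.IsPrime] : ∃ M : Matrix ι ι C, M.det ∉ q ∧
      (Algebra.TensorProduct.includeLeft (R := R) (S := R) (A := C) (B := C)).toRingHom.mapMatrix M =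
        Φ * (Algebra.TensorProduct.includeRight (R := R) (A := C) (B := C)).toRingHom.mapMatrix M := by
  let κ := q.ResidueField
  let ρ : (ι → C) →ₛₗ[algebraMap C κ] (ι → κ) :=
    { toFun := fun m i => algebraMap C κ (m i)
      map_add' := fun a b => by ext i; simp
      map_smul' := fun a b => by ext i; simp }
  let s : Set (ι → κ) := ρ '' (N Φ : Set (ι → C))
  have hs : ⊤ ≤ Submodule.span κ s := by
    have h3 : ∀ m : ι → C, ρ m ∈ Submodule.span κ s := by
      intro m
      have hm : m ∈ Submodule.span C (N Φ : Set (ι → C)) := by rw [span_N Φ h1 h2]; trivial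
      induction hm using Submodule.span_induction with
      | mem x hx => exact Submodule.subset_span ⟨x, hx, rfl⟩
      | zero => rw [map_zero]; exact Submodule.zero_mem _
      | add x y _ _ hx hy => rw [map_add]; exact Submodule.add_mem _ hx hy
      | smul c x _ hx =>
        rw [LinearMap.map_smulₛₗ]
        exact Submodule.smul_mem _ _ hx
    have h4 : ∀ i : ι, (Pi.single i 1 : ι → κ) ∈ Submodule.span κ s := by
      intro i
      have := h3 (Pi.single i 1)
      have e : ρ (Pi.single i 1) = (Pi.single i 1 : ι → κ) := by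
        ext j
        change algebraMap C κ ((Pi.single i 1 : ι → C) j) = _
        by_cases hij : j = i
        · subst hij; simp
        · simp [Pi.single_eq_of_ne hij]
      rwa [e] at this
    intro x _
    have : x = ∑ i, x i • (Pi.single i 1 : ι → κ) := by
      ext j
      simp [Finset.sum_apply, Pi.single_apply]
    rw [this]
    exact Submodule.sum_mem _ fun i _ => Submodule.smul_mem _ _ (h4 i)
  let b := Module.Basis.ofSpan hs
  have hfin : Module.Finite κ (ι → κ) := inferInstance
  have hfd := Module.Finite.finite_basis b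
  let e := b.indexEquiv (Pi.basisFun κ ι)
  let b' := b.reindex e
  have hb' : ∀ i, ∃ m ∈ N Φ, ρ m = b' i := by
    intro i
    have : b' i ∈ s := by
      rw [Module.Basis.reindex_apply]
      exact Module.Basis.ofSpan_subset hs ⟨_, rfl⟩
    exact this
  choose m hm hρm using hb'
  refine ⟨Matrix.of fun i j => m j i, ?_, ?_⟩
  · intro hdet
    have h5 : (Pi.basisFun κ ι).det b' ≠ 0 := by
      have := (Pi.basisFun κ ι).isUnit_det b'
      exact this.ne_zero
    apply h5
    rw [Module.Basis.det_apply]
    have h6 : (Pi.basisFun κ ι).toMatrix b' = (algebraMap C κ).mapMatrix (Matrix.of fun i j => m j i) := by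
      ext i j
      rw [Module.Basis.toMatrix_apply, Pi.basisFun_repr, ← hρm]
      rfl
    rw [h6, ← RingHom.map_det]
    exact Ideal.algebraMap_residueField_eq_zero.mpr hdet
  · ext i j
    rw [Matrix.mul_apply]
    have := (mem_N Φ (m j)).mp (hm j) i
    exact this

end K957.MatDesc
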