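import Groth.Agent.EqInt.K957.SubSep

/-!
# The orbit map of a homogeneous space
-/

set_option autoImplicit false
universe u
open CategoryTheory CategoryTheory.Limits MonoidalCategory CartesianMonoidalCategory MonObj GrpObj AlgebraicGeometry

namespace K957.Orb

open K957.Pts K957.Glue K957.Restr K957.Invt K957.BundleQS K957.SubBundle

/-- flatness can be checked on a jointly surjective flat family over the source -/
theorem flat_of_cover {X Y : Scheme.{u}} (f : X ⟶ Y)
    (h : ∀ x : X, ∃ (W : Scheme.{u}) (g : W ⟶ X), Flat g ∧ x ∈ Set.range g ∧ Flat (g ≫ f)) : Flat f := by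
  choose W g h1 h2 h3 using h
  have e1 : Surjective (Sigma.desc g) := by
    constructor
    intro x
    obtain ⟨w, hw⟩ := h2 x
    refine ⟨Sigma.ι W x w, ?_⟩
    rw [← Scheme.Hom.comp_apply, Sigma.ι_desc, hw]
  have e2 : Sigma.desc g ≫ f = Sigma.desc (fun x => g x ≫ f) := by
    apply Sigma.hom_ext
    intro x
    rw [Sigma.ι_desc_assoc, Sigma.ι_desc]
  have e3 : Flat (Sigma.desc g ≫ f) := by rw [e2]; infer_instance
  exact Groth.Agent.Sga3C.FlatOfComp.flat_of_comp (Sigma.desc g) f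

theorem exists_mem {Q : Scheme.{u}} {R : Presieve Q} (hR : R ∈ Scheme.fppfPrecoverage Q) (q : Q) :
    ∃ (Y : Scheme.{u}) (f : Y ⟶ Q), R f ∧ Flat f ∧ LocallyOfFinitePresentation f ∧ q ∈ Set.range f := by
  obtain ⟨Y, f, hf, hq⟩ := (Presieve.mem_comap_jointlySurjectivePrecoverage_iff Scheme.forget).mp hR.1 q
  have := hR.2 hf
  exact ⟨Y, f, hf, this.1, this.2, hq⟩

variable {S : Scheme.{u}} {G H Q : Over S} [GrpObj G] [GrpObj H] {i : H ⟶ G}
  {aQ : AlgGrp.Action G Q} {q₀ : 𝟙_ (Over S) ⟶ Q}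

theorem surjective_orb (hQ : ChGrp.IsHomog Scheme.fppfPrecoverage i aQ q₀) :
    Surjective (aQ.orbitMap q₀).left := by
  obtain ⟨R, hR, hsec⟩ := hQ.2.2
  constructor
  intro q
  obtain ⟨Y, f, hf, -, -, y, hy⟩ := exists_mem hR q
  obtain ⟨s, hs⟩ := hsec f hf
  refine ⟨s y, ?_⟩
  rw [← hy, ← Scheme.Hom.comp_apply]
  exact congrArg (fun g : Y ⟶ Q.left => g y) hs

theorem flat_orb (hQ : ChGrp.IsHomog Scheme.fppfPrecoverage i aQ q₀) [Flat H.hom] :
    Flat (aQ.orbitMap q₀).left := by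
  obtain ⟨R, hR, hsec⟩ := hQ.2.2
  refine flat_of_cover _ fun x => ?_
  obtain ⟨Y, f, hf, hf1, -, y, hy⟩ := exists_mem hR ((aQ.orbitMap q₀).left x)
  obtain ⟨s, hs⟩ := hsec f hf
  have hs' : s ≫ (aQ.orbitMap q₀).left = f := hs
  have h1 : IsPullback (fst G H).left ((G ◁ i) ≫ μ[G]).left (aQ.orbitMap q₀).left
    (aQ.orbitMap q₀).left := hQ.2.1.map (Over.forget S)
  have h2 := (IsPullback.of_hasPullback (fst G H).left s).paste_horiz h1.flip
  rw [hs'] at h2
  obtain ⟨w, hw, -⟩ := Scheme.exists_preimage_of_isPullback h2 x y hy.symm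
  have h3 : Flat (fst G H).left := MorphismProperty.pullback_fst (P := @Flat) _ _ ‹_›
  have h4 : Flat (pullback.snd (fst G H).left s) := inferInstance
  refine ⟨_, _, MorphismProperty.of_isPullback (P := @Flat) h2.flip hf1, ⟨w, hw⟩, ?_⟩
  rw [h2.w]
  infer_instance

theorem isPullback_orb (hQ : ChGrp.IsHomog Scheme.fppfPrecoverage i aQ q₀) [IsMonHom i] :
    IsPullback ((AlgGrp.Action.invRight G).restrict i).act (snd H G) (aQ.orbitMap q₀)
      (aQ.orbitMap q₀) := by
  have e1 : ∀ (T : Over S) (h : T ⟶ H) (x : T ⟶ G),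
      dot ((AlgGrp.Action.invRight G).restrict i) h x = x * (h ≫ i)⁻¹ := by
    intro T h x
    rw [dot_restrict, dot, AlgGrp.Action.lift_invRight_act]
  have e2 : ∀ (T : Over S) (g : T ⟶ G) (h : T ⟶ H), lift g h ≫ (G ◁ i) ≫ μ[G] = g * (h ≫ i) := by
    intro T g h
    rw [← Category.assoc, lift_whiskerLeft, ← Hom.mul_def]
  have Hs := hQ.2.1
  refine isPullback_of_pts _ (isInvariant_of_dot _ ?_) ?_ ?_
  · intro T h x
    rw [e1]
    have := lift (x * (h ≫ i)⁻¹) h ≫= Hs.w
    rw [← Category.assoc, lift_fst, ← Category.assoc, e2, inv_mul_cancel_right] at this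
    exact this
  · intro T x y hxy
    refine ⟨Hs.lift x y hxy ≫ snd G H, ?_⟩
    rw [e1]
    have h1 := Hs.lift_fst x y hxy
    have h2 := Hs.lift_snd x y hxy
    have h3 : Hs.lift x y hxy = lift x (Hs.lift x y hxy ≫ snd G H) := by
      apply CartesianMonoidalCategory.hom_ext
      · rw [h1, lift_fst]
      · rw [lift_snd]
    rw [h3, e2] at h2
    rw [eq_comm, eq_mul_inv_iff_mul_eq]
    exact h2
  · intro T h h' y hh
    rw [e1, e1, mul_right_inj, inv_inj] at hh
    have : lift (1 : T ⟶ G) h = lift (1 : T ⟶ G) h' := by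
      apply Hs.hom_ext
      · rw [lift_fst, lift_fst]
      · rw [e2, e2, hh]
    have := this =≫ snd G H
    rwa [lift_snd, lift_snd] at this

end K957.Orb
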