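import Groth.Agent.EqInt.K957.LocCart
import Groth.Agent.S2735
import Groth.Agent.FlatA.FiniteDenseOpen
import Groth.Prelude.Def_Mor2

/-!
# Finite locally free quasi-sections
-/

set_option autoImplicit false
universe u
open CategoryTheory CategoryTheory.Limits MonoidalCategory CartesianMonoidalCategory MonObj GrpObj AlgebraicGeometry

namespace K957.QSec

open K957.Pts K957.Restr K957.Invt

/-- near `y` the morphism `π` has a finite locally free quasi-section -/
def QS {U B : Scheme.{u}} (π : U ⟶ B) (y : B) : Prop :=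
  ∃ (W T : Scheme.{u}) (j : W ⟶ B) (f : T ⟶ W) (s : T ⟶ U), IsOpenImmersion j ∧ y ∈ Set.range j ∧
    Mor2.IsFinLocFree f ∧ Surjective f ∧ s ≫ π = f ≫ j

variable {U B U' B' : Scheme.{u}} {π : U ⟶ B} {π' : U' ⟶ B'}

theorem QS.of_isPullback {F : U ⟶ U'} {f : B ⟶ B'} (H : IsPullback F π π' f) {y : B}
    (h : QS π' (f y)) : QS π y := by
  obtain ⟨W, T, j, g, s, hj, hy, ⟨hg1, hg2, hg3⟩, hg, hs⟩ := h
  have H1 : IsPullback (pullback.fst f j) (pullback.snd f j) f j := IsPullback.of_hasPullback _ _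
  have H2 : IsPullback (pullback.fst (pullback.snd f j) g) (pullback.snd (pullback.snd f j) g)
    (pullback.snd f j) g := IsPullback.of_hasPullback _ _
  refine ⟨pullback f j, pullback (pullback.snd f j) g, pullback.fst f j,
    pullback.fst (pullback.snd f j) g, H.lift (pullback.snd (pullback.snd f j) g ≫ s)
      (pullback.fst (pullback.snd f j) g ≫ pullback.fst f j) ?_, inferInstance, ?_, ⟨?_, ?_, ?_⟩, ?_, ?_⟩
  · rw [Category.assoc, hs, ← H2.w_assoc, Category.assoc, H1.w]
  · obtain ⟨w, hw⟩ := hy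
    obtain ⟨z, hz, -⟩ := Scheme.exists_preimage_of_isPullback H1 y w hw.symm
    exact ⟨z, hz⟩
  · exact MorphismProperty.of_isPullback (P := @IsFinite) H2.flip hg1
  · exact MorphismProperty.of_isPullback (P := @Flat) H2.flip hg2
  · exact MorphismProperty.of_isPullback (P := @LocallyOfFinitePresentation) H2.flip hg3
  · exact MorphismProperty.of_isPullback (P := @Surjective) H2.flip hg
  · exact H.lift_snd _ _ _

/-- transport along a commutative square over an open immersion of bases -/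
theorem QS.map {α : U ⟶ U'} {β : B ⟶ B'} [IsOpenImmersion β] (w : α ≫ π' = π ≫ β) {y : B}
    (h : QS π y) : QS π' (β y) := by
  obtain ⟨W, T, j, g, s, hj, ⟨z, rfl⟩, hg1, hg, hs⟩ := h
  exact ⟨W, T, j ≫ β, g, s ≫ α, inferInstance, ⟨z, rfl⟩, hg1, hg, by
    rw [Category.assoc, w, reassoc_of% hs]⟩

theorem QS.isOpen (π : U ⟶ B) : IsOpen {y | QS π y} := by
  rw [isOpen_iff_forall_mem_open]
  rintro y ⟨W, T, j, g, s, hj, hy, hg1, hg, hs⟩
  exact ⟨Set.range j, fun z hz => ⟨W, T, j, g, s, hj, hz, hg1, hg, hs⟩, j.isOpenEmbedding.isOpen_range, hy⟩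

/-- quasi-sections exist over a dense open -/
theorem exists_dense [IsLocallyNoetherian B] [CompactSpace B] [Flat π] [LocallyOfFinitePresentation π]
    [Surjective π] : ∃ V : B.Opens, Dense (V : Set B) ∧ ∀ y ∈ V, QS π y := by
  obtain ⟨T, g, s, hs, h1, h2, h3, h4, h5⟩ := Groth.Agent.S2735.result π
  have hT := h5 inferInstance
  have hB : IsNoetherian B := ⟨⟩
  have : QuasiCompact g := inferInstance
  obtain ⟨V, hV, hfin⟩ := Groth.Agent.FlatA.FiniteDenseOpen.exists_dense_isFinite g
  refine ⟨V, hV, fun y hy => ⟨V, _, V.ι, g ∣_ V, (g ⁻¹ᵁ V).ι ≫ s, inferInstance, ?_, ⟨hfin, ?_, ?_⟩, ?_, ?_⟩⟩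
  · rw [Scheme.Opens.range_ι]; exact hy
  · exact IsZariskiLocalAtTarget.restrict h1 V
  · exact IsZariskiLocalAtTarget.restrict h2 V
  · exact IsZariskiLocalAtTarget.restrict h4 V
  · rw [Category.assoc, hs, morphismRestrict_ι]

/-- a property open on a Jacobson space and valid at closed points is valid everywhere -/
theorem forall_of_closedPoints {X : Type*} [TopologicalSpace X] [JacobsonSpace X] {P : X → Prop}
    (hP : IsOpen {x | P x}) (h : ∀ x, IsClosed {x} → P x) (x : X) : P x := by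
  by_contra hx
  have h1 : ({x | P x}ᶜ).Nonempty := ⟨x, hx⟩
  obtain ⟨z, hz, hz'⟩ := (JacobsonSpace.closure_inter_closedPoints (Z := {x | P x}ᶜ) hP.isClosed_compl ▸
    closure_nonempty_iff (s := {x | P x}ᶜ ∩ closedPoints X)).mp h1
  exact hz (h z hz')

end K957.QSec
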