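import Mathlib.AlgebraicGeometry.Sites.Fpqc
import Mathlib.AlgebraicGeometry.Morphisms.Flat
import Mathlib.AlgebraicGeometry.Restrict

/-!
# Descent of sections of the structure sheaf along effective epimorphisms
-/

set_option autoImplicit false
universe u
open CategoryTheory CategoryTheory.Limits AlgebraicGeometry TopologicalSpace

namespace K957.Sections

/-- the polynomial ring used to represent global sections -/
noncomputable abbrev R₀ : CommRingCat.{u} := CommRingCat.of (Polynomial (ULift.{u} ℤ))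

/-- the ring map `ℤ[T] → A`, `T ↦ t` -/
noncomputable def evT {A : CommRingCat.{u}} (t : A) : R₀.{u} ⟶ A :=
  CommRingCat.ofHom (Polynomial.eval₂RingHom ((Int.castRingHom A).comp ULift.ringEquiv.toRingHom) t)

theorem evT_X {A : CommRingCat.{u}} (t : A) : (evT t).hom Polynomial.X = t := by
  simp [evT]

theorem evT_ext {A : CommRingCat.{u}} {f g : R₀.{u} ⟶ A} (h : f.hom Polynomial.X = g.hom Polynomial.X) :
    f = g := by
  apply CommRingCat.hom_ext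
  apply Polynomial.ringHom_ext'
  · have : (f.hom.comp Polynomial.C).comp (ULift.ringEquiv (R := ℤ)).symm.toRingHom =
      (g.hom.comp Polynomial.C).comp (ULift.ringEquiv (R := ℤ)).symm.toRingHom := Subsingleton.elim _ _
    exact RingHom.ext fun x => DFunLike.congr_fun this x.down
  · exact h

/-- the morphism to the affine line defined by a global section -/
noncomputable def toA (X : Scheme.{u}) (t : Γ(X, ⊤)) : X ⟶ Spec R₀.{u} := X.toSpecΓ ≫ Spec.map (evT t)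

theorem toA_injective {X : Scheme.{u}} {s t : Γ(X, ⊤)} (h : toA X s = toA X t) : s = t := by
  have h1 : (ΓSpec.adjunction.homEquiv X (Opposite.op R₀.{u})) (evT s).op =
    (ΓSpec.adjunction.homEquiv X (Opposite.op R₀.{u})) (evT t).op := h
  have h2 := (ΓSpec.adjunction.homEquiv X (Opposite.op R₀.{u})).injective h1
  have h3 : evT s = evT t := Quiver.Hom.op_inj h2
  rw [← evT_X s, ← evT_X t, h3]

theorem exists_toA {X : Scheme.{u}} (g : X ⟶ Spec R₀.{u}) : ∃ t, toA X t = g := by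
  obtain ⟨φ, hφ⟩ := (ΓSpec.adjunction.homEquiv X (Opposite.op R₀.{u})).surjective g
  let φ' : R₀.{u} ⟶ Γ(X, ⊤) := φ.unop
  refine ⟨φ'.hom Polynomial.X, ?_⟩
  have : evT (φ'.hom Polynomial.X) = φ' := evT_ext (evT_X _)
  rw [← hφ, toA, this]
  rfl

theorem comp_toA {X Y : Scheme.{u}} (f : X ⟶ Y) (t : Γ(Y, ⊤)) : f ≫ toA Y t = toA X (f.appTop.hom t) := by
  have : evT (f.appTop.hom t) = evT t ≫ f.appTop := evT_ext (by
    rw [evT_X, CommRingCat.hom_comp, RingHom.comp_apply, evT_X])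
  simp only [toA, this, Spec.map_comp]
  rw [← Category.assoc, Scheme.toSpecΓ_naturality, Category.assoc]

/-- sections are determined after pullback along an epimorphism -/
theorem appTop_injective_of_epi {X Y : Scheme.{u}} (f : X ⟶ Y) [Epi f] :
    Function.Injective f.appTop.hom := by
  intro s t h
  apply toA_injective
  rw [← cancel_epi f, comp_toA, comp_toA, h]

/-- sections descend along regular epimorphisms -/
theorem exists_appTop_eq_of_forall {X Y : Scheme.{u}} (f : X ⟶ Y) [EffectiveEpi f] (t : Γ(X, ⊤))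
    (ht : ∀ {W : Scheme.{u}} (g₁ g₂ : W ⟶ X), g₁ ≫ f = g₂ ≫ f → g₁.appTop.hom t = g₂.appTop.hom t) :
    ∃ s, f.appTop.hom s = t := by
  have key : ∀ {W : Scheme.{u}} (g₁ g₂ : W ⟶ X), g₁ ≫ f = g₂ ≫ f → g₁ ≫ toA X t = g₂ ≫ toA X t := by
    intro W g₁ g₂ h
    rw [comp_toA, comp_toA, ht g₁ g₂ h]
  obtain ⟨s, hs⟩ := exists_toA (EffectiveEpi.desc f (toA X t) key)
  refine ⟨s, toA_injective ?_⟩
  rw [← comp_toA, hs, EffectiveEpi.fac]

/-- sections descend along regular epimorphisms -/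
theorem exists_appTop_eq {R X Y : Scheme.{u}} (f : X ⟶ Y) [EffectiveEpi f] {p q : R ⟶ X}
    (H : IsPullback p q f f) (t : Γ(X, ⊤)) (ht : p.appTop.hom t = q.appTop.hom t) :
    ∃ s, f.appTop.hom s = t := by
  refine exists_appTop_eq_of_forall f t fun g₁ g₂ h => ?_
  have h1 := H.lift_fst g₁ g₂ h
  have h2 := H.lift_snd g₁ g₂ h
  generalize H.lift g₁ g₂ h = g at h1 h2
  subst h1 h2
  have := congr(g.appTop.hom $ht)
  simpa only [Scheme.Hom.comp_appTop, CommRingCat.hom_comp, RingHom.comp_apply] using this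

/-- restriction of a section over `U` to the scheme `U` -/
theorem top_le_ι {X : Scheme.{u}} (U : X.Opens) : (⊤ : (U : Scheme.{u}).Opens) ≤ U.ι ⁻¹ᵁ U :=
  fun x _ => by simp

theorem isIso_ι_appLE {X : Scheme.{u}} (U : X.Opens) : IsIso (U.ι.appLE U ⊤ (top_le_ι U)) := by
  have h : (⊤ : (U : Scheme.{u}).Opens) = U.ι ⁻¹ᵁ U := le_antisymm (top_le_ι U) le_top
  have h1 : IsIso (U.ι.appLE U (U.ι ⁻¹ᵁ U) le_rfl) := by
    rw [← Scheme.Hom.app_eq_appLE]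
    exact Scheme.Hom.isIso_app _ _ (by simp)
  have h2 := Scheme.Hom.appLE_map U.ι (le_refl (U.ι ⁻¹ᵁ U)) (eqToHom h).op
  rw [← h2]
  infer_instance

theorem le_comp {X W : Scheme.{u}} (U : X.Opens) (g : W ⟶ U) : ⊤ ≤ (g ≫ U.ι) ⁻¹ᵁ U := fun x _ => by
  simp

theorem appTop_ι {X W : Scheme.{u}} (U : X.Opens) (g : W ⟶ U) (t : Γ(X, U)) {h : W ⟶ X}
    (e : g ≫ U.ι = h) (e' : ⊤ ≤ h ⁻¹ᵁ U) :
    g.appTop.hom ((U.ι.appLE U ⊤ (top_le_ι U)).hom t) = (h.appLE U ⊤ e').hom t := by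
  subst e
  have := Scheme.Hom.appLE_comp_appLE g U.ι U ⊤ ⊤ (top_le_ι U) le_top
  rw [← this, CommRingCat.hom_comp, RingHom.comp_apply, Scheme.Hom.appTop, Scheme.Hom.app_eq_appLE]
  rfl

/-- sections over an open descend along effective epimorphisms that stay so over opens -/
theorem exists_app_eq {R X Y : Scheme.{u}} (f : X ⟶ Y) {p q : R ⟶ X}
    (H : IsPullback p q f f) (V : Y.Opens) [EffectiveEpi (f ∣_ V)] (t : Γ(X, f ⁻¹ᵁ V))
    (ht : p.appLE (f ⁻¹ᵁ V) (p ⁻¹ᵁ (f ⁻¹ᵁ V) ⊓ q ⁻¹ᵁ (f ⁻¹ᵁ V)) inf_le_left t =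
      q.appLE (f ⁻¹ᵁ V) (p ⁻¹ᵁ (f ⁻¹ᵁ V) ⊓ q ⁻¹ᵁ (f ⁻¹ᵁ V)) inf_le_right t) : ∃ s, f.app V s = t := by
  obtain ⟨s, hs⟩ := exists_appTop_eq_of_forall (f ∣_ V)
    (((f ⁻¹ᵁ V).ι.appLE (f ⁻¹ᵁ V) ⊤ (top_le_ι _)).hom t) (by
    intro W g₁ g₂ h
    have e1 : (g₁ ≫ (f ⁻¹ᵁ V).ι) ≫ f = (g₂ ≫ (f ⁻¹ᵁ V).ι) ≫ f := by
      have := congr($h ≫ V.ι)
      simpa using this
    have h1 := H.lift_fst _ _ e1
    have h2 := H.lift_snd _ _ e1
    have t1 := le_comp _ g₁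
    have t2 := le_comp _ g₂
    generalize H.lift _ _ e1 = g at h1 h2
    rw [← h1] at t1
    rw [← h2] at t2
    rw [appTop_ι _ g₁ t h1.symm t1, appTop_ι _ g₂ t h2.symm t2]
    have l : ⊤ ≤ g ⁻¹ᵁ (p ⁻¹ᵁ (f ⁻¹ᵁ V) ⊓ q ⁻¹ᵁ (f ⁻¹ᵁ V)) := fun x hx => ⟨t1 hx, t2 hx⟩
    have a1 := Scheme.Hom.appLE_comp_appLE g p (f ⁻¹ᵁ V) (p ⁻¹ᵁ (f ⁻¹ᵁ V) ⊓ q ⁻¹ᵁ (f ⁻¹ᵁ V)) ⊤ inf_le_left l
    have a2 := Scheme.Hom.appLE_comp_appLE g q (f ⁻¹ᵁ V) (p ⁻¹ᵁ (f ⁻¹ᵁ V) ⊓ q ⁻¹ᵁ (f ⁻¹ᵁ V)) ⊤ inf_le_right l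
    rw [← a1, ← a2]
    exact congr((g.appLE _ _ l).hom $ht))
  have := isIso_ι_appLE V
  obtain ⟨s', rfl⟩ : ∃ s', (V.ι.appLE V ⊤ (top_le_ι V)).hom s' = s :=
    ⟨(inv (V.ι.appLE V ⊤ (top_le_ι V))).hom s, by
      rw [← RingHom.comp_apply, ← CommRingCat.hom_comp, IsIso.inv_hom_id]; rfl⟩
  refine ⟨s', ?_⟩
  have := isIso_ι_appLE (f ⁻¹ᵁ V)
  have hinj : Function.Injective ((f ⁻¹ᵁ V).ι.appLE (f ⁻¹ᵁ V) ⊤ (top_le_ι _)).hom :=
    (ConcreteCategory.bijective_of_isIso ((f ⁻¹ᵁ V).ι.appLE (f ⁻¹ᵁ V) ⊤ (top_le_ι _))).1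
  apply hinj
  rw [← hs]
  have e1 : ⊤ ≤ ((f ⁻¹ᵁ V).ι ≫ f) ⁻¹ᵁ V := fun x _ => x.2
  have a3 := Scheme.Hom.appLE_comp_appLE (f ⁻¹ᵁ V).ι f V (f ⁻¹ᵁ V) ⊤ le_rfl (top_le_ι _)
  rw [appTop_ι V (f ∣_ V) s' (morphismRestrict_ι f V) e1, ← a3, Scheme.Hom.app_eq_appLE]
  rfl

theorem app_injective {X Y : Scheme.{u}} (f : X ⟶ Y) (V : Y.Opens) [Epi (f ∣_ V)] :
    Function.Injective (f.app V) := by
  intro s t h
  have := isIso_ι_appLE V
  have hinj : Function.Injective (V.ι.appLE V ⊤ (top_le_ι _)).hom :=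
    (ConcreteCategory.bijective_of_isIso (V.ι.appLE V ⊤ (top_le_ι _))).1
  apply hinj
  apply appTop_injective_of_epi (f ∣_ V)
  have e1 : ⊤ ≤ ((f ⁻¹ᵁ V).ι ≫ f) ⁻¹ᵁ V := fun x _ => x.2
  have a3 := Scheme.Hom.appLE_comp_appLE (f ⁻¹ᵁ V).ι f V (f ⁻¹ᵁ V) ⊤ le_rfl (top_le_ι _)
  rw [appTop_ι V (f ∣_ V) s (morphismRestrict_ι f V) e1,
    appTop_ι V (f ∣_ V) t (morphismRestrict_ι f V) e1, ← a3]
  rw [Scheme.Hom.app_eq_appLE] at h
  exact congr(((f ⁻¹ᵁ V).ι.appLE (f ⁻¹ᵁ V) ⊤ (top_le_ι _)).hom $h)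

end K957.Sections
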