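import Groth.Agent.EqInt.K957.Free
import Mathlib.CategoryTheory.Monoidal.Cartesian.Grp

/-!
# Fibres of the stabilizer are group schemes
-/

set_option autoImplicit false
universe u
open CategoryTheory CategoryTheory.Limits MonoidalCategory CartesianMonoidalCategory MonObj GrpObj AlgebraicGeometry Opposite

namespace K957.StabGroup

open Free

variable {S : Scheme.{u}} {G X : Over S} [GrpObj G] (a : AlgGrp.Action G X) {B : Scheme.{u}} (x : B ⟶ X.left)

/-- `T → B` viewed over `S` -/
noncomputable abbrev toS (T : Over B) : Over S := Over.mk (T.hom ≫ x ≫ X.hom)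

/-- the point `T → B → X` -/
noncomputable def pt (T : Over B) : toS x T ⟶ X := Over.homMk (T.hom ≫ x) (by simp)

/-- functoriality of `toS` -/
noncomputable def mapS {T T' : Over B} (f : T' ⟶ T) : toS x T' ⟶ toS x T := Over.homMk f.left (by simp)

theorem mapS_pt {T T' : Over B} (f : T' ⟶ T) : mapS x f ≫ pt x T = pt x T' := by
  ext1
  simp [mapS, pt]

theorem mapS_id (T : Over B) : mapS x (𝟙 T) = 𝟙 _ := by
  ext1
  simp [mapS]

theorem mapS_comp {T T' T'' : Over B} (f : T' ⟶ T) (g : T'' ⟶ T') : mapS x (g ≫ f) = mapS x g ≫ mapS x f := by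
  ext1
  simp [mapS]

/-- the stabilizer of the point over `T` -/
noncomputable def stab (T : Over B) : Subgroup (toS x T ⟶ G) where
  carrier := {g | lift g (pt x T) ≫ a.act = pt x T}
  one_mem' := a.lift_one_act _
  mul_mem' {g h} hg hh := by
    change lift (g * h) (pt x T) ≫ a.act = pt x T
    change lift g (pt x T) ≫ a.act = pt x T at hg
    change lift h (pt x T) ≫ a.act = pt x T at hh
    rw [a.lift_mul_act, hh, hg]
  inv_mem' {g} hg := by
    change lift g⁻¹ (pt x T) ≫ a.act = pt x T
    change lift g (pt x T) ≫ a.act = pt x T at hg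
    conv_lhs => rw [← hg]
    rw [← a.lift_mul_act, inv_mul_cancel, a.lift_one_act]

theorem mem_stab {T : Over B} (g : toS x T ⟶ G) : g ∈ stab a x T ↔ lift g (pt x T) ≫ a.act = pt x T :=
  Iff.rfl

theorem comp_mem {T T' : Over B} (f : T' ⟶ T) (g : toS x T ⟶ G) (hg : g ∈ stab a x T) :
    mapS x f ≫ g ∈ stab a x T' := by
  rw [mem_stab] at hg ⊢
  rw [← mapS_pt x f, ← comp_lift, Category.assoc, hg]

/-- the functor of stabilizers -/
noncomputable def functor : (Over B)ᵒᵖ ⥤ GrpCat.{u} where
  obj T := GrpCat.of (stab a x T.unop)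
  map {T T'} f := GrpCat.ofHom
    { toFun := fun g => ⟨mapS x f.unop ≫ g.1, comp_mem a x f.unop g.1 g.2⟩
      map_one' := Subtype.ext (comp_one _)
      map_mul' := fun g h => Subtype.ext (comp_mul _ _ _) }
  map_id T := by
    refine ConcreteCategory.hom_ext _ _ fun g => Subtype.ext ?_
    change mapS x (𝟙 _) ≫ g.1 = g.1
    rw [mapS_id, Category.id_comp]
  map_comp {T T' T''} f g := by
    refine ConcreteCategory.hom_ext _ _ fun h => Subtype.ext ?_
    change mapS x (g.unop ≫ f.unop) ≫ h.1 = mapS x g.unop ≫ mapS x f.unop ≫ h.1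
    rw [mapS_comp, Category.assoc]

/-- the fibre of the stabilizer -/
noncomputable abbrev fib : Over B := Over.mk (pullback.snd (stabSnd a) x)

/-- the group element of a point of the fibre -/
noncomputable def toG {T : Over B} (h : T ⟶ fib a x) : toS x T ⟶ G :=
  Over.homMk (h.left ≫ pullback.fst (stabSnd a) x ≫ pullback.fst _ _ ≫ (fst G X).left) (by
    simp only [Category.assoc, Over.w]
    have h1 := pullback.condition (f := (GIT.psi a (𝟙 X)).left) (g := (CartesianMonoidalCategory.lift (𝟙 X) (𝟙 X)).left)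
    have h2 := pullback.condition (f := stabSnd a) (g := x)
    have h3 : (G ⊗ X).hom = (GIT.psi a (𝟙 X)).left ≫ (X ⊗ X).hom := by rw [Over.w]
    have h4 : (CartesianMonoidalCategory.lift (𝟙 X) (𝟙 X)).left ≫ (X ⊗ X).hom = X.hom := by rw [Over.w]
    rw [h3, reassoc_of% h1, h4]
    change h.left ≫ pullback.fst (stabSnd a) x ≫ stabSnd a ≫ X.hom = T.hom ≫ x ≫ X.hom
    rw [reassoc_of% h2, ← Over.w h]
    exact (Category.assoc _ _ _).symm)

theorem toG_left {T : Over B} (h : T ⟶ fib a x) : (toG a x h).left =
    h.left ≫ pullback.fst (stabSnd a) x ≫ pullback.fst _ _ ≫ (fst G X).left := rfl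

theorem pt_left (T : Over B) : (pt x T).left = T.hom ≫ x := rfl

theorem mapS_left {T T' : Over B} (f : T' ⟶ T) : (mapS x f).left = f.left := rfl

theorem hom_comp_x {T : Over B} (h : T ⟶ fib a x) :
    T.hom ≫ x = h.left ≫ pullback.fst (stabSnd a) x ≫ stabSnd a := by
  rw [pullback.condition, ← Over.w h]
  exact Category.assoc _ _ _

theorem lift_toG {T : Over B} (h : T ⟶ fib a x) : (lift (toG a x h) (pt x T)).left =
    h.left ≫ pullback.fst (stabSnd a) x ≫ pullback.fst _ _ := by
  have h1 := pullback.condition (f := (GIT.psi a (𝟙 X)).left) (g := (CartesianMonoidalCategory.lift (𝟙 X) (𝟙 X)).left)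
  have h2 := pullback.condition (f := stabSnd a) (g := x)
  apply Bundle.prod_hom_ext
  · rw [← Over.comp_left, lift_fst, toG_left]
    simp only [Category.assoc]
  · rw [← Over.comp_left, lift_snd, pt_left, Category.assoc, Category.assoc]
    have h3 : (snd G X).left = (GIT.psi a (𝟙 X)).left ≫ (snd X X).left := by
      rw [← Over.comp_left, Bundle.psi_eq, lift_snd]
    have h4 : (CartesianMonoidalCategory.lift (𝟙 X) (𝟙 X)).left ≫ (snd X X).left = 𝟙 _ := by
      rw [← Over.comp_left, lift_snd, Over.id_left]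
    rw [h3, reassoc_of% h1, h4, Category.comp_id]
    exact hom_comp_x a x h

theorem toG_mem {T : Over B} (h : T ⟶ fib a x) : toG a x h ∈ stab a x T := by
  rw [mem_stab]
  ext1
  rw [Over.comp_left, lift_toG]
  have h1 := pullback.condition (f := (GIT.psi a (𝟙 X)).left) (g := (CartesianMonoidalCategory.lift (𝟙 X) (𝟙 X)).left)
  have h2 := pullback.condition (f := stabSnd a) (g := x)
  have h3 : a.act.left = (GIT.psi a (𝟙 X)).left ≫ (fst X X).left := by
    rw [← Over.comp_left, Bundle.psi_eq, lift_fst]
  have h4 : (CartesianMonoidalCategory.lift (𝟙 X) (𝟙 X)).left ≫ (fst X X).left = 𝟙 _ := by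
    rw [← Over.comp_left, lift_fst, Over.id_left]
  rw [Category.assoc, Category.assoc, h3, reassoc_of% h1, h4, Category.comp_id]
  exact (hom_comp_x a x h).symm

/-- the point of the fibre attached to a stabilizing element -/
noncomputable def ofG {T : Over B} (g : toS x T ⟶ G) (hg : g ∈ stab a x T) : T ⟶ fib a x :=
  Over.homMk (pullback.lift (pullback.lift (lift g (pt x T)).left (pt x T).left (by
    rw [← Over.comp_left, ← Over.comp_left, lift_psi, comp_diag, (mem_stab a x g).1 hg])) T.hom (by
      rw [stabSnd, pullback.lift_snd]; rfl)) (pullback.lift_snd _ _ _)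

theorem ofG_fst {T : Over B} (g : toS x T ⟶ G) (hg : g ∈ stab a x T) :
    (ofG a x g hg).left ≫ pullback.fst (stabSnd a) x ≫ pullback.fst _ _ = (lift g (pt x T)).left := by
  change (pullback.lift _ _ _) ≫ pullback.fst (stabSnd a) x ≫ pullback.fst _ _ = _
  rw [pullback.lift_fst_assoc, pullback.lift_fst]

theorem ofG_snd {T : Over B} (g : toS x T ⟶ G) (hg : g ∈ stab a x T) :
    (ofG a x g hg).left ≫ pullback.fst (stabSnd a) x ≫ stabSnd a = T.hom ≫ x :=
  (hom_comp_x a x _).symm

theorem ofG_toG {T : Over B} (h : T ⟶ fib a x) (hg) : ofG a x (toG a x h) hg = h := by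
  ext1
  apply pullback.hom_ext
  · apply pullback.hom_ext
    · rw [Category.assoc, ofG_fst, lift_toG, Category.assoc]
    · change (_ ≫ _) ≫ stabSnd a = (_ ≫ _) ≫ stabSnd a
      rw [Category.assoc, Category.assoc, ofG_snd, ← hom_comp_x]
  · exact (Over.w (ofG a x (toG a x h) hg)).trans (Over.w h).symm

theorem toG_ofG {T : Over B} (g : toS x T ⟶ G) (hg : g ∈ stab a x T) : toG a x (ofG a x g hg) = g := by
  ext1
  have h1 := ofG_fst a x g hg =≫ (fst G X).left
  rw [← Over.comp_left, lift_fst] at h1
  rw [toG_left, ← h1]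
  simp only [Category.assoc]

/-- the fibre represents the stabilizer functor -/
noncomputable def repr : (functor a x ⋙ forget _).RepresentableBy (fib a x) where
  homEquiv {T} :=
    { toFun := fun h => ⟨toG a x h, toG_mem a x h⟩
      invFun := fun g => ofG a x g.1 g.2
      left_inv := fun h => ofG_toG a x h _
      right_inv := fun g => Subtype.ext (toG_ofG a x g.1 g.2) }
  homEquiv_comp {T T'} f g := by
    refine Subtype.ext ?_
    change toG a x (f ≫ g) = mapS x f ≫ toG a x g
    ext1
    rw [toG_left, Over.comp_left, Over.comp_left, toG_left, mapS_left, Category.assoc]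

/-- the group structure of the fibre -/
@[reducible]
noncomputable def grpObj : GrpObj (fib a x) := GrpObj.ofRepresentableBy _ _ (repr a x)

end K957.StabGroup
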