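import Groth.Agent.EqInt.K957.Glue2
import Groth.Agent.EqInt.K957.BundleQS

/-!
# The quotient of a principal `G`-bundle by a subgroup `H`
-/

set_option autoImplicit false
universe u
open CategoryTheory CategoryTheory.Limits MonoidalCategory CartesianMonoidalCategory MonObj GrpObj AlgebraicGeometry

namespace K957.SubBundle

open K957.Pts K957.Glue K957.Restr K957.Invt K957.BundleQS Groth.Agent.Sga3B.GLn

section general

variable {S : Scheme.{u}} {G H E : Over S} [GrpObj G] [GrpObj H] (i : H ⟶ G) [IsMonHom i]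
  (a : AlgGrp.Action G E)

theorem dot_restrict {T : Over S} (h : T ⟶ H) (x : T ⟶ E) : dot (a.restrict i) h x = dot a (h ≫ i) x :=
  AlgGrp.Action.lift_restrict_act i a h x

theorem isEquivariant_restrict {E' : Over S} {a' : AlgGrp.Action G E'} {F : E' ⟶ E}
    (hF : AlgGrp.Action.IsEquivariant a' a F) :
    AlgGrp.Action.IsEquivariant (a'.restrict i) (a.restrict i) F := by
  apply isEquivariant_of_dot
  intro T h x
  rw [dot_restrict, dot_restrict, dot_comp _ hF]

theorem isInvariant_restrict {B : Over S} {π : E ⟶ B} (hπ : GIT.IsInvariant a π) :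
    GIT.IsInvariant (a.restrict i) π := by
  apply isInvariant_of_dot
  intro T h x
  rw [dot_restrict, dot_inv _ hπ]

/-- pulling back `Γ ⟶ H \ Γ` to a `G`-bundle pulled back from `Γ ⟶ G \ Γ`. -/
theorem hasBundle_of_cart {B Γ ZG ZH : Over S} (t : AlgGrp.Action G Γ) {pG : Γ ⟶ ZG}
    (hG : GIT.IsInvariant t pG) {pH : Γ ⟶ ZH}
    (HH : IsPullback (t.restrict i).act (snd H Γ) pH pH) [Flat pH.left] [Surjective pH.left]
    [QuasiCompact pH.left] {π : E ⟶ B} (hπ : GIT.IsInvariant a π) (δ : E ⟶ Γ)
    (hδ : AlgGrp.Action.IsEquivariant a t δ) {f : B ⟶ ZG} (hf : IsPullback δ π pG f) :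
    HasBundle (a.restrict i) := by
  obtain ⟨r, hr⟩ := DescOver.exists_desc (t.restrict i) HH pG (isInvariant_restrict i t hG)
  have sq : IsPullback (pullback.fst r f) (pullback.snd r f) r f := IsPullback.of_hasPullback _ _
  have e1 : (δ ≫ pH) ≫ r = π ≫ f := by rw [Category.assoc, hr, hf.w]
  have top : IsPullback δ (sq.lift (δ ≫ pH) π e1) pH (pullback.fst r f) := by
    refine IsPullback.of_bot ?_ (sq.lift_fst _ _ e1).symm sq
    rw [hr, sq.lift_snd]
    exact hf
  obtain ⟨c1, c2, c3⟩ := bundle_props top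
  have hδ' := isEquivariant_restrict i t hδ
  have hinv : GIT.IsInvariant (a.restrict i) (sq.lift (δ ≫ pH) π e1) := by
    apply isInvariant_of_dot
    intro T h x
    apply sq.hom_ext
    · rw [Category.assoc, sq.lift_fst, Category.assoc, sq.lift_fst, ← Category.assoc, dot_comp _ hδ',
        dot_inv _ HH.w, Category.assoc]
    · rw [Category.assoc, sq.lift_snd, Category.assoc, sq.lift_snd, dot_restrict]
      exact dot_inv _ hπ _ _
  exact ⟨_, _, hinv, c1, c2, c3, isIso_of_isPullback _ hinv (isPullback_bc _ hδ' hinv top HH)⟩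

end general

variable {k : Type u} [Field k] {G H E B : Over (Spec (CommRingCat.of k))} [GrpObj G] [GrpObj H]
  (i : H ⟶ G) [IsMonHom i] (a : AlgGrp.Action G E)

theorem hasBundle_restrict [IsAffine G.left] [LocallyOfFiniteType G.hom] [IsClosedImmersion i.left]
    {π : E ⟶ B} (Hc : IsPullback a.act (snd G E) π π) [Flat π.left] [Surjective π.left]
    [QuasiCompact π.left] : HasBundle (a.restrict i) := by
  refine HasBundle.glue' _ fun z => ?_
  obtain ⟨n, j, hj1, hj2⟩ := Emb.exists_emb G
  have : IsAffine (GLS (ULift.{u} (Fin n)) (Spec (CommRingCat.of k))).left :=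
    isAffine_of_isAffineHom (GLS (ULift.{u} (Fin n)) (Spec (CommRingCat.of k))).hom
  have : IsAffine H.left := isAffine_of_isAffineHom i.left
  have : Mono i.left := inferInstance
  have : Mono i := Over.mono_of_mono_left i
  have : LocallyOfFiniteType H.hom := by rw [← Over.w i]; infer_instance
  obtain ⟨ZG, pG, HpG, -, -, -, -, -, -, -⟩ := exists_quot j
  obtain ⟨ZH, pH, HpH, h2, h3, h4, h5, h6, h7, h8⟩ := exists_quot (i ≫ j)
  have := isAffineHom_of_bundle a Hc
  obtain ⟨W, hy, δ, f, hf, hδ⟩ := LocCart.exists_local_cart a Hc j HpG (π.left z)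
  have e2 : (((NonAbH1.trivialAction (GLS (ULift.{u} (Fin n)) (Spec (CommRingCat.of k)))).restrict j).restrict i).act =
      (i ≫ j) ▷ GLS (ULift.{u} (Fin n)) (Spec (CommRingCat.of k)) ≫
        μ[GLS (ULift.{u} (Fin n)) (Spec (CommRingCat.of k))] := by
    rw [comp_whiskerRight, Category.assoc]
    rfl
  have HH : IsPullback (((NonAbH1.trivialAction
      (GLS (ULift.{u} (Fin n)) (Spec (CommRingCat.of k)))).restrict j).restrict i).act
      (snd H _) pH pH := by
    rw [e2]; exact HpH
  have key := hasBundle_of_cart i (Restr.restrict a _ (preimage_inv a Hc.w W))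
    ((NonAbH1.trivialAction (GLS (ULift.{u} (Fin n)) (Spec (CommRingCat.of k)))).restrict j) HpG.w HH
    (DescOver.isPullback_resOver_act a Hc W).w δ hδ hf
  exact ⟨XU (π.left ⁻¹ᵁ W), (Restr.restrict a _ (preimage_inv a Hc.w W)).restrict i, iU _,
    inferInstance, isEquivariant_restrict i a (restrict_isEquivariant a _ (preimage_inv a Hc.w W)),
    ⟨⟨z, hy⟩, rfl⟩, key⟩

end K957.SubBundle
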