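import Groth.Agent.EqInt.K957.SubBundle
import Groth.Agent.Etbase.FpqcDescent
import Groth.Agent.Sga3C.FlatOfComp
import Mathlib.AlgebraicGeometry.Morphisms.LocalFlatDescent

/-!
# Separatedness of `E/H ⟶ B`; uniqueness of bundle quotients; finiteness
-/

set_option autoImplicit false
universe u
open CategoryTheory CategoryTheory.Limits MonoidalCategory CartesianMonoidalCategory MonObj GrpObj AlgebraicGeometry

namespace K957.SubBundle

open K957.Pts K957.Glue K957.Restr K957.Invt K957.BundleQS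

section general

variable {S : Scheme.{u}} {G H E B Q : Over S} [GrpObj G] [GrpObj H] (i : H ⟶ G) [IsMonHom i]
  (a : AlgGrp.Action G E) {π : E ⟶ B} {ρ : E ⟶ Q} {φ : Q ⟶ B}

theorem isPullback_diag {P : Over S} {p1 p2 : P ⟶ Q} (HP : IsPullback p1 p2 φ φ) {d : Q ⟶ P}
    (d1 : d ≫ p1 = 𝟙 Q) (d2 : d ≫ p2 = 𝟙 Q) {m : G ⊗ E ⟶ P} (m1 : m ≫ p1 = a.act ≫ ρ)
    (m2 : m ≫ p2 = snd G E ≫ ρ) (Hπ : IsPullback a.act (snd G E) π π)
    (Hρ : IsPullback (a.restrict i).act (snd H E) ρ ρ) [Mono i] :
    IsPullback (i ▷ E) (snd H E ≫ ρ) m d := by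
  have hex : ∀ c : PullbackCone m d, ∃ h : c.pt ⟶ H, h ≫ i = c.fst ≫ fst G E := by
    intro c
    have h1 : (c.fst ≫ a.act) ≫ ρ = c.snd := by
      have := c.condition =≫ p1
      rw [Category.assoc, m1, Category.assoc, d1, Category.comp_id] at this
      rw [Category.assoc, this]
    have h2 : (c.fst ≫ snd G E) ≫ ρ = c.snd := by
      have := c.condition =≫ p2
      rw [Category.assoc, m2, Category.assoc, d2, Category.comp_id] at this
      rw [Category.assoc, this]
    obtain ⟨h, hh⟩ := exists_dot (a.restrict i) Hρ _ _ (h1.trans h2.symm)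
    refine ⟨h, dot_cancel a Hπ (y := c.fst ≫ snd G E) ?_⟩
    rw [← dot_restrict, hh, dot, lift_comp_fst_snd]
  choose h hh using hex
  refine ⟨⟨?_⟩, ⟨PullbackCone.IsLimit.mk _ (fun c => lift (h c) (c.fst ≫ snd G E)) ?_ ?_ ?_⟩⟩
  · apply HP.hom_ext
    · rw [Category.assoc, m1, Category.assoc, d1, Category.comp_id]
      have := Hρ.w
      rw [← this]
      rfl
    · rw [Category.assoc, m2, Category.assoc, d2, Category.comp_id,
        whiskerRight_snd_assoc]
  · intro c
    apply CartesianMonoidalCategory.hom_ext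
    · rw [Category.assoc, whiskerRight_fst, lift_fst_assoc, hh]
    · rw [Category.assoc, whiskerRight_snd, lift_snd]
  · intro c
    have := c.condition =≫ p2
    rw [Category.assoc, m2, Category.assoc, d2, Category.comp_id] at this
    rw [lift_snd_assoc, Category.assoc, this]
  · intro c m e1 e2
    apply CartesianMonoidalCategory.hom_ext
    · rw [lift_fst, ← cancel_mono i, hh, ← e1, Category.assoc, Category.assoc, whiskerRight_fst]
    · rw [lift_snd, ← e1, Category.assoc, whiskerRight_snd]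

theorem isSeparated_desc (Hπ : IsPullback a.act (snd G E) π π)
    (Hρ : IsPullback (a.restrict i).act (snd H E) ρ ρ) (hφ : ρ ≫ φ = π) [IsClosedImmersion i.left]
    [Flat ρ.left] [Surjective ρ.left] [QuasiCompact ρ.left] : IsSeparated φ.left := by
  let P : Over S := Over.mk (pullback.fst φ.left φ.left ≫ Q.hom)
  let p1 : P ⟶ Q := Over.homMk (pullback.fst φ.left φ.left) rfl
  let p2 : P ⟶ Q := Over.homMk (pullback.snd φ.left φ.left) (by
    change _ = pullback.fst φ.left φ.left ≫ Q.hom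
    rw [← Over.w φ, pullback.condition_assoc])
  have HP : IsPullback p1 p2 φ φ := isPullback_over (IsPullback.of_hasPullback φ.left φ.left)
  let d : Q ⟶ P := Over.homMk (pullback.diagonal φ.left) (by
    change pullback.diagonal φ.left ≫ pullback.fst φ.left φ.left ≫ Q.hom = _
    rw [pullback.diagonal_fst_assoc])
  have d1 : d ≫ p1 = 𝟙 Q := Over.OverMorphism.ext (pullback.diagonal_fst _)
  have d2 : d ≫ p2 = 𝟙 Q := Over.OverMorphism.ext (pullback.diagonal_snd _)
  have w1 : (a.act ≫ ρ) ≫ φ = (snd G E ≫ ρ) ≫ φ := by rw [Category.assoc, Category.assoc, hφ, Hπ.w]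
  have m1 := HP.lift_fst (a.act ≫ ρ) (snd G E ≫ ρ) w1
  have m2 := HP.lift_snd (a.act ≫ ρ) (snd G E ≫ ρ) w1
  have : Mono i.left := inferInstance
  have : Mono i := Over.mono_of_mono_left i
  have sq := isPullback_left (isPullback_diag i a HP d1 d2 m1 m2 Hπ Hρ)
  have hφ' : ρ.left ≫ φ.left = π.left := congrArg CommaMorphism.left hφ
  have c1 : IsClosedImmersion (i ▷ E).left := by
    have : IsPullback (i ▷ E) (fst H E) (fst G E) i := by
      refine ⟨⟨by rw [whiskerRight_fst]⟩, ⟨PullbackCone.IsLimit.mk _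
        (fun c => lift c.snd (c.fst ≫ snd G E)) ?_ ?_ ?_⟩⟩
      · intro c
        apply CartesianMonoidalCategory.hom_ext
        · simp [c.condition]
        · simp
      · intro c
        simp
      · intro c m h1 h2
        apply CartesianMonoidalCategory.hom_ext
        · rw [lift_fst, h2]
        · rw [lift_snd, ← h1]; simp
    exact MorphismProperty.of_isPullback (P := @IsClosedImmersion) (isPullback_left this).flip ‹_›
  have em : (HP.lift (a.act ≫ ρ) (snd G E ≫ ρ) w1).left = (isPullback_left Hπ).isoPullback.hom ≫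
      pullback.map π.left π.left φ.left φ.left ρ.left ρ.left (𝟙 _) ((Category.comp_id _).trans hφ'.symm)
        ((Category.comp_id _).trans hφ'.symm) := by
    apply pullback.hom_ext
    · have := congrArg CommaMorphism.left m1
      refine Eq.trans this ?_
      rw [Category.assoc, pullback.map, pullback.lift_fst, IsPullback.isoPullback_hom_fst_assoc]
      rfl
    · have := congrArg CommaMorphism.left m2
      refine Eq.trans this ?_
      rw [Category.assoc, pullback.map, pullback.lift_snd, IsPullback.isoPullback_hom_snd_assoc]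
      rfl
  have c2 : Surjective (HP.lift (a.act ≫ ρ) (snd G E ≫ ρ) w1).left := by
    have := MorphismProperty.pullbackMap (P := @Surjective) (i₁ := ρ.left) (i₂ := ρ.left) ‹_› ‹_›
      hφ'.symm hφ'.symm
    rw [em]; infer_instance
  have c3 : Flat (HP.lift (a.act ≫ ρ) (snd G E ≫ ρ) w1).left := by
    have := MorphismProperty.pullbackMap (P := @Flat) (i₁ := ρ.left) (i₂ := ρ.left) ‹_› ‹_›
      hφ'.symm hφ'.symm
    rw [em]; infer_instance
  have c4 : QuasiCompact (HP.lift (a.act ≫ ρ) (snd G E ≫ ρ) w1).left := by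
    have := MorphismProperty.pullbackMap (P := @QuasiCompact) (i₁ := ρ.left) (i₂ := ρ.left) ‹_› ‹_›
      hφ'.symm hφ'.symm
    rw [em]; infer_instance
  have c5 : IsClosedImmersion d.left :=
    MorphismProperty.of_isPullback_of_descendsAlong (P := @IsClosedImmersion)
      (Q := (@Surjective ⊓ @Flat ⊓ @QuasiCompact : MorphismProperty Scheme.{u})) sq ⟨⟨c2, c3⟩, c4⟩ c1
  exact ⟨c5⟩

/-- uniqueness of bundle quotients -/
theorem exists_iso_of_bundle {X Q₁ Q₂ : Over S} (a : AlgGrp.Action G X) {φ₁ : X ⟶ Q₁} {φ₂ : X ⟶ Q₂}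
    (H₁ : IsPullback a.act (snd G X) φ₁ φ₁) (H₂ : IsPullback a.act (snd G X) φ₂ φ₂)
    [Flat φ₁.left] [Surjective φ₁.left] [QuasiCompact φ₁.left]
    [Flat φ₂.left] [Surjective φ₂.left] [QuasiCompact φ₂.left] :
    ∃ e : Q₁ ≅ Q₂, φ₁ ≫ e.hom = φ₂ := by
  obtain ⟨f, hf⟩ := DescOver.exists_desc a H₁ φ₂ H₂.w
  obtain ⟨g, hg⟩ := DescOver.exists_desc a H₂ φ₁ H₁.w
  have e1 : Epi φ₁ := DescOver.epi
  have e2 : Epi φ₂ := DescOver.epi
  exact ⟨⟨f, g, by rw [← cancel_epi φ₁, reassoc_of% hf, hg, Category.comp_id],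
    by rw [← cancel_epi φ₂, reassoc_of% hg, hf, Category.comp_id]⟩, hf⟩

/-- properties of `G ⟶ S` pass to bundles -/
theorem prop_of_bundle (P : MorphismProperty Scheme.{u}) [P.IsStableUnderBaseChange]
    [P.DescendsAlong (@Surjective ⊓ @Flat ⊓ @QuasiCompact)] {X Q₁ : Over S} (a : AlgGrp.Action G X)
    {φ₁ : X ⟶ Q₁} (H₁ : IsPullback a.act (snd G X) φ₁ φ₁) [Flat φ₁.left] [Surjective φ₁.left]
    [QuasiCompact φ₁.left] (h : P G.hom) : P φ₁.left := by
  have h1 : P (snd G X).left := MorphismProperty.pullback_snd (P := P) _ _ h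
  exact MorphismProperty.of_isPullback_of_descendsAlong
    (Q := (@Surjective ⊓ @Flat ⊓ @QuasiCompact : MorphismProperty Scheme.{u}))
    (isPullback_left H₁).flip ⟨⟨‹_›, ‹_›⟩, ‹_›⟩ h1

end general

end K957.SubBundle
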