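import Groth.Agent.EqInt.K957.Pts

/-!
# Mixed spaces over the locus where the bundle has a section

`V ⊆ X × U` the preimage of `W ⊆ B`, `s' : W ⟶ U` a section: `ρ : V ⟶ X × W` is a base change of `π : U ⟶ B`.
-/

set_option autoImplicit false
universe u
open CategoryTheory CategoryTheory.Limits MonoidalCategory CartesianMonoidalCategory MonObj GrpObj AlgebraicGeometry

namespace K957.Triv

open K957.Pts

variable {S : Scheme.{u}} {G X U B V W : Over S} [GrpObj G] (a : AlgGrp.Action G X)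
  (b : AlgGrp.Action G U) {π : U ⟶ B} (H : IsPullback b.act (snd G U) π π)
  {iW : W ⟶ B} [Mono iW] {s : W ⟶ U} (hs : s ≫ π = iW) {iV : V ⟶ X ⊗ U} {w : V ⟶ W}
  (sq : IsPullback iV w (snd X U ≫ π) iW)

include H hs sq

omit [Mono iW] in
theorem exists_g : ∃ g : V ⟶ G, dot b g (w ≫ s) = iV ≫ snd X U :=
  exists_dot b H _ _ (by rw [Category.assoc, Category.assoc, hs, sq.w])

omit hs [Mono iW] sq in
/-- uniqueness of `g` on points -/
theorem g_eq {g : V ⟶ G} (hg : dot b g (w ≫ s) = iV ≫ snd X U) {T : Over S} (m : T ⟶ V) (g' : T ⟶ G)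
    (y : T ⟶ W) (hy : m ≫ w = y) (h : dot b g' (y ≫ s) = m ≫ iV ≫ snd X U) : m ≫ g = g' := by
  subst hy
  apply dot_cancel b H (y := (m ≫ w) ≫ s)
  rw [h, ← hg, comp_dot, Category.assoc]

omit [Mono iW] in
theorem isPullback_rho {g : V ⟶ G} (hg : dot b g (w ≫ s) = iV ≫ snd X U) :
    IsPullback (iV ≫ snd X U) (lift (dot a g⁻¹ (iV ≫ fst X U)) w) π (snd X W ≫ iW) := by
  have key : ∀ (c : PullbackCone π (snd X W ≫ iW)), ∃ (g' : c.pt ⟶ G) (m : c.pt ⟶ V),
      dot b g' ((c.snd ≫ snd X W) ≫ s) = c.fst ∧ m ≫ w = c.snd ≫ snd X W ∧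
      m ≫ iV = lift (dot a g' (c.snd ≫ fst X W)) c.fst := by
    intro c
    obtain ⟨g', hg'⟩ := exists_dot b H c.fst ((c.snd ≫ snd X W) ≫ s) (by
      rw [c.condition, Category.assoc, hs, Category.assoc])
    refine ⟨g', sq.lift (lift (dot a g' (c.snd ≫ fst X W)) c.fst) (c.snd ≫ snd X W) ?_, hg',
      sq.lift_snd _ _ _, sq.lift_fst _ _ _⟩
    rw [lift_snd_assoc, c.condition, Category.assoc]
  choose g' m h1 h2 h3 using key
  have hfst : ∀ c, m c ≫ iV ≫ snd X U = c.fst := fun c => by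
    rw [← Category.assoc, h3, lift_snd]
  have hgg : ∀ c, m c ≫ g = g' c := fun c =>
    g_eq b H hg (m c) (g' c) _ (h2 c) (by rw [h1, hfst])
  refine ⟨⟨?_⟩, ⟨PullbackCone.IsLimit.mk _ m hfst ?_ ?_⟩⟩
  · rw [lift_snd_assoc, Category.assoc, sq.w]
  · intro c
    apply CartesianMonoidalCategory.hom_ext
    · rw [Category.assoc, lift_fst, comp_dot, GrpObj.comp_inv, hgg, ← Category.assoc, h3, lift_fst,
        inv_dot_dot]
    · rw [Category.assoc, lift_snd, h2]
  · intro c m' e1 e2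
    have e3 : m' ≫ w = c.snd ≫ snd X W := by rw [← e2, Category.assoc, lift_snd]
    have e4 : m' ≫ g = g' c := g_eq b H hg m' (g' c) _ e3 (by rw [h1, e1])
    apply sq.hom_ext
    · rw [h3]
      apply CartesianMonoidalCategory.hom_ext
      · have e5 : c.snd ≫ fst X W = dot a (g' c)⁻¹ (m' ≫ iV ≫ fst X U) := by
          rw [← e2, Category.assoc, lift_fst, comp_dot, GrpObj.comp_inv, e4]
        rw [lift_fst, e5, dot_inv_dot, Category.assoc]
      · rw [lift_snd, Category.assoc, e1]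
    · rw [h2, e3]

variable {c : AlgGrp.Action G V} (hc : AlgGrp.Action.IsEquivariant c (a.prod b) iV)

include hc

omit H hs in
theorem dot_w {T : Over S} (h : T ⟶ G) (z : T ⟶ V) (hπ : GIT.IsInvariant b π) :
    dot c h z ≫ w = z ≫ w := by
  rw [← cancel_mono iW, Category.assoc, Category.assoc, ← sq.w, ← Category.assoc,
    dot_comp c hc, ← Category.assoc, dot_prod_snd, dot_inv b hπ]
  simp only [Category.assoc]

theorem isInvariant_rho {g : V ⟶ G} (hg : dot b g (w ≫ s) = iV ≫ snd X U) :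
    GIT.IsInvariant c (lift (dot a g⁻¹ (iV ≫ fst X U)) w) := by
  have hπ : GIT.IsInvariant b π := H.w
  apply isInvariant_of_dot
  intro T h z
  have e1 := dot_w a b sq hc h z hπ
  have e2 : dot c h z ≫ g = h * (z ≫ g) := by
    refine g_eq b H hg _ _ _ e1 ?_
    rw [mul_dot, ← Category.assoc (dot c h z), dot_comp c hc, dot_prod_snd, Category.assoc z iV,
      ← hg, comp_dot, Category.assoc]
  apply CartesianMonoidalCategory.hom_ext
  · have e3 : (z ≫ lift (dot a g⁻¹ (iV ≫ fst X U)) w) ≫ fst X W =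
        dot a (z ≫ g)⁻¹ (z ≫ iV ≫ fst X U) := by
      rw [Category.assoc, lift_fst, comp_dot, GrpObj.comp_inv]
    rw [e3, Category.assoc, lift_fst, comp_dot, GrpObj.comp_inv, e2, ← Category.assoc, dot_comp c hc,
      dot_prod_fst, _root_.mul_inv_rev, mul_dot, inv_dot_dot, Category.assoc]
  · rw [Category.assoc, lift_snd, Category.assoc, lift_snd, e1]

/-- the local statement -/
theorem exists_bundle : ∃ ρ : V ⟶ X ⊗ W, GIT.IsInvariant c ρ ∧ IsPullback c.act (snd G V) ρ ρ ∧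
    IsPullback (iV ≫ snd X U) ρ π (snd X W ≫ iW) := by
  obtain ⟨g, hg⟩ := exists_g b H hs sq
  have h1 := isPullback_rho a b H hs sq hg
  have h2 := isInvariant_rho a b H hs sq hc hg
  refine ⟨_, h2, isPullback_bc b ?_ h2 h1 H, h1⟩
  apply isEquivariant_of_dot
  intro T h z
  rw [← Category.assoc, dot_comp c hc, dot_prod_snd, Category.assoc]

end K957.Triv
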