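import Groth.Agent.EqInt.K957.StabGroup
import Groth.Agent.Ega4late.H526.SmoothQf
import Groth.Agent.S0353
import Mathlib.AlgebraicGeometry.Morphisms.Etale
import Mathlib.AlgebraicGeometry.Morphisms.QuasiFinite
import Mathlib.AlgebraicGeometry.Morphisms.UniversallyInjective
import Mathlib.AlgebraicGeometry.Fiber

/-!
# Universally injective stabilizers are trivial (characteristic zero or étale group)
-/

set_option autoImplicit false
universe u
open CategoryTheory CategoryTheory.Limits MonoidalCategory CartesianMonoidalCategory MonObj GrpObj AlgebraicGeometry Opposite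

namespace K957.TrivStab

open Free

/-- smooth and locally quasi-finite is étale -/
theorem etale_of_smooth_of_lqf {X Y : Scheme.{u}} (f : X ⟶ Y) [Smooth f] [LocallyQuasiFinite f] :
    Etale f := by
  rw [HasRingHomProperty.iff_appLE (P := @Etale)]
  intro U V e
  have h1 : (f.appLE U V e).hom.Smooth := HasRingHomProperty.appLE (P := @Smooth) f ‹_› U V e
  have h2 : (f.appLE U V e).hom.QuasiFinite :=
    HasRingHomProperty.appLE (P := @LocallyQuasiFinite) f ‹_› U V e
  algebraize [(f.appLE U V e).hom]
  change Algebra.Etale _ _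
  rw [← Algebra.etaleLocus_eq_univ_iff_etale, Set.eq_univ_iff_forall]
  intro q
  rw [Algebra.mem_etaleLocus_iff]
  exact Groth.Agent.Ega4late.H526.SmoothQf.isEtaleAt_of_isSmoothAt_of_quasiFiniteAt _ _ q.asIdeal

/-- unramified + universally injective is a monomorphism -/
theorem mono_of_unramified {X Y : Scheme.{u}} (f : X ⟶ Y)
    [FormallyUnramified f] [LocallyOfFiniteType f] [UniversallyInjective f] : Mono f := by
  have h1 : Surjective (pullback.diagonal f) := (UniversallyInjective.iff_diagonal f).1 inferInstance
  have h2 : IsIso (pullback.diagonal f) :=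
    (isIso_iff_isOpenImmersion_and_surjective _).2 ⟨inferInstance, h1⟩
  exact (pullback.isIso_diagonal_iff f).1 h2

theorem isIso_of_mono_of_section {C : Type*} [Category* C] {A B : C} (f : A ⟶ B) [Mono f] (s : B ⟶ A)
    (h : s ≫ f = 𝟙 B) : IsIso f := by
  refine ⟨s, ?_, h⟩
  rw [← cancel_mono f, Category.assoc, h, Category.comp_id, Category.id_comp]

variable {S : Scheme.{u}} {G X : Over S} [GrpObj G] (a : AlgGrp.Action G X)

/-- the unit section of the stabilizer -/
theorem exists_section : ∃ s : X.left ⟶ pullback (GIT.psi a (𝟙 X)).left (lift (𝟙 X) (𝟙 X)).left,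
    s ≫ stabSnd a = 𝟙 _ := by
  have c2 : (lift (1 : X ⟶ G) (𝟙 X)).left ≫ (GIT.psi a (𝟙 X)).left = (𝟙 X.left) ≫ (lift (𝟙 X) (𝟙 X)).left := by
    rw [← Over.comp_left, lift_psi, a.lift_one_act, Category.id_comp]
  exact ⟨pullback.lift _ _ c2, pullback.lift_snd _ _ _⟩

theorem exists_section_fib {B : Scheme.{u}} (x : B ⟶ X.left) :
    ∃ s : B ⟶ pullback (stabSnd a) x, s ≫ pullback.snd (stabSnd a) x = 𝟙 _ := by
  obtain ⟨s, hs⟩ := exists_section a
  exact ⟨pullback.lift (x ≫ s) (𝟙 _) (by rw [Category.assoc, hs]; simp), pullback.lift_snd _ _ _⟩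

/-- characteristic zero -/
theorem isIso_fib_of_charZero {K : Type u} [Field K] [CharZero K]
    (x : Spec (CommRingCat.of K) ⟶ X.left) [LocallyOfFiniteType (stabSnd a)]
    [UniversallyInjective (stabSnd a)] : IsIso (pullback.snd (stabSnd a) x) := by
  let := StabGroup.grpObj a x
  have h1 : LocallyOfFiniteType (StabGroup.fib a x).hom :=
    inferInstanceAs (LocallyOfFiniteType (pullback.snd (stabSnd a) x))
  have h2 : Smooth (pullback.snd (stabSnd a) x) := Groth.Agent.S0353.result K (StabGroup.fib a x)
  have h3 : UniversallyInjective (pullback.snd (stabSnd a) x) :=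
    MorphismProperty.of_isPullback (P := @UniversallyInjective) (IsPullback.of_hasPullback _ _) ‹_›
  have h4 : Etale (pullback.snd (stabSnd a) x) := etale_of_smooth_of_lqf _
  have h5 := mono_of_unramified (pullback.snd (stabSnd a) x)
  obtain ⟨s, hs⟩ := exists_section_fib a x
  exact isIso_of_mono_of_section _ s hs

theorem formallyUnramified_psi [FormallyUnramified G.hom] : FormallyUnramified (GIT.psi a (𝟙 X)).left := by
  have h1 : FormallyUnramified (snd G X).left :=
    MorphismProperty.of_isPullback (P := @FormallyUnramified) (IsPullback.of_hasPullback G.hom X.hom) ‹_›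
  have h2 : (snd G X).left = (GIT.psi a (𝟙 X)).left ≫ (snd X X).left := by
    rw [← Over.comp_left, Bundle.psi_eq, lift_snd]
  rw [h2] at h1
  exact FormallyUnramified.of_comp _ (snd X X).left

/-- unramified group -/
theorem mono_stabSnd_of_unramified [FormallyUnramified G.hom] [LocallyOfFiniteType (stabSnd a)]
    [UniversallyInjective (stabSnd a)] : Mono (stabSnd a) := by
  have h := formallyUnramified_psi a
  have h1 : FormallyUnramified (stabSnd a) :=
    MorphismProperty.of_isPullback (P := @FormallyUnramified) (IsPullback.of_hasPullback _ _) h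
  exact mono_of_unramified (stabSnd a)

end K957.TrivStab
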