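import Groth.Agent.EqInt.K957.GeomDesc
import Groth.Agent.EqInt.K957.BaseChange

/-!
# fpqc descent of universal geometric quotients
-/

set_option autoImplicit false
universe u
open CategoryTheory CategoryTheory.Limits MonoidalCategory CartesianMonoidalCategory MonObj GrpObj AlgebraicGeometry

namespace K957.UnivDesc

variable {S : Scheme.{u}} {G X Y X' Y' : Over S} [GrpObj G] {a : AlgGrp.Action G X} {φ : X ⟶ Y}
  {α : Y' ⟶ Y} {pr : X' ⟶ X} {φ' : X' ⟶ Y'} {a' : AlgGrp.Action G X'}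

theorem isUnivGeomQuot [Flat α.left] [Surjective α.left] [QuasiCompact α.left] [QuasiCompact φ.left]
    (hinv : GIT.IsInvariant a φ) (hpb : IsPullback pr φ' φ α) (heq : a'.act ≫ pr = (G ◁ pr) ≫ a.act)
    (hinv' : GIT.IsInvariant a' φ')
    (h : GIT.IsUnivGeomQuot a' φ') : GIT.IsUnivGeomQuot a φ := by
  refine ⟨GeomDesc.isGeomQuot hinv hpb heq h.1, fun X₁ Y₁ pr₁ φ₁ g _ H₁ a₁ heq₁ hinv₁ => ?_⟩
  let α₂ := pullback.fst g α
  let g₂ := pullback.snd g α
  have HY : IsPullback α₂ g₂ g α := IsPullback.of_hasPullback g α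
  let pr₂ := pullback.fst φ₁ α₂
  let φ₂ := pullback.snd φ₁ α₂
  have H₂ : IsPullback pr₂ φ₂ φ₁ α₂ := IsPullback.of_hasPullback φ₁ α₂
  have H₃ : IsPullback (pr₂ ≫ pr₁) φ₂ φ (α₂ ≫ g) := H₂.paste_horiz H₁
  rw [HY.w] at H₃
  let u := hpb.lift (pr₂ ≫ pr₁) (φ₂ ≫ g₂) (by rw [H₃.w, Category.assoc])
  have u1 : u ≫ pr = pr₂ ≫ pr₁ := hpb.lift_fst _ _ _
  have u2 : u ≫ φ' = φ₂ ≫ g₂ := hpb.lift_snd _ _ _
  have H₄ : IsPullback u φ₂ φ' g₂ := IsPullback.of_right (by rw [u1]; exact H₃) u2 hpb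
  let a₂ := BaseChange.action a₁ hinv₁ H₂
  have e1 : a₂.act ≫ u = (G ◁ u) ≫ a'.act := by
    apply hpb.hom_ext
    · rw [Category.assoc, Category.assoc, u1, heq, ← Category.assoc, BaseChange.action_pr,
        Category.assoc, heq₁, ← MonoidalCategory.whiskerLeft_comp_assoc (W := G),
        ← MonoidalCategory.whiskerLeft_comp_assoc (W := G), u1]
    · rw [Category.assoc, Category.assoc, u2, hinv', ← Category.assoc,
        BaseChange.isInvariant a₁ hinv₁ H₂, Category.assoc, whiskerLeft_snd_assoc, u2]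
  have h2 := h.2 u φ₂ g₂ trivial H₄ a₂ e1 (BaseChange.isInvariant a₁ hinv₁ H₂)
  have HYl : IsPullback α₂.left g₂.left g.left α.left := HY.map (Over.forget S)
  have i1 : Flat α₂.left := MorphismProperty.of_isPullback HYl.flip ‹_›
  have i2 : Surjective α₂.left := MorphismProperty.of_isPullback HYl.flip ‹_›
  have i3 : QuasiCompact α₂.left := MorphismProperty.of_isPullback HYl.flip ‹_›
  have H₁l : IsPullback pr₁.left φ₁.left φ.left g.left := H₁.map (Over.forget S)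
  have i4 : QuasiCompact φ₁.left := MorphismProperty.of_isPullback H₁l ‹_›
  exact GeomDesc.isGeomQuot hinv₁ H₂ (BaseChange.action_pr a₁ hinv₁ H₂) h2

end K957.UnivDesc
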